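import Cfsg.Agent.Lib.SNineThree.Interface
import Cfsg.Agent.Lib.Base.Cores
import Cfsg.Agent.Lib.Coprime.Action2
import Cfsg.Agent.Lib.Transfer.NormalPComplement

/-!
General tools for the centralizer of `(0 3)(1 4)(2 5)`.
-/

set_option autoImplicit false
set_option linter.style.haveILetI false
set_option linter.unusedSectionVars false

namespace CfsgLib.SNineThree.CentTau

open Subgroup

universe u

variable {G : Type u} [Group G] [Finite G]

theorem three_pow_mem_residual (g : G) : ∃ k : ℕ, g ^ 3 ^ k ∈ Cfsg.pResidual 3 G := by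
  obtain ⟨k, m, hm, he⟩ := Nat.exists_eq_pow_mul_and_not_dvd (orderOf_pos g).ne' 3 (by norm_num)
  refine ⟨k, subset_closure ?_⟩
  show Nat.Coprime (orderOf (g ^ 3 ^ k)) 3
  rw [orderOf_pow_of_dvd (by positivity) ⟨m, he⟩, he, Nat.mul_div_cancel_left _ (by positivity)]
  exact ((Nat.Prime.coprime_iff_not_dvd Nat.prime_three).2 hm).symm

theorem eq_one_of_pow_three_pow {g : G} {k n : ℕ} (hn : Nat.Coprime n 3) (h : g ^ n = 1)
    (h3 : g ^ 3 ^ k = 1) : g = 1 := by
  refine orderOf_eq_one_iff.1 (Nat.eq_one_of_dvd_coprimes (hn.pow_right k)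
    (orderOf_dvd_of_pow_eq_one h) (orderOf_dvd_of_pow_eq_one h3))

theorem coprime_of_pow_eq_one {g : G} {n : ℕ} (hn : Nat.Coprime n 3) (h : g ^ n = 1) :
    Nat.Coprime (orderOf g) 3 :=
  hn.coprime_dvd_left (orderOf_dvd_of_pow_eq_one h)

theorem pow_card_sub {W : Subgroup G} {w : G} (hw : w ∈ W) : w ^ Nat.card W = 1 :=
  congrArg Subtype.val (pow_card_eq_one' (x := (⟨w, hw⟩ : W)))

theorem eq_one_of_coprime_cube {W : Subgroup G} (hW : (Nat.card W).Coprime 3) {w : G}
    (hw : w ∈ W) (h3 : w ^ 3 = 1) : w = 1 :=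
  eq_one_of_pow_three_pow (k := 1) hW (pow_card_sub hw) (by simpa using h3)

theorem sylow_exists {C Q : Subgroup G} (hQC : Q ≤ C) (hQ : IsPGroup 3 Q)
    (hn : ∀ t ∈ C, (∃ k, t ^ 3 ^ k = 1) → t ∈ normalizer (Q : Set G) → t ∈ Q) :
    ∃ T : Sylow 3 C, (T : Subgroup C) = Q.subgroupOf C := by
  haveI : Fact (Nat.Prime 3) := ⟨Nat.prime_three⟩
  have hp : IsPGroup 3 (Q.subgroupOf C) := hQ.comap_subtype
  obtain ⟨T, hT⟩ := hp.exists_le_sylow
  refine ⟨T, le_antisymm ?_ hT⟩
  by_contra hne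
  set A := (Q.subgroupOf C).subgroupOf (T : Subgroup C) with hA
  haveI := IsPGroup.isNilpotent T.2
  have hlt : A < ⊤ := lt_top_iff_ne_top.2 fun e => hne (subgroupOf_eq_top.1 e)
  obtain ⟨t, htN, htA⟩ := SetLike.exists_of_lt (Group.normalizerCondition_of_isNilpotent A hlt)
  refine htA (hn ((t : C) : G) (t : C).2 ?_ (mem_normalizer_fintype fun q hq => ?_))
  · obtain ⟨k, hk⟩ := T.2 t
    exact ⟨k, congrArg (fun w : (T : Subgroup C) => ((w : C) : G)) hk⟩
  · have hqT : (⟨q, hQC hq⟩ : C) ∈ (T : Subgroup C) := hT hq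
    exact (mem_set_normalizer_iff.1 htN ⟨⟨q, hQC hq⟩, hqT⟩).1 hq

/-- Every three-subgroup is conjugate into a self-normalizing one. -/
theorem sylow_conj {C Q T : Subgroup G} (hQC : Q ≤ C) (hQ : IsPGroup 3 Q)
    (hn : ∀ t ∈ C, (∃ k, t ^ 3 ^ k = 1) → t ∈ normalizer (Q : Set G) → t ∈ Q)
    (hTC : T ≤ C) (hT : IsPGroup 3 T) : ∃ g ∈ C, ∀ t ∈ T, g * t * g⁻¹ ∈ Q := by
  haveI : Fact (Nat.Prime 3) := ⟨Nat.prime_three⟩
  obtain ⟨S, hS⟩ := sylow_exists hQC hQ hn
  obtain ⟨R, hR⟩ := (hT.comap_subtype (K := C)).exists_le_sylow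
  obtain ⟨g, hg⟩ := MulAction.exists_smul_eq C R S
  refine ⟨g, g.2, fun t ht => ?_⟩
  have h1 : g * ⟨t, hTC ht⟩ * g⁻¹ ∈ (S : Subgroup C) := by
    rw [← hg, Sylow.coe_subgroup_smul]
    exact mem_map_of_mem _ (hR ht)
  rw [hS, mem_subgroupOf] at h1
  exact h1

theorem not_dvd_of_sylow_nine {T : Sylow 3 G} (h : Nat.card (T : Subgroup G) = 9) :
    ¬ 27 ∣ Nat.card G := by
  haveI : Fact (Nat.Prime 3) := ⟨Nat.prime_three⟩
  intro hd
  obtain ⟨k, hk⟩ := hd
  refine T.not_dvd_index ⟨k, ?_⟩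
  have := (T : Subgroup G).card_mul_index
  rw [h] at this
  omega

/-- A central element of order three in an abelian Sylow subgroup of exponent three splits off. -/
theorem split_central (T : Sylow 3 G) (hc : ∀ a ∈ (T : Subgroup G), ∀ b ∈ (T : Subgroup G),
      a * b = b * a) (h3 : ∀ a ∈ (T : Subgroup G), a ^ 3 = 1) {c : G}
    (hcen : ∀ g, g * c = c * g) (hc1 : c ≠ 1) (hc3 : c ^ 3 = 1)
    (hgen : (T : Subgroup G) ≤ Cfsg.pResidual 3 G ⊔ zpowers c) :
    c ∉ Cfsg.pResidual 3 G ∧ Cfsg.pResidual 3 G ⊔ zpowers c = ⊤ := by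
  haveI : Fact (Nat.Prime 3) := ⟨Nat.prime_three⟩
  haveI := CfsgLib.Transfer.pResidual_normal (G := G) (p := 3)
  constructor
  · intro hmem
    haveI : IsMulCommutative (T : Subgroup G) :=
      ⟨⟨fun a b => Subtype.ext (hc a a.2 b b.2)⟩⟩
    open scoped IsMulCommutative in
    set φ : G →* (T : Subgroup G) := MonoidHom.transfer (MonoidHom.id _) with hφ
    have hval : ((φ c : (T : Subgroup G)) : G) = c ^ (T : Subgroup G).index := by
      rw [hφ, MonoidHom.transfer_eq_pow _ c fun k g₀ _ => by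
        rw [mul_assoc, (Commute.pow_right (hcen g₀) k).symm.eq, inv_mul_cancel_left]]
      rfl
    have hker : Cfsg.pResidual 3 G ≤ φ.ker := by
      refine (closure_le _).2 fun g hg => MonoidHom.mem_ker.2 ?_
      refine eq_one_of_pow_three_pow (k := 1) (hg : Nat.Coprime (orderOf g) 3) ?_
        (by rw [pow_one]; exact Subtype.ext (h3 _ (φ g).2))
      rw [← map_pow, pow_orderOf_eq_one, map_one]
    rw [MonoidHom.mem_ker.1 (hker hmem), OneMemClass.coe_one] at hval
    have hd := orderOf_dvd_of_pow_eq_one hval.symm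
    rw [orderOf_eq_prime hc3 hc1] at hd
    exact T.not_dvd_index hd
  · set N := Cfsg.pResidual 3 G ⊔ zpowers c with hN
    haveI : (zpowers c).Normal := ⟨fun n hn g => by
      obtain ⟨m, rfl⟩ := mem_zpowers_iff.1 hn
      rw [((show Commute g c from hcen g).zpow_right m).eq, mul_inv_cancel_right]
      exact zpow_mem (mem_zpowers _) _⟩
    haveI : N.Normal := by rw [hN]; infer_instance
    have hco : ¬ 3 ∣ N.index := fun hd => T.not_dvd_index (hd.trans (index_dvd_of_le hgen))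
    refine (eq_top_iff' N).2 fun g => ?_
    obtain ⟨m, hm⟩ := three_pow_mem_residual g
    have hm' : g ^ 3 ^ m ∈ N := mem_sup_left hm
    have hmi : g ^ N.index ∈ N := pow_index_mem N g
    rw [← QuotientGroup.eq_one_iff] at hm' hmi ⊢
    rw [QuotientGroup.mk_pow] at hm' hmi
    exact eq_one_of_pow_three_pow
      ((Nat.Prime.coprime_iff_not_dvd Nat.prime_three).2 hco).symm hmi hm'

theorem residual_map {C : Subgroup G} {g : G} (hg : g ∈ normalizer (C : Set G)) {m : G}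
    (hm : m ∈ (Cfsg.pResidual 3 C).map C.subtype) :
    g * m * g⁻¹ ∈ (Cfsg.pResidual 3 C).map C.subtype := by
  suffices h : ((Cfsg.pResidual 3 C).map C.subtype).map (MulAut.conj g).toMonoidHom ≤
      (Cfsg.pResidual 3 C).map C.subtype from h ⟨m, hm, rfl⟩
  rw [Cfsg.pResidual, map_map, MonoidHom.map_closure, closure_le]
  rintro _ ⟨a, ha, rfl⟩
  refine ⟨⟨g * (a : G) * g⁻¹, (mem_set_normalizer_iff.1 hg _).1 a.2⟩, subset_closure ?_, rfl⟩
  show Nat.Coprime _ 3
  refine (ha : Nat.Coprime (orderOf a) 3).coprime_dvd_left (orderOf_dvd_of_pow_eq_one ?_)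
  refine Subtype.ext ?_
  rw [SubmonoidClass.coe_pow, conj_pow, OneMemClass.coe_one, ← SubmonoidClass.coe_pow,
    pow_orderOf_eq_one, OneMemClass.coe_one, mul_one, mul_inv_cancel]

/-- `SelfThree` modulo a normal subgroup of order prime to three. -/
theorem self_three_mod (hT : StmtSelfThree.{u}) (R M E W0 : Subgroup G) [R.Normal] (x₀ : G)
    (hR : (Nat.card R).Coprime 3) (hRM : R ≤ M) (hE : IsPGroup 3 E)
    (hEM : E ≤ normalizer (M : Set G)) (hxM : x₀ ∈ M) (hx3 : orderOf x₀ = 3)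
    (hc : ∀ g ∈ M, g * x₀ * g⁻¹ * x₀⁻¹ ∈ R → g ∈ zpowers x₀ ⊔ R)
    (hW0 : (Nat.card W0).Coprime 3)
    (hbound : ∀ W : Subgroup G, W ≤ M → (Nat.card W).Coprime 3 →
      E ≤ normalizer (W : Set G) → W ≤ W0) :
    ∃ O : Subgroup G, R ≤ O ∧ O ≤ M ∧ O ≤ W0 ∧ (Nat.card O).Coprime 3 ∧
      M ≤ normalizer (O : Set G) ∧ M ≤ normalizer ((zpowers x₀ ⊔ O : Subgroup G) : Set G) := by
  set π := QuotientGroup.mk' R with hπ
  have hπs : Function.Surjective π := QuotientGroup.mk'_surjective R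
  have hker : π.ker = R := QuotientGroup.ker_mk' R
  have hcomap : ∀ H : Subgroup G, R ≤ H → (H.map π).comap π = H := fun H hH => by
    rw [comap_map_eq, hker, sup_of_le_left hH]
  have hx1 : π x₀ ≠ 1 := fun e => by
    have h1 : x₀ = 1 := eq_one_of_coprime_cube hR ((QuotientGroup.eq_one_iff _).1 e)
      (hx3 ▸ pow_orderOf_eq_one x₀)
    rw [h1, orderOf_one] at hx3
    omega
  have hX : Nat.card ((zpowers x₀).map π) = 3 := by
    haveI : Fact (Nat.Prime 3) := ⟨Nat.prime_three⟩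
    rw [MonoidHom.map_zpowers, Nat.card_zpowers]
    exact orderOf_eq_prime (by rw [← map_pow, ← hx3, pow_orderOf_eq_one, map_one]) hx1
  have hcX : centralizer (((zpowers x₀).map π : Subgroup (G ⧸ R)) : Set (G ⧸ R)) ⊓ M.map π =
      (zpowers x₀).map π := by
    refine le_antisymm ?_ (le_inf ?_ (map_mono (zpowers_le.2 hxM)))
    · rintro _ ⟨hc', g, hg, rfl⟩
      have h := mem_centralizer_iff.1 hc' (π x₀) (mem_map_of_mem _ (mem_zpowers x₀))
      have h' : g * x₀ * g⁻¹ * x₀⁻¹ ∈ R := by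
        rw [← hker, MonoidHom.mem_ker, map_mul, map_mul, map_mul, map_inv, map_inv, ← h,
          mul_inv_cancel_right, mul_inv_cancel]
      have := mem_map_of_mem π (hc g hg h')
      rw [Subgroup.map_sup, QuotientGroup.map_mk'_self, sup_bot_eq] at this
      exact this
    · rintro _ ⟨a, ha, rfl⟩
      rw [mem_centralizer_iff]
      rintro _ ⟨b, hb, rfl⟩
      obtain ⟨i, rfl⟩ := mem_zpowers_iff.1 ha
      obtain ⟨j, rfl⟩ := mem_zpowers_iff.1 hb
      rw [← map_mul, ← map_mul, ← zpow_add, ← zpow_add, add_comm]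
  have hpull : ∀ W : Subgroup (G ⧸ R), (Nat.card W).Coprime 3 →
      (Nat.card (W.comap π)).Coprime 3 := fun W hW => by
    rw [hπ, CfsgLib.Base.card_comap_mk']
    exact Nat.Coprime.mul_left hR hW
  have hnpull : ∀ {H : Subgroup G} {W : Subgroup (G ⧸ R)},
      H.map π ≤ normalizer (W : Set (G ⧸ R)) → H ≤ normalizer ((W.comap π : Subgroup G) : Set G) :=
    fun {H W} h => (map_le_iff_le_comap.1 h).trans (le_normalizer_comap π)
  have hEM' : E.map π ≤ normalizer ((M.map π : Subgroup (G ⧸ R)) : Set (G ⧸ R)) :=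
    (map_mono hEM).trans (le_normalizer_map π)
  have hW0' : (Nat.card (W0.map π)).Coprime 3 := hW0.coprime_dvd_left (card_map_dvd W0 π)
  have hb' : ∀ W : Subgroup (G ⧸ R), W ≤ M.map π → (Nat.card W).Coprime 3 →
      E.map π ≤ normalizer (W : Set (G ⧸ R)) → W ≤ W0.map π := by
    intro W hWM hW hWE
    have h := hbound (W.comap π) ((comap_mono hWM).trans (hcomap M hRM).le) (hpull W hW) (hnpull hWE)
    have h' := map_mono (f := π) h
    rwa [map_comap_eq_self_of_surjective hπs W] at h'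
  have hXle : (zpowers x₀).map π ≤ M.map π := map_mono (zpowers_le.2 hxM)
  obtain ⟨O, hOM, hOW, hO3, hEOn, hMO, hMXO⟩ := hT (M.map π) (E.map π) ((zpowers x₀).map π)
    (W0.map π) (hE.map π) hEM' hXle hX hcX hW0' hb'
  have hRO : R ≤ O.comap π := hker.ge.trans (ker_le_comap π O)
  have hle : O.comap π ≤ M := by rw [← hcomap M hRM]; exact comap_mono hOM
  have hEO : E ≤ normalizer ((O.comap π : Subgroup G) : Set G) := hnpull hEOn
  refine ⟨O.comap π, hRO, hle, hbound _ hle (hpull O hO3) hEO, hpull O hO3, hnpull hMO, ?_⟩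
  have he : zpowers x₀ ⊔ O.comap π = ((zpowers x₀).map π ⊔ O).comap π := by
    rw [← hcomap (zpowers x₀ ⊔ O.comap π) (hRO.trans le_sup_right), Subgroup.map_sup,
      map_comap_eq_self_of_surjective hπs]
  rw [he]
  exact hnpull hMXO

end CfsgLib.SNineThree.CentTau
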