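import Cfsg.Agent.Lib.SNineThree.Basic
import Cfsg.Agent.Lib.ANineThree.CaseB

/-!
The group of order 27 of the model, and the elements of order three of the even model.
-/

set_option autoImplicit false
set_option maxRecDepth 100000

namespace CfsgLib.SNineThree

open Equiv Subgroup
open CfsgLib.ANineThree (P9 Hm InJ zH z2H z3H pH mem_Hm)

theorem block_lt : ∀ i : Fin 9, 3 * (i.1 / 3) < 9 ∧ i.1 % 3 < 3 := by decide +kernel

/-- The element `z^a z2^b z3^c`. -/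
def j3 (a b c : Fin 3) : P9 := ANineThree.z ^ a.1 * ANineThree.z2 ^ b.1 * ANineThree.z3 ^ c.1

theorem j3_apply : ∀ a b c : Fin 3, ∀ i : Fin 9,
    (j3 a b c i).1 = 3 * (i.1 / 3) + (i.1 + if i.1 < 3 then a.1 else if i.1 < 6 then b.1 else c.1) % 3
    := by decide +kernel

theorem x_apply : ∀ i : Fin 9, (ANineThree.x i).1 = 3 * (i.1 / 3) + (i.1 + 1) % 3 := by
  decide +kernel

theorem j3_mem : ∀ a b c : Fin 3, j3 a b c ∈ J0 ∧ Perm.sign (j3 a b c) = 1 ∧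
    j3 a b c ^ 3 = 1 := by decide +kernel

theorem exists_j3 {σ : P9} (h : σ ∈ J0) : ∃ a b c : Fin 3, σ = j3 a b c := by
  obtain ⟨hc, hb⟩ := mem_J0.1 h
  have step : ∀ i : Fin 9, (σ (ANineThree.x i)).1 = 3 * ((σ i).1 / 3) + ((σ i).1 + 1) % 3 :=
    fun i => by
      rw [← x_apply]; exact congrArg Fin.val (Equiv.congr_fun hc i)
  have e : ∀ i : Fin 9, (σ i).1 =
      3 * (i.1 / 3) + ((σ ⟨3 * (i.1 / 3), (block_lt i).1⟩).1 + i.1) % 3 := by
    have hb' : ∀ i : Fin 9, (σ i).1 / 3 = i.1 / 3 := hb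
    have x1 : ∀ (i j : Fin 9), (ANineThree.x i) = j →
        (σ j).1 = 3 * ((σ i).1 / 3) + ((σ i).1 + 1) % 3 := fun i j e => e ▸ step i
    have e01 := x1 0 1 (by decide +kernel)
    have e12 := x1 1 2 (by decide +kernel)
    have e34 := x1 3 4 (by decide +kernel)
    have e45 := x1 4 5 (by decide +kernel)
    have e67 := x1 6 7 (by decide +kernel)
    have e78 := x1 7 8 (by decide +kernel)
    have h0 : (σ 0).1 / 3 = 0 := hb' 0
    have h3 : (σ 3).1 / 3 = 1 := hb' 3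
    have h6 : (σ 6).1 / 3 = 2 := hb' 6
    intro i
    fin_cases i
    · show (σ 0).1 = 0 + ((σ 0).1 + 0) % 3; omega
    · show (σ 1).1 = 0 + ((σ 0).1 + 1) % 3; omega
    · show (σ 2).1 = 0 + ((σ 0).1 + 2) % 3; omega
    · show (σ 3).1 = 3 + ((σ 3).1 + 3) % 3; omega
    · show (σ 4).1 = 3 + ((σ 3).1 + 4) % 3; omega
    · show (σ 5).1 = 3 + ((σ 3).1 + 5) % 3; omega
    · show (σ 6).1 = 6 + ((σ 6).1 + 6) % 3; omega
    · show (σ 7).1 = 6 + ((σ 6).1 + 7) % 3; omega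
    · show (σ 8).1 = 6 + ((σ 6).1 + 8) % 3; omega
  refine ⟨⟨(σ 0).1 % 3, Nat.mod_lt _ (by norm_num)⟩, ⟨(σ 3).1 % 3, Nat.mod_lt _ (by norm_num)⟩,
    ⟨(σ 6).1 % 3, Nat.mod_lt _ (by norm_num)⟩, ?_⟩
  ext i
  rw [j3_apply, e i]
  fin_cases i
  · show 0 + ((σ 0).1 + 0) % 3 = 0 + (0 + (σ 0).1 % 3) % 3; omega
  · show 0 + ((σ 0).1 + 1) % 3 = 0 + (1 + (σ 0).1 % 3) % 3; omega
  · show 0 + ((σ 0).1 + 2) % 3 = 0 + (2 + (σ 0).1 % 3) % 3; omega
  · show 3 + ((σ 3).1 + 3) % 3 = 3 + (3 + (σ 3).1 % 3) % 3; omega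
  · show 3 + ((σ 3).1 + 4) % 3 = 3 + (4 + (σ 3).1 % 3) % 3; omega
  · show 3 + ((σ 3).1 + 5) % 3 = 3 + (5 + (σ 3).1 % 3) % 3; omega
  · show 6 + ((σ 6).1 + 6) % 3 = 6 + (6 + (σ 6).1 % 3) % 3; omega
  · show 6 + ((σ 6).1 + 7) % 3 = 6 + (7 + (σ 6).1 % 3) % 3; omega
  · show 6 + ((σ 6).1 + 8) % 3 = 6 + (8 + (σ 6).1 % 3) % 3; omega

theorem J0_eq : J0 = closure {ANineThree.z, ANineThree.z2, ANineThree.z3} := by
  refine le_antisymm (fun σ hσ => ?_) ((Subgroup.closure_le _).2 ?_)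
  · obtain ⟨a, b, c, rfl⟩ := exists_j3 hσ
    exact mul_mem (mul_mem (pow_mem (subset_closure (by simp)) _)
      (pow_mem (subset_closure (by simp)) _)) (pow_mem (subset_closure (by simp)) _)
  · intro σ hσ
    simp only [Set.mem_insert_iff, Set.mem_singleton_iff] at hσ
    rcases hσ with rfl | rfl | rfl <;> (show (_ : P9) ∈ J0) <;> decide +kernel

theorem J0_facts {σ : P9} (h : σ ∈ J0) : Perm.sign σ = 1 ∧ σ ^ 3 = 1 := by
  obtain ⟨a, b, c, rfl⟩ := exists_j3 h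
  exact ⟨(j3_mem a b c).2.1, (j3_mem a b c).2.2⟩

theorem gen_comm : ANineThree.z * ANineThree.z2 = ANineThree.z2 * ANineThree.z ∧
    ANineThree.z * ANineThree.z3 = ANineThree.z3 * ANineThree.z ∧
    ANineThree.z2 * ANineThree.z3 = ANineThree.z3 * ANineThree.z2 := by decide +kernel

theorem J0_comm {a b : P9} (ha : a ∈ J0) (hb : b ∈ J0) : a * b = b * a := by
  obtain ⟨a₁, b₁, c₁, rfl⟩ := exists_j3 ha
  obtain ⟨a₂, b₂, c₂, rfl⟩ := exists_j3 hb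
  obtain ⟨h1, h2, h3⟩ := gen_comm
  refine Commute.eq ?_
  unfold j3
  refine Commute.mul_left (Commute.mul_left ?_ ?_) ?_ <;>
    refine Commute.mul_right (Commute.mul_right ?_ ?_) ?_ <;> refine Commute.pow_pow ?_ _ _
  exacts [Commute.refl _, h1, h2, h1.symm, Commute.refl _, h3, h2.symm, h3.symm, Commute.refl _]

theorem J0_le_Hm : J0 ≤ Hm := fun _ h =>
  mem_Hm.2 ⟨(J0_facts h).1, mem_B.1 (J0_le_B h)⟩

theorem Hm_le_B : Hm ≤ B := fun _ h => mem_B.2 (mem_Hm.1 h).2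

theorem three_comm : ∀ f : Fin 3 → Fin 3, (∀ k, f (f (f k)) = k) →
    ∀ k, f (k + 1) = f k + 1 := by decide +kernel

theorem mem_J0_of_InJ {h : Hm} (hh : InJ h) : (h : P9) ∈ J0 := by
  refine mem_J0.2 ⟨Equiv.ext fun i => Fin.ext ?_, hh.2⟩
  have hb := hh.2
  obtain ⟨σ, hσ⟩ : ∃ σ : P9, σ = (h : P9) := ⟨_, rfl⟩
  rw [← hσ] at hb ⊢
  have h3 : ∀ j, σ (σ (σ j)) = j := fun j => by
    have := Equiv.congr_fun hh.1 j
    simpa [pow_succ, ← hσ] using this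
  show (σ (ANineThree.x i)).1 = (ANineThree.x (σ i)).1
  have hf : ∀ k : Fin 3, 3 * (i.1 / 3) + k.1 < 9 := fun k => by omega
  have key := three_comm (fun k => ⟨(σ ⟨_, hf k⟩).1 % 3, Nat.mod_lt _ (by norm_num)⟩)
    (fun k => by
      apply Fin.ext
      have e : ∀ j : Fin 9, j.1 / 3 = i.1 / 3 →
          (⟨_, hf ⟨(σ j).1 % 3, Nat.mod_lt _ (by norm_num)⟩⟩ : Fin 9) = σ j := fun j hj =>
        Fin.ext (by have := hb j; simp only; omega)
      simp only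
      have j1 : (⟨_, hf k⟩ : Fin 9).1 / 3 = i.1 / 3 := by show (3 * (i.1 / 3) + k.1) / 3 = _; omega
      rw [e _ j1, e _ ((hb _).trans j1), h3]
      show (3 * (i.1 / 3) + k.1) % 3 = k.1
      omega) ⟨i.1 % 3, Nat.mod_lt _ (by norm_num)⟩
  have key' := congrArg Fin.val key
  simp only [Fin.val_add] at key'
  have e1 : (⟨_, hf (⟨i.1 % 3, Nat.mod_lt _ (by norm_num)⟩ + 1)⟩ : Fin 9) = ANineThree.x i :=
    Fin.ext (by rw [x_apply]; simp only [Fin.val_add, Fin.val_one]; omega)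
  have e2 : (⟨_, hf ⟨i.1 % 3, Nat.mod_lt _ (by norm_num)⟩⟩ : Fin 9) = i :=
    Fin.ext (by simp only; omega)
  have key2 : (σ (ANineThree.x i)).1 % 3 = ((σ i).1 % 3 + 1) % 3 := by
    rw [← e1, ← congrArg σ e2]
    simpa only [Fin.val_add, Fin.val_one] using key'
  have a1 := hb (ANineThree.x i)
  have a2 := hb i
  have a3 := x_apply i
  rw [x_apply (σ i)]
  omega

open ANineThree.CaseB in
theorem exists_conj_p (b : Hm) (hb3 : (b : P9) ^ 3 = 1) (hbJ : ¬ InJ b) :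
    ∃ d : Hm, d * b * d⁻¹ = pH := by
  have hJ : CfsgLib.CubeSFour.inJ (Cfsg.Agent.S3702.enc (b : P9)) = false :=
    Bool.eq_false_iff.2 fun h => hbJ ((inJ_iff_InJ b).1 h)
  have h := List.all_eq_true.mp out_reps _ (enc_mem_KL b.2)
  rw [← Cfsg.Agent.S3702.enc_pow, hb3, Cfsg.Agent.S3702.enc_one, beq_self_eq_true,
    Bool.not_true, Bool.false_or, hJ, Bool.false_or] at h
  obtain ⟨k, hk, hk'⟩ := List.any_eq_true.mp h
  obtain ⟨d, hd⟩ := exists_conj_code (a := b) hk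
  exact ⟨d, Subtype.ext (Cfsg.Agent.S3702.enc_injective (hd.trans (beq_iff_eq.mp hk')))⟩

end CfsgLib.SNineThree
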