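import Cfsg.Agent.Lib.SNineThree.Interface
import Cfsg.Agent.Lib.SNineThree.Model0
import Cfsg.Agent.Lib.ANineThree.Interface
import Cfsg.Agent.Lib.Base.Cores
import Cfsg.Agent.S2119

/-!
The recognition of the symmetric group of degree nine from the pieces.
-/

set_option autoImplicit false
set_option linter.style.haveILetI false

namespace CfsgLib.SNineThree

open Equiv Subgroup
open CfsgLib.ANineThree (P9 Hm InJ zH z2H z3H pH mem_Hm)

universe u

/-- The recognition of the alternating group of degree nine. -/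
def StmtNine : Prop := ∀ {G : Type u} [Group G] [Finite G] (S : ANineThree.Data G),
  S.e.range = ⊤ ∨ Nonempty (G ≃* alternatingGroup (Fin 9))

variable {G : Type u} [Group G]

theorem units_cube (V : G →* ℤˣ) {g : G} (h : g ^ 3 = 1) : V g = 1 := by
  rcases Int.units_eq_one_or (V g) with e | e
  · exact e
  · have h1 := congrArg V h
    rw [map_pow, map_one, e] at h1
    exact absurd h1 (by decide)

theorem Loc.J_le_ker {S : Subgroup P9} (L : Loc S G) (V : G →* ℤˣ) : L.J ≤ V.ker := fun g hg => by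
  obtain ⟨σ, hσ, rfl⟩ := L.mem_J.1 hg
  exact units_cube V (by rw [← L.el_pow (L.J0_le hσ), (J0_facts hσ).2, L.el_one])

theorem Loc.restrict_mem_J {S : Subgroup P9} (L : Loc S G) (K : Subgroup G) (S' : Subgroup P9)
    (hJ : L.J ≤ K) (hS : ∀ σ : P9, σ ∈ S' ↔ σ ∈ S ∧ L.el σ ∈ K) (k : K) :
    k ∈ (L.restrict K S' hJ hS).J ↔ (k : G) ∈ L.J := by
  constructor
  · intro hk
    obtain ⟨σ, hσ, rfl⟩ := (L.restrict K S' hJ hS).mem_J.1 hk
    rw [L.restrict_el K S' hJ hS ((L.restrict K S' hJ hS).J0_le hσ)]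
    exact L.mem_J.2 ⟨σ, hσ, rfl⟩
  · intro hk
    obtain ⟨σ, hσ, e⟩ := L.mem_J.1 hk
    refine (L.restrict K S' hJ hS).mem_J.2 ⟨σ, hσ, Subtype.ext ?_⟩
    rw [L.restrict_el K S' hJ hS ((L.restrict K S' hJ hS).J0_le hσ), e]

/-- The core of the centralizer of an element centralizing `J` is trivial. -/
theorem core_cent_eq_bot [Finite G] {S : Subgroup P9} (L : Loc S G) (K : Subgroup G) (hK : K.Normal)
    (hJ : L.J ≤ K) (k : K) (g : G) (hc : ∀ j ∈ L.J, j * (g * k * g⁻¹) = g * k * g⁻¹ * j) :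
    Cfsg.pPrimeCore 3 (centralizer ({k} : Set K)) = ⊥ := by
  let C := centralizer ({k} : Set K)
  let φ : C →* G := (MulAut.conj g).toMonoidHom.comp (K.subtype.comp C.subtype)
  have hφ : Function.Injective φ :=
    (MulAut.conj g).injective.comp (K.subtype_injective.comp C.subtype_injective)
  have hco : (Nat.card ((Cfsg.pPrimeCore 3 C).map φ)).Coprime 3 := by
    rw [Subgroup.card_map_of_injective hφ]
    exact Base.pPrimeCore_coprime 3 C
  haveI : (Cfsg.pPrimeCore 3 C).Normal := inferInstance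
  have hn : ∀ j ∈ L.J, ∀ w ∈ (Cfsg.pPrimeCore 3 C).map φ,
      j * w * j⁻¹ ∈ (Cfsg.pPrimeCore 3 C).map φ := by
    rintro j hj w ⟨c, hcm, rfl⟩
    have hjK : g⁻¹ * j * g ∈ K := by simpa using hK.conj_mem j (hJ hj) g⁻¹
    have hjC : (⟨_, hjK⟩ : K) ∈ C := mem_centralizer_singleton_iff.2 (Subtype.ext (by
      show g⁻¹ * j * g * (k : G) = (k : G) * (g⁻¹ * j * g)
      calc g⁻¹ * j * g * (k : G) = g⁻¹ * (j * (g * k * g⁻¹)) * g := by group
        _ = (k : G) * (g⁻¹ * j * g) := by rw [hc j hj]; group))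
    refine ⟨⟨_, hjC⟩ * c * ⟨_, hjC⟩⁻¹, Subgroup.Normal.conj_mem ‹_› c hcm _, ?_⟩
    show g * ((g⁻¹ * j * g) * ((c : K) : G) * (g⁻¹ * j * g)⁻¹) * g⁻¹ =
      j * (g * ((c : K) : G) * g⁻¹) * j⁻¹
    group
  exact (Subgroup.map_eq_bot_iff_of_injective _ hφ).1 (L.signalizer _ hco hn)

theorem J_comm {S : Subgroup P9} (L : Loc S G) {σ : P9} (hσ : σ ∈ J0) :
    ∀ j ∈ L.J, j * L.el σ = L.el σ * j := fun j hj => by
  obtain ⟨ρ, hρ, rfl⟩ := L.mem_J.1 hj
  exact (L.commute_el (L.J0_le hρ) (L.J0_le hσ)).2 (J0_comm hρ hσ)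

/-- The data for the kernel. -/
theorem data_of_sign [Finite G] (L : Loc B G) (V : G →* ℤˣ)
    (hV : ∀ σ ∈ B, V (L.el σ) = Perm.sign σ)
    (hp : IsConj (L.el ANineThree.p) (L.el ANineThree.x)) :
    ∃ D : ANineThree.Data V.ker, D.e.range.map V.ker.subtype ≤ normalizer (L.J : Set G) := by
  have hS : ∀ σ : P9, σ ∈ Hm ↔ σ ∈ B ∧ L.el σ ∈ V.ker := fun σ => by
    constructor
    · intro h
      exact ⟨Hm_le_B h, by rw [MonoidHom.mem_ker, hV σ (Hm_le_B h), (mem_Hm.1 h).1]⟩
    · rintro ⟨hb, hk⟩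
      exact mem_Hm.2 ⟨(hV σ hb).symm.trans hk, mem_B.1 hb⟩
  let L' := L.restrict V.ker Hm (L.J_le_ker V) hS
  have hr : L'.e.range =
      normalizer ((closure {L'.e zH, L'.e z2H, L'.e z3H} : Subgroup V.ker) : Set V.ker) := by
    have e : (J0.subgroupOf Hm).map L'.e = closure {L'.e zH, L'.e z2H, L'.e z3H} := by
      have e1 : J0.subgroupOf Hm = closure {zH, z2H, z3H} := by
        refine Subgroup.map_injective Hm.subtype_injective ?_
        rw [Subgroup.map_subgroupOf_eq_of_le J0_le_Hm, MonoidHom.map_closure, J0_eq]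
        simp only [Set.image_insert_eq, Set.image_singleton]
        rfl
      rw [e1, MonoidHom.map_closure]
      simp only [Set.image_insert_eq, Set.image_singleton]
    rw [← e]
    exact L'.range_eq
  refine ⟨⟨L'.e, L'.inj, hr, fun h hh => ?_⟩, ?_⟩
  · have hhB : (h : P9) ∈ B := Hm_le_B h.2
    have hcoe : ((L'.e h : V.ker) : G) = L.el h := by
      rw [← L'.el_eq h.2]; exact L.restrict_el _ _ _ hS h.2
    have h3 : (h : P9) ^ 3 = 1 := by
      rw [← hh]; exact congrArg Subtype.val (pow_orderOf_eq_one h)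
    by_cases hJ : InJ h
    · refine core_cent_eq_bot L _ inferInstance (L.J_le_ker V) _ 1 fun j hj => ?_
      rw [one_mul, inv_one, mul_one, hcoe]
      exact J_comm L (mem_J0_of_InJ hJ) j hj
    · obtain ⟨d, hd⟩ := exists_conj_p h h3 hJ
      obtain ⟨g, hg⟩ := isConj_iff.1 hp
      refine core_cent_eq_bot L _ inferInstance (L.J_le_ker V) _ (g * L.el d) fun j hj => ?_
      have e : g * L.el d * (L'.e h : G) * (g * L.el d)⁻¹ = L.el ANineThree.x := by
        have hd' : (d : P9) * h * (d : P9)⁻¹ = ANineThree.p := congrArg Subtype.val hd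
        rw [hcoe, ← hg, ← hd', L.el_conj (Hm_le_B d.2) hhB]
        group
      rw [e]
      exact J_comm L (mem_J0.2 ⟨rfl, by decide +kernel⟩) j hj
  · rw [← L.range_normalizer]
    rintro _ ⟨_, ⟨s, rfl⟩, rfl⟩
    show ((L'.e s : V.ker) : G) ∈ L.e.range
    rw [← L'.el_eq s.2, L.restrict_el _ _ _ hS s.2]
    exact L.el_mem (Hm_le_B s.2)

theorem equiv_sym_nine [Finite G] (V : G →* ℤˣ) (hV : V.range = ⊤)
    (e : V.ker ≃* alternatingGroup (Fin 9))
    (hC : centralizer (V.ker : Set G) ≤ V.ker) : Nonempty (G ≃* Perm (Fin 9)) := by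
  have hb := Cfsg.Agent.S2119.result 9 (by norm_num) (by norm_num)
  let c : MulAut V.ker ≃* Perm (Fin 9) :=
    (MulAut.congr e).trans (MulEquiv.ofBijective _ hb).symm
  let φ : G →* Perm (Fin 9) := c.toMonoidHom.comp MulAut.conjNormal
  have hinj : Function.Injective φ := by
    rw [← MonoidHom.ker_eq_bot_iff, eq_bot_iff]
    intro g hg
    have h1 : MulAut.conjNormal g = (1 : MulAut V.ker) :=
      c.injective (by rw [map_one]; exact hg)
    have h2 : g ∈ centralizer (V.ker : Set G) := mem_centralizer_iff.2 fun k hk => by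
      have h3 := congrArg Subtype.val (DFunLike.congr_fun h1 ⟨k, hk⟩)
      rw [MulAut.conjNormal_apply] at h3
      exact (mul_inv_eq_iff_eq_mul.1 h3).symm
    have h3 : e ⟨g, hC h2⟩ ∈ Subgroup.center (alternatingGroup (Fin 9)) :=
      Subgroup.mem_center_iff.2 fun a => by
        obtain ⟨b, rfl⟩ := e.surjective a
        rw [← map_mul, ← map_mul]
        exact congrArg e (Subtype.ext (mem_centralizer_iff.1 h2 b.1 b.2))
    rw [alternatingGroup.center_eq_bot (by simp), Subgroup.mem_bot] at h3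
    rw [Subgroup.mem_bot]
    exact congrArg Subtype.val (e.injective (h3.trans (map_one e).symm))
  have hcard : Nat.card G = Nat.card (Perm (Fin 9)) := by
    rw [← V.ker.card_mul_index, Subgroup.index_ker, hV, Subgroup.card_top,
      Nat.card_congr e.toEquiv, nat_card_alternatingGroup, Nat.card_perm]
    simp only [Nat.card_eq_fintype_card, Fintype.card_fin, Fintype.card_units_int]
    norm_num [Nat.factorial]
  exact ⟨MulEquiv.ofBijective φ ((Nat.bijective_iff_injective_and_card _).2 ⟨hinj, hcard⟩)⟩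

/-- The assembly. -/
theorem main (hS : StmtSetup.{u}) (hF : StmtFacts.{u}) (hSm : StmtSmall.{u}) (hH : StmtHom.{u})
    (hN : StmtNine.{u}) {G : Type u} [Group G] [Finite G] (x : G) (hx : orderOf x = 3)
    (eC : centralizer ({x} : Set G) ≃* centralizer ({swap (0 : Fin 9) 1 * swap 1 2 * swap 3 4 *
      swap 4 5 * swap 6 7 * swap 7 8} : Set (Perm (Fin 9))))
    (J : Subgroup G) (hJC : J ≤ centralizer ({x} : Set G)) (hJcomm : IsMulCommutative J)
    (hJexp : ∀ j ∈ J, j ^ 3 = 1) (hJcard : Nat.card J = 27)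
    (hJsig : ∀ K : Subgroup G, (Nat.card K).Coprime 3 →
      (∀ j ∈ J, K.map (MulAut.conj j).toMonoidHom = K) → K = ⊥) :
    J.Normal ∨ Nonempty (G ≃* Perm (Fin 9)) := by
  obtain ⟨S, hS', L, rfl⟩ := hS x hx eC J hJC hJcomm hJexp hJcard hJsig
  by_cases hSB : S = B
  swap
  · rcases hS' with h | h | h | h
    · exact Or.inl (hSm L (Or.inl h))
    · exact Or.inl (hSm L (Or.inr (Or.inl h)))
    · exact Or.inl (hSm L (Or.inr (Or.inr h)))
    · exact absurd h hSB
  subst hSB
  have F := hF L le_rfl (by decide +kernel)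
  obtain ⟨V, hV | ⟨hV, hp⟩⟩ := hH L
  · refine Or.inl (F.normal_of_normal V.ker inferInstance (L.J_le_ker V) ?_)
    have hS4 : ∀ σ : P9, σ ∈ S4 ↔ σ ∈ B ∧ L.el σ ∈ V.ker := fun σ => by
      constructor
      · intro h
        obtain ⟨hb, he⟩ := mem_S4.1 h
        exact ⟨hb, by rw [MonoidHom.mem_ker, hV σ hb, he, Int.units_mul_self]⟩
      · rintro ⟨hb, hk⟩
        refine mem_S4.2 ⟨hb, ?_⟩
        rw [MonoidHom.mem_ker, hV σ hb, mul_eq_one_iff_eq_inv, Int.units_inv_eq_self] at hk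
        exact hk
    have hn := hSm (L.restrict V.ker S4 (L.J_le_ker V) hS4) (Or.inr (Or.inr rfl))
    intro k hk j hj
    have h1 := hn.conj_mem ⟨j, L.J_le_ker V hj⟩ ((L.restrict_mem_J _ _ _ hS4 _).2 hj) ⟨k, hk⟩
    exact (L.restrict_mem_J _ _ _ hS4 _).1 h1
  · obtain ⟨D, hD⟩ := data_of_sign L V hV hp
    rcases hN D with h | h
    · refine Or.inl (F.normal_of_normal V.ker inferInstance (L.J_le_ker V) fun k hk j hj => ?_)
      have hkn : k ∈ normalizer (L.J : Set G) :=
        hD ⟨⟨k, hk⟩, by rw [h]; exact Subgroup.mem_top _, rfl⟩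
      exact (mem_normalizer_iff.1 hkn j).1 hj
    · obtain ⟨e⟩ := h
      refine Or.inr (equiv_sym_nine V ?_ e ?_)
      · rw [eq_top_iff]
        intro v _
        rcases Int.units_eq_one_or v with rfl | rfl
        · exact one_mem _
        · exact ⟨L.el t3, by rw [hV t3 (by decide +kernel)]; decide +kernel⟩
      · intro g hg
        refine L.J_le_ker V ?_
        rw [← F.cent_J]
        exact centralizer_le (SetLike.coe_subset_coe.2 (L.J_le_ker V)) hg

end CfsgLib.SNineThree
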