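import Cfsg.Agent.Lib.ANineThree.Basic

/-!
Groups with the three-local structure of the symmetric group of degree nine: models and local data.

Points are `0, …, 8`; `z, z2, z3, y, x, p` are those of `ANineThree`; `τ0 = (0 3)(1 4)(2 5)`,
`t3 = (6 7)`, `iota = (0 1)(3 4)(6 7)`; `ANineThree.τ = τ0 t3`.
-/

set_option autoImplicit false

namespace CfsgLib.SNineThree

open Equiv Subgroup
open CfsgLib.ANineThree (P9)

universe u

/-- The stabilizer of the partition into three blocks. -/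
def B : Subgroup P9 where
  carrier := {σ | ∀ i j : Fin 9, (σ i).1 / 3 = (σ j).1 / 3 ↔ i.1 / 3 = j.1 / 3}
  one_mem' := fun _ _ => Iff.rfl
  mul_mem' := fun {a b} ha hb i j => (ha (b i) (b j)).trans (hb i j)
  inv_mem' := fun {a} ha i j => by
    have h := ha (a⁻¹ i) (a⁻¹ j)
    simpa using h.symm

theorem mem_B {σ : P9} : σ ∈ B ↔
    ∀ i j : Fin 9, (σ i).1 / 3 = (σ j).1 / 3 ↔ i.1 / 3 = j.1 / 3 := Iff.rfl

instance : DecidablePred (· ∈ B) := fun _ => decidable_of_iff' _ mem_B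

/-- The base group of order 27. -/
def J0 : Subgroup P9 where
  carrier := {σ | σ * ANineThree.x = ANineThree.x * σ ∧ ∀ i : Fin 9, (σ i).1 / 3 = i.1 / 3}
  one_mem' := ⟨by simp, fun _ => rfl⟩
  mul_mem' := fun {a b} ha hb => ⟨by rw [mul_assoc, hb.1, ← mul_assoc, ha.1, mul_assoc],
    fun i => (ha.2 (b i)).trans (hb.2 i)⟩
  inv_mem' := fun {a} ha => ⟨by
      rw [inv_mul_eq_iff_eq_mul, ← mul_assoc, ha.1, mul_inv_cancel_right],
    fun i => by
      have h := ha.2 (a⁻¹ i)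
      simpa using h.symm⟩

theorem mem_J0 {σ : P9} : σ ∈ J0 ↔
    σ * ANineThree.x = ANineThree.x * σ ∧ ∀ i : Fin 9, (σ i).1 / 3 = i.1 / 3 := Iff.rfl

instance : DecidablePred (· ∈ J0) := fun _ => decidable_of_iff' _ mem_J0

theorem J0_le_B : J0 ≤ B := fun σ hσ => mem_B.2 fun i j => by
  rw [(mem_J0.1 hσ).2 i, (mem_J0.1 hσ).2 j]

/-- The image of a block. -/
def bfun (σ : P9) (j : Fin 3) : Fin 3 := ⟨(σ ⟨3 * j.1, by omega⟩).1 / 3, by omega⟩

/-- The parity of a map of three letters. -/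
def par3 (f : Fin 3 → Fin 3) : ℤˣ :=
  if (Finset.univ.filter fun j => f j = j).card = 1 then -1 else 1

/-- The parity of the permutation of the blocks. -/
def bpar (σ : P9) : ℤˣ := par3 (bfun σ)

theorem par3_comp : ∀ f g : Fin 3 → Fin 3, (∀ a b, f a = f b → a = b) →
    (∀ a b, g a = g b → a = b) → par3 (fun j => f (g j)) = par3 f * par3 g := by decide +kernel

theorem bfun_inj {σ : P9} (h : σ ∈ B) : ∀ a b, bfun σ a = bfun σ b → a = b := fun a b e => by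
  have h1 := (mem_B.1 h ⟨3 * a.1, by omega⟩ ⟨3 * b.1, by omega⟩).1 (congrArg Fin.val e)
  apply Fin.ext
  simp only at h1
  omega

theorem bfun_mul {a b : P9} (ha : a ∈ B) : bfun (a * b) = fun j => bfun a (bfun b j) := by
  funext j
  apply Fin.ext
  refine (mem_B.1 ha (b ⟨3 * j.1, by omega⟩) ⟨3 * (bfun b j).1, by omega⟩).2 ?_
  simp only [bfun]
  omega

theorem bpar_mul {a b : P9} (ha : a ∈ B) (hb : b ∈ B) : bpar (a * b) = bpar a * bpar b := by
  rw [bpar, bfun_mul ha]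
  exact par3_comp _ _ (bfun_inj ha) (bfun_inj hb)

theorem bpar_one : bpar 1 = 1 := by decide +kernel

theorem bpar_inv {a : P9} (ha : a ∈ B) : bpar a⁻¹ = bpar a := by
  have h := bpar_mul (B.inv_mem ha) ha
  rw [inv_mul_cancel, bpar_one] at h
  rw [eq_comm, mul_eq_one_iff_eq_inv, Int.units_inv_eq_self] at h
  exact h

/-- The elements inducing even permutations of the blocks. -/
def Bev : Subgroup P9 where
  carrier := {σ | σ ∈ B ∧ bpar σ = 1}
  one_mem' := ⟨B.one_mem, bpar_one⟩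
  mul_mem' := fun {a b} ha hb => ⟨B.mul_mem ha.1 hb.1, by
    rw [bpar_mul ha.1 hb.1, ha.2, hb.2, one_mul]⟩
  inv_mem' := fun {a} ha => ⟨B.inv_mem ha.1, by rw [bpar_inv ha.1, ha.2]⟩

theorem mem_Bev {σ : P9} : σ ∈ Bev ↔ σ ∈ B ∧ bpar σ = 1 := Iff.rfl

instance : DecidablePred (· ∈ Bev) := fun _ => decidable_of_iff' _ mem_Bev

/-- The centralizer of `x`, of order 162. -/
def S1 : Subgroup P9 where
  carrier := {σ | σ ∈ B ∧ σ * ANineThree.x = ANineThree.x * σ}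
  one_mem' := ⟨B.one_mem, by simp⟩
  mul_mem' := fun {a b} ha hb => ⟨B.mul_mem ha.1 hb.1, by
    rw [mul_assoc, hb.2, ← mul_assoc, ha.2, mul_assoc]⟩
  inv_mem' := fun {a} ha => ⟨B.inv_mem ha.1, by
    rw [inv_mul_eq_iff_eq_mul, ← mul_assoc, ha.2, mul_inv_cancel_right]⟩

theorem mem_S1 {σ : P9} : σ ∈ S1 ↔ σ ∈ B ∧ σ * ANineThree.x = ANineThree.x * σ := Iff.rfl

instance : DecidablePred (· ∈ S1) := fun _ => decidable_of_iff' _ mem_S1

/-- The normalizer of `⟨x⟩`, of order 324. -/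
def S2 : Subgroup P9 := B ⊓ normalizer (zpowers ANineThree.x : Set P9)

/-- The elements with an even number of sign changes, of order 648. -/
def S4 : Subgroup P9 where
  carrier := {σ | σ ∈ B ∧ Perm.sign σ = bpar σ}
  one_mem' := ⟨B.one_mem, by rw [map_one, bpar_one]⟩
  mul_mem' := fun {a b} ha hb => ⟨B.mul_mem ha.1 hb.1, by
    rw [map_mul, bpar_mul ha.1 hb.1, ha.2, hb.2]⟩
  inv_mem' := fun {a} ha => ⟨B.inv_mem ha.1, by rw [Perm.sign_inv, bpar_inv ha.1, ha.2]⟩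

theorem mem_S4 {σ : P9} : σ ∈ S4 ↔ σ ∈ B ∧ Perm.sign σ = bpar σ := Iff.rfl

instance : DecidablePred (· ∈ S4) := fun _ => decidable_of_iff' _ mem_S4

/-- `(0 3)(1 4)(2 5)` -/
def τ0 : P9 := swap 0 3 * swap 1 4 * swap 2 5
/-- `(6 7)` -/
def t3 : P9 := swap 6 7
/-- `(0 1)(3 4)(6 7)` -/
def iota : P9 := swap 0 1 * swap 3 4 * swap 6 7

/-- Conjugacy by an element of the model. -/
def SConj (S : Subgroup P9) (a b : P9) : Prop := ∃ s ∈ S, s * a * s⁻¹ = b

/-- The local data: a monomorphism of a model onto the normalizer of the group of order 27. -/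
structure Loc (S : Subgroup P9) (G : Type u) [Group G] where
  e : S →* G
  inj : Function.Injective e
  J0_le : J0 ≤ S
  range_eq : e.range = normalizer (((J0.subgroupOf S).map e : Subgroup G) : Set G)
  cent_x : ∀ h : ANineThree.x ∈ S, centralizer ({e ⟨ANineThree.x, h⟩} : Set G) ≤ e.range
  signalizer : ∀ W : Subgroup G, (Nat.card W).Coprime 3 →
    (∀ j ∈ (J0.subgroupOf S).map e, ∀ w ∈ W, j * w * j⁻¹ ∈ W) → W = ⊥

namespace Loc

variable {S : Subgroup P9} {G : Type u} [Group G] (L : Loc S G)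

/-- The subgroup of order 27. -/
def J : Subgroup G := (J0.subgroupOf S).map L.e

open scoped Classical in
/-- The monomorphism, totalized. -/
noncomputable def el (σ : P9) : G := if h : σ ∈ S then L.e ⟨σ, h⟩ else 1

theorem el_eq {σ : P9} (h : σ ∈ S) : L.el σ = L.e ⟨σ, h⟩ := by
  classical exact dif_pos h

theorem el_mem {σ : P9} (h : σ ∈ S) : L.el σ ∈ L.e.range := ⟨⟨σ, h⟩, (L.el_eq h).symm⟩

theorem el_one : L.el 1 = 1 := by
  rw [L.el_eq S.one_mem]; exact map_one L.e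

theorem el_mul {a b : P9} (ha : a ∈ S) (hb : b ∈ S) : L.el (a * b) = L.el a * L.el b := by
  rw [L.el_eq (S.mul_mem ha hb), L.el_eq ha, L.el_eq hb, ← map_mul]; rfl

theorem el_inv {a : P9} (ha : a ∈ S) : L.el a⁻¹ = (L.el a)⁻¹ := by
  rw [L.el_eq (S.inv_mem ha), L.el_eq ha, ← map_inv]; rfl

theorem el_pow {a : P9} (ha : a ∈ S) (n : ℕ) : L.el (a ^ n) = L.el a ^ n := by
  induction n with
  | zero => rw [pow_zero, pow_zero, L.el_one]
  | succ n ih => rw [pow_succ, pow_succ, L.el_mul (S.pow_mem ha n) ha, ih]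

theorem el_conj {a b : P9} (ha : a ∈ S) (hb : b ∈ S) :
    L.el (a * b * a⁻¹) = L.el a * L.el b * (L.el a)⁻¹ := by
  rw [L.el_mul (S.mul_mem ha hb) (S.inv_mem ha), L.el_mul ha hb, L.el_inv ha]

theorem el_inj {a b : P9} (ha : a ∈ S) (hb : b ∈ S) (h : L.el a = L.el b) : a = b := by
  rw [L.el_eq ha, L.el_eq hb] at h
  exact congrArg Subtype.val (L.inj h)

theorem commute_el {a b : P9} (ha : a ∈ S) (hb : b ∈ S) :
    L.el a * L.el b = L.el b * L.el a ↔ a * b = b * a := by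
  rw [← L.el_mul ha hb, ← L.el_mul hb ha]
  exact ⟨L.el_inj (S.mul_mem ha hb) (S.mul_mem hb ha), fun h => by rw [h]⟩

theorem mem_range {g : G} : g ∈ L.e.range ↔ ∃ σ ∈ S, L.el σ = g :=
  ⟨fun ⟨s, hs⟩ => ⟨s.1, s.2, (L.el_eq s.2).trans hs⟩, fun ⟨_, hσ, e⟩ => e ▸ L.el_mem hσ⟩

theorem mem_J {g : G} : g ∈ L.J ↔ ∃ σ ∈ J0, L.el σ = g :=
  ⟨fun ⟨s, hs, e⟩ => ⟨s.1, hs, (L.el_eq s.2).trans e⟩,
    fun ⟨σ, hσ, e⟩ => ⟨⟨σ, L.J0_le hσ⟩, hσ, (L.el_eq (L.J0_le hσ)).symm.trans e⟩⟩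

theorem J_le : L.J ≤ L.e.range := fun _ ⟨s, _, e⟩ => ⟨s, e⟩

theorem range_normalizer : L.e.range = normalizer (L.J : Set G) := L.range_eq

include L in
theorem x_mem : ANineThree.x ∈ S :=
  L.J0_le (mem_J0.2 ⟨rfl, by decide +kernel⟩)

theorem cent_el_x : centralizer ({L.el ANineThree.x} : Set G) ≤ L.e.range := by
  rw [L.el_eq L.x_mem]; exact L.cent_x _

/-- The data inside a subgroup containing the group of order 27. -/
def restrict (K : Subgroup G) (S' : Subgroup P9) (hJ : L.J ≤ K)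
    (hS : ∀ σ : P9, σ ∈ S' ↔ σ ∈ S ∧ L.el σ ∈ K) : Loc S' K where
  e :=
    { toFun := fun s => ⟨L.e ⟨s.1, ((hS _).1 s.2).1⟩, L.el_eq ((hS _).1 s.2).1 ▸ ((hS _).1 s.2).2⟩
      map_one' := Subtype.ext (map_one L.e)
      map_mul' := fun a b => Subtype.ext
        (map_mul L.e ⟨a.1, ((hS _).1 a.2).1⟩ ⟨b.1, ((hS _).1 b.2).1⟩) }
  inj := fun a b h => Subtype.ext (congrArg Subtype.val (L.inj (congrArg Subtype.val h)) : _)
  J0_le := fun σ hσ => (hS σ).2 ⟨L.J0_le hσ, hJ (L.mem_J.2 ⟨σ, hσ, rfl⟩)⟩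
  range_eq := by
    have hJ' : ∀ k : K, (k : G) ∈ L.J ↔ k ∈ (J0.subgroupOf S').map
        { toFun := fun s : S' => (⟨L.e ⟨s.1, ((hS _).1 s.2).1⟩,
            L.el_eq ((hS _).1 s.2).1 ▸ ((hS _).1 s.2).2⟩ : K)
          map_one' := Subtype.ext (map_one L.e)
          map_mul' := fun a b => Subtype.ext
            (map_mul L.e ⟨a.1, ((hS _).1 a.2).1⟩ ⟨b.1, ((hS _).1 b.2).1⟩) } := by
      intro k
      constructor
      · intro hk
        obtain ⟨σ, hσ, e⟩ := L.mem_J.1 hk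
        exact ⟨⟨σ, (hS σ).2 ⟨L.J0_le hσ, e ▸ k.2⟩⟩, hσ,
          Subtype.ext ((L.el_eq (L.J0_le hσ)).symm.trans e)⟩
      · rintro ⟨s, hs, rfl⟩
        exact L.mem_J.2 ⟨s.1, hs, L.el_eq ((hS _).1 s.2).1⟩
    ext k
    rw [MonoidHom.mem_range, mem_normalizer_iff]
    constructor
    · rintro ⟨s, rfl⟩ m
      have hs : L.e ⟨s.1, ((hS _).1 s.2).1⟩ ∈ normalizer (L.J : Set G) :=
        L.range_normalizer ▸ ⟨_, rfl⟩
      simp only [← hJ']
      exact mem_normalizer_iff.1 hs m.1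
    · intro h
      have hk : (k : G) ∈ normalizer (L.J : Set G) := by
        rw [mem_normalizer_iff]
        intro m
        constructor
        · intro hm
          exact (hJ' _).2 ((h ⟨m, hJ hm⟩).1 ((hJ' _).1 hm))
        · intro hm
          have hmK : m ∈ K := by
            have h1 := K.mul_mem (K.mul_mem (K.inv_mem k.2) (hJ hm)) k.2
            simpa [mul_assoc] using h1
          exact (hJ' _).2 ((h ⟨m, hmK⟩).2 ((hJ' _).1 hm))
      rw [← L.range_normalizer] at hk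
      obtain ⟨σ, hσ, e⟩ := L.mem_range.1 hk
      exact ⟨⟨σ, (hS σ).2 ⟨hσ, e ▸ k.2⟩⟩, Subtype.ext ((L.el_eq hσ).symm.trans e)⟩
  cent_x := fun h => by
    intro k hk
    have h1 : (k : G) ∈ centralizer ({L.e ⟨_, ((hS _).1 h).1⟩} : Set G) :=
      mem_centralizer_singleton_iff.2 (congrArg Subtype.val (mem_centralizer_singleton_iff.1 hk))
    obtain ⟨σ, hσ, e⟩ := L.mem_range.1 (L.cent_x _ h1)
    exact ⟨⟨σ, (hS σ).2 ⟨hσ, e ▸ k.2⟩⟩, Subtype.ext ((L.el_eq hσ).symm.trans e)⟩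
  signalizer := fun W hW hn => by
    have h1 : W.map K.subtype = ⊥ := by
      refine L.signalizer _ ?_ ?_
      · rwa [Subgroup.card_map_of_injective K.subtype_injective]
      · rintro j ⟨s, hs, rfl⟩ w ⟨w', hw', rfl⟩
        have hs' : s.1 ∈ S' := (hS _).2 ⟨s.2, hJ (L.mem_J.2 ⟨s.1, hs, rfl⟩)⟩
        exact ⟨_, hn _ ⟨⟨s.1, hs'⟩, hs, rfl⟩ w' hw', rfl⟩
    exact (Subgroup.map_eq_bot_iff_of_injective _ K.subtype_injective).1 h1

theorem restrict_el (K : Subgroup G) (S' : Subgroup P9) (hJ : L.J ≤ K)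
    (hS : ∀ σ : P9, σ ∈ S' ↔ σ ∈ S ∧ L.el σ ∈ K) {σ : P9} (hσ : σ ∈ S') :
    ((L.restrict K S' hJ hS).el σ : G) = L.el σ := by
  rw [(L.restrict K S' hJ hS).el_eq hσ, L.el_eq ((hS σ).1 hσ).1]; rfl

end Loc

end CfsgLib.SNineThree
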