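import Cfsg.Agent.Lib.SNineThree.CentTauSix
import Cfsg.Agent.Lib.ANineThree.SpecialTI

/-!
The centralizer of `(0 3)(1 4)(2 5)` normalizes the group generated by `(6 7 8)`: in the nonlocal
case by a trivial intersection set and two applications of the self-centralizing subgroup of order
three.
-/

set_option autoImplicit false
set_option linter.style.haveILetI false
set_option linter.unusedSectionVars false
set_option maxRecDepth 100000

namespace CfsgLib.SNineThree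

universe u

namespace CentTau

open Subgroup Equiv
open CfsgLib.ANineThree (P9 z z2 z3 y x p τ)

theorem x_eq : nf 1 1 0 0 1 0 0 = x ∧ x = y * z3 ∧
    (∀ a i : Fin 3, a ≠ 0 → i ≠ 0 → ∃ c f : Fin 2,
      nf 0 0 c c 0 f 0 * nf a a 0 0 i 0 0 * (nf 0 0 c c 0 f 0)⁻¹ = x) ∧
    nf 2 2 0 0 0 0 0 = y⁻¹ ∧ z3 ^ 3 = 1 ∧ x ^ 3 = 1 := by decide +kernel

theorem tau_pow : ∀ a i : Fin 3, ∀ f e : Fin 2,
    nf a a 0 0 i f e = y ^ a.1 * z3 ^ i.1 * t3 ^ f.1 * τ0 ^ e.1 ∧
    (nf a a 0 0 i f e * y = y * nf a a 0 0 i f e) := by decide +kernel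

theorem neg_val : ∀ i : Fin 3, (i.1 + (-i : Fin 3).1) % 3 = 0 := by decide

theorem sq_mod : ∀ i : Fin 3, i ≠ 0 → i.1 * i.1 % 3 = 1 := by decide

theorem z3_pow_ne : ∀ i : Fin 3, i ≠ 0 → z3 ^ i.1 ≠ 1 := by decide +kernel

theorem double_ne : ∀ i : Fin 3, i ≠ 0 → i + i ≠ 0 := by decide

theorem inverts_y : ∀ a i : Fin 3, ∀ c f e : Fin 2,
    nf a a c c i f e * y = y * nf a a c c i f e → c = 0 := by decide +kernel

variable {G : Type u} [Group G] [Finite G] {L : Loc B G}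

/-- The coordinate along `(6 7 8)`. -/
noncomputable def cz (L : Loc B G) (g : G) : ZMod 3 := by
  classical
  exact if h : ∃ i : Fin 3, g * (L.el z3 ^ i.1)⁻¹ ∈ M3 L then (h.choose : Fin 3) else (0 : Fin 3)

theorem cz_eq {g : G} {i : Fin 3} (h : g * (L.el z3 ^ i.1)⁻¹ ∈ M3 L) : cz L g = i := by
  have h' : ∃ i : Fin 3, g * (L.el z3 ^ i.1)⁻¹ ∈ M3 L := ⟨i, h⟩
  exact (dif_pos h').trans (dec_unique L h'.choose_spec h)

theorem cz_mul {g h : G} (hg : g ∈ C3 L) (hh : h ∈ C3 L) : cz L (g * h) = cz L g + cz L h := by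
  obtain ⟨i, hi⟩ := exists_dec L hg
  obtain ⟨j, hj⟩ := exists_dec L hh
  rw [cz_eq hi, cz_eq hj]
  refine cz_eq (i := i + j) ?_
  rw [Fin.val_add, ← pow_eq_pow_mod _ (z3_cube L), pow_add]
  have hc : Commute (h * (L.el z3 ^ j.1)⁻¹) (L.el z3) :=
    mem_centralizer_singleton_iff.1 (M3_le L hj)
  have e : g * h * (L.el z3 ^ i.1 * L.el z3 ^ j.1)⁻¹ =
      g * (L.el z3 ^ i.1)⁻¹ * (h * (L.el z3 ^ j.1)⁻¹) := by
    rw [mul_inv_rev, show g * h * ((L.el z3 ^ j.1)⁻¹ * (L.el z3 ^ i.1)⁻¹) =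
      g * (h * (L.el z3 ^ j.1)⁻¹ * (L.el z3 ^ i.1)⁻¹) by group,
      ((hc.pow_right i.1).inv_right).eq]
    group
  rw [e]
  exact mul_mem hi hj

theorem conj_z3_cases {n : G} (hn : n ∈ normalizer (zpowers (L.el z3) : Set G)) :
    n * L.el z3 * n⁻¹ = L.el z3 ∨ n * L.el z3 * n⁻¹ = (L.el z3)⁻¹ := by
  have h := (mem_set_normalizer_iff.1 hn (L.el z3)).1 (mem_zpowers _)
  rw [SetLike.mem_coe, ← mem_powers_iff_mem_zpowers, Submonoid.mem_powers_iff] at h
  obtain ⟨j, hj⟩ := h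
  rw [pow_eq_pow_mod j (z3_cube L)] at hj
  rcases (show j % 3 = 0 ∨ j % 3 = 1 ∨ j % 3 = 2 by omega) with e | e | e <;> rw [e] at hj
  · exact absurd (conj_eq_one_iff.1 ((pow_zero (L.el z3) ▸ hj).symm)) (z3_ne_one L)
  · exact Or.inl (by rw [← hj, pow_one])
  · refine Or.inr ?_
    rw [← hj, eq_inv_iff_mul_eq_one, ← pow_succ, z3_cube]

theorem cz_conj {n k : G} (hn : n ∈ normalizer (zpowers (L.el z3) : Set G)) (hk : k ∈ C3 L) :
    n * k * n⁻¹ ∈ C3 L ∧ (n * L.el z3 * n⁻¹ = L.el z3 → cz L (n * k * n⁻¹) = cz L k) ∧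
      (n * L.el z3 * n⁻¹ = (L.el z3)⁻¹ → cz L (n * k * n⁻¹) = -cz L k) := by
  have hN := C3_normalizer L hn
  obtain ⟨i, hi⟩ := exists_dec L hk
  have hm := M3_conj L hN hi
  have e : n * (k * (L.el z3 ^ i.1)⁻¹) * n⁻¹ = n * k * n⁻¹ * ((n * L.el z3 * n⁻¹) ^ i.1)⁻¹ := by
    rw [conj_pow]; group
  rw [e] at hm
  refine ⟨(mem_set_normalizer_iff.1 hN k).1 hk, fun h => ?_, fun h => ?_⟩
  · rw [h] at hm
    rw [cz_eq hm, cz_eq hi]
  · rw [h, inv_pow] at hm
    have e2 : (L.el z3 ^ i.1)⁻¹ = L.el z3 ^ (-i : Fin 3).1 := inv_eq_of_mul_eq_one_right (by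
      rw [← pow_add, pow_eq_pow_mod _ (z3_cube L),
        neg_val i, pow_zero])
    rw [e2] at hm
    rw [cz_eq hm, cz_eq hi]
    rfl

theorem el_z3_pow_mem {i : ℕ} : L.el z3 ^ i ∈ zpowers (L.el z3) := pow_mem (mem_zpowers _) _

theorem normalizes_of_conj {g : G} {i : Fin 3} (hi : i ≠ 0)
    (h : g * L.el z3 ^ i.1 * g⁻¹ ∈ zpowers (L.el z3)) :
    g ∈ normalizer (zpowers (L.el z3) : Set G) := by
  have e : L.el z3 = (L.el z3 ^ i.1) ^ i.1 := by
    rw [← pow_mul, pow_eq_pow_mod _ (z3_cube L),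
      sq_mod i hi, pow_one]
  have h1 : g * L.el z3 * g⁻¹ ∈ zpowers (L.el z3) := by
    have h2 := pow_mem h i.1
    rwa [conj_pow, ← e] at h2
  refine mem_normalizer_fintype fun q hq => ?_
  obtain ⟨n, rfl⟩ := mem_zpowers_iff.1 hq
  rw [SetLike.mem_coe, ← conj_zpow]
  exact zpow_mem h1 _

section Six

variable (hF : Facts L) (I : SixIso L)
include I

theorem comm_tauM {m : G} (hm : m ∈ M3 L) (hc : m ∈ Ct L) :
    I.φ ⟨m, hm⟩ * I.φ (tauM L) = I.φ (tauM L) * I.φ ⟨m, hm⟩ := by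
  rw [← map_mul, ← map_mul]
  exact congrArg I.φ (Subtype.ext (mem_centralizer_singleton_iff.1 hc) :
    (⟨m, hm⟩ : M3 L) * tauM L = tauM L * ⟨m, hm⟩)

theorem pow_twelve {m : G} (hm : m ∈ M3 L) (hc : m ∈ Ct L) : m ^ 12 = 1 :=
  congrArg Subtype.val (I.φ.injective
    (by rw [map_pow, map_one]; exact I.facts.exp _ (comm_tauM I hm hc)) :
      (⟨m, hm⟩ : M3 L) ^ 12 = 1)

/-- The subgroup generated by the chosen involution and its conjugates. -/
noncomputable def U : Subgroup G where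
  carrier := {g | ∃ h : g ∈ M3 L, I.φ ⟨g, h⟩ ∈ eight (I.φ (yM L)) I.u}
  one_mem' := ⟨one_mem _, by
    rw [show (⟨1, one_mem _⟩ : M3 L) = 1 from rfl, map_one]
    exact List.mem_cons_self⟩
  mul_mem' := by
    rintro a b ⟨ha, ha'⟩ ⟨hb, hb'⟩
    refine ⟨mul_mem ha hb, ?_⟩
    rw [show (⟨a * b, mul_mem ha hb⟩ : M3 L) = ⟨a, ha⟩ * ⟨b, hb⟩ from rfl, map_mul]
    exact I.facts.mul_mem _ ha' _ hb'
  inv_mem' := by
    rintro a ⟨ha, ha'⟩
    refine ⟨inv_mem ha, ?_⟩
    rw [show (⟨a⁻¹, inv_mem ha⟩ : M3 L) = (⟨a, ha⟩ : M3 L)⁻¹ from rfl, map_inv,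
      inv_eq_of_mul_eq_one_right (I.facts.sq_eight _ ha').1]
    exact ha'

theorem U_sq {g : G} (hg : g ∈ U I) : g * g = 1 := by
  obtain ⟨hm, h⟩ := hg
  exact congrArg Subtype.val (I.φ.injective
    (by rw [map_mul, map_one]; exact (I.facts.sq_eight _ h).1) :
      (⟨g, hm⟩ : M3 L) * ⟨g, hm⟩ = 1)

theorem U_le_Ct : U I ≤ Ct L := by
  rintro g ⟨hm, h⟩
  refine mem_centralizer_singleton_iff.2 (congrArg Subtype.val (I.φ.injective ?_ :
    (⟨g, hm⟩ : M3 L) * tauM L = tauM L * ⟨g, hm⟩))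
  rw [map_mul, map_mul]
  exact (I.facts.sq_eight _ h).2

theorem U_le_M3 : U I ≤ M3 L := fun _ ⟨hm, _⟩ => hm

theorem U_coprime : (Nat.card (U I)).Coprime 3 := by
  haveI : Fact (Nat.Prime 2) := ⟨Nat.prime_two⟩
  have hp : IsPGroup 2 (U I) := fun g => ⟨1, Subtype.ext (by
    show (g : G) ^ (2 ^ 1) = 1
    rw [pow_one, pow_two]; exact U_sq I g.2)⟩
  obtain ⟨n, hn⟩ := IsPGroup.iff_card.1 hp
  rw [hn]
  exact Nat.Coprime.pow_left _ (by norm_num)

theorem U_comm {g h : G} (hg : g ∈ U I) (hh : h ∈ U I) : g * h = h * g := by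
  have e := U_sq I ((U I).mul_mem hg hh)
  calc g * h = g * (g * h * (g * h)) * h := by rw [e, mul_one]
    _ = g * g * (h * g) * (h * h) := by group
    _ = h * g := by rw [U_sq I hg, U_sq I hh, one_mul, mul_one]

theorem uG_U : I.uG ∈ U I := by
  refine ⟨I.uG_mem, ?_⟩
  rw [show (⟨I.uG, I.uG_mem⟩ : M3 L) = I.φ.symm I.u from rfl, I.φ.apply_symm_apply]
  exact List.mem_cons_of_mem _ List.mem_cons_self

theorem y_conj_U {g : G} (hg : g ∈ U I) : L.el y * g * (L.el y)⁻¹ ∈ U I := by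
  obtain ⟨hm, h⟩ := hg
  refine ⟨mul_mem (mul_mem (yM L).2 hm) (inv_mem (yM L).2), ?_⟩
  rw [show (⟨L.el y * g * (L.el y)⁻¹, mul_mem (mul_mem (yM L).2 hm) (inv_mem (yM L).2)⟩ : M3 L) =
    yM L * ⟨g, hm⟩ * (yM L)⁻¹ from rfl, map_mul, map_mul, map_inv]
  exact I.facts.conj_mem _ h

theorem z3_comm_U {g : G} (hg : g ∈ U I) : g * L.el z3 = L.el z3 * g :=
  SixIso.z_centralizes (U_le_M3 I hg)

theorem uG_moved : L.el y * I.uG * (L.el y)⁻¹ * (L.el y * (L.el y * I.uG * (L.el y)⁻¹) * (L.el y)⁻¹)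
    = I.uG * L.el τ0 := by
  set v : M3 L := I.φ.symm I.u with hv
  have h : v * (yM L * v * (yM L)⁻¹) * (yM L * (yM L * v * (yM L)⁻¹) * (yM L)⁻¹) = tauM L := by
    refine I.φ.injective ?_
    simp only [map_mul, map_inv, hv, I.φ.apply_symm_apply]
    exact I.facts.prod
  have h' : I.uG * (L.el y * I.uG * (L.el y)⁻¹) *
      (L.el y * (L.el y * I.uG * (L.el y)⁻¹) * (L.el y)⁻¹) = L.el τ0 := congrArg Subtype.val h
  calc _ = I.uG * I.uG * (L.el y * I.uG * (L.el y)⁻¹ *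
        (L.el y * (L.el y * I.uG * (L.el y)⁻¹) * (L.el y)⁻¹)) := by rw [I.uG_sq, one_mul]
    _ = _ := by rw [← h']; group

include hF

/-- The invariant subgroups of order prime to three lie in `U`. -/
theorem bound {W : Subgroup G} (hW : W ≤ Ct L) (hW3 : (Nat.card W).Coprime 3)
    (hn : Etau L ≤ normalizer (W : Set G)) : W ≤ U I := by
  intro w hw
  have hM : ∀ v ∈ W, v ∈ M3 L ∧ v ^ 4 = 1 := fun v hv => by
    have hco : Nat.Coprime (orderOf v) 3 :=
      hW3.coprime_dvd_left (orderOf_dvd_of_pow_eq_one (pow_card_sub hv))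
    have hm := mem_M3_of_coprime L (invariant_le hF hW hW3 hn hv) hco
    refine ⟨hm, eq_one_of_coprime_cube hW3 (pow_mem hv 4) ?_⟩
    rw [← pow_mul]
    exact pow_twelve I hm (hW hv)
  obtain ⟨hm, h4⟩ := hM w hw
  have hy := (mem_set_normalizer_iff.1 (hn (el_y_mem L)) w).1 hw
  obtain ⟨hm', h4'⟩ := hM _ (mul_mem hw hy)
  refine ⟨hm, I.facts.bound _ (comm_tauM I hm (hW hw)) ?_ ?_⟩
  · rw [← map_pow, show (⟨w, hm⟩ : M3 L) ^ 4 = 1 from Subtype.ext h4, map_one]
  · rw [← map_inv, ← map_mul, ← map_mul, ← map_mul, ← map_pow,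
      show (⟨w, hm⟩ * (yM L * ⟨w, hm⟩ * (yM L)⁻¹) : M3 L) ^ 4 = 1 from Subtype.ext h4', map_one]

/-- No conjugate of the chosen involution inverts `(6 7 8)`. -/
theorem no_inverter {v q : G} (hq : q ∈ Ct L) (hv : q * I.uG * q⁻¹ = v)
    (hinv : v * L.el z3 * v⁻¹ = (L.el z3)⁻¹) : False := by
  obtain ⟨-, -, -, t3z, t3τ, t3t12, -, t3sq, -⟩ := iota_facts
  have ht3 := gens_mem.2.2.2.2.2.2.2.2.2.2.2.1
  have hτ := gens_mem.2.2.2.2.2.2.2.1
  have hz3 := gens_mem.2.2.1
  set T3 := L.el t3 with hT3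
  have hT32 : T3 * T3 = 1 := by rw [hT3, ← L.el_mul ht3 ht3, t3sq, L.el_one]
  have hT3z : T3 * L.el z3 * T3⁻¹ = (L.el z3)⁻¹ := by
    rw [hT3, ← L.el_conj ht3 hz3, t3z, L.el_inv hz3]
  have hv2 : v * v = 1 := by
    rw [← hv, show q * I.uG * q⁻¹ * (q * I.uG * q⁻¹) = q * (I.uG * I.uG) * q⁻¹ by group,
      I.uG_sq, mul_one, mul_inv_cancel]
  obtain ⟨i, hi⟩ := exists_dec L (g := T3 * v) (by
    refine mem_centralizer_singleton_iff.2 (mul_inv_eq_iff_eq_mul.1 ?_)
    rw [show T3 * v * L.el z3 * (T3 * v)⁻¹ = T3 * (v * L.el z3 * v⁻¹) * T3⁻¹ by group, hinv,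
      ← conj_inv, hT3z, inv_inv])
  set m := T3 * v * (L.el z3 ^ i.1)⁻¹ with hm
  set Z := L.el z3 ^ i.1 with hZ
  have hZc : Commute Z m := by
    rw [hZ]; exact (Commute.pow_left (SixIso.z_centralizes hi).symm _)
  have hv' : v = T3 * m * Z := by
    rw [hm, show T3 * (T3 * v * Z⁻¹) * Z = T3 * T3 * v by group, hT32, one_mul]
  have hZ3 : Z * Z * Z = 1 := by
    rw [hZ, ← pow_add, ← pow_add, show i.1 + i.1 + i.1 = 3 * i.1 by ring, pow_mul, z3_cube, one_pow]
  have hZT : Z⁻¹ * T3 = T3 * Z := by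
    have : T3 * Z * T3⁻¹ = Z⁻¹ := by rw [hZ, ← conj_pow, hT3z, inv_pow]
    rw [← this, inv_mul_cancel_right]
  -- the representative in the coset of `(6 7)`
  set v1 := Z⁻¹ * v * Z with hv1
  have hv1' : v1 = T3 * m := by
    rw [hv1, hv', show Z⁻¹ * (T3 * m * Z) * Z = (Z⁻¹ * T3) * m * Z * Z by group, hZT,
      show T3 * Z * m * Z * Z = T3 * (Z * m) * Z * Z by group, hZc.eq,
      show T3 * (m * Z) * Z * Z = T3 * m * (Z * Z * Z) by group, hZ3, mul_one]
  have hZτ : Commute Z (L.el τ0) := by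
    rw [hZ]
    exact (Commute.pow_left (el_comm L hz3 hτ iota_facts.2.2.2.2.2.2.2.2.2.2.2.2.2.1.symm) _)
  have hqτ : Commute q (L.el τ0) := mem_centralizer_singleton_iff.1 hq
  have hc1 : IsConj T3 v1 := I.uG_conj.trans (isConj_iff.2 ⟨Z⁻¹ * q, by rw [hv1, ← hv]; group⟩)
  have hc2 : IsConj (L.el t12) (v1 * L.el τ0) := I.uG_tau_conj.trans (isConj_iff.2 ⟨Z⁻¹ * q, by
    have hw : Commute (Z⁻¹ * q) (L.el τ0) := hZτ.inv_left.mul_left hqτ
    rw [mul_assoc (Z⁻¹ * q), mul_assoc I.uG, ← hw.inv_left.eq, hv1, ← hv]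
    group⟩)
  have hTm : T3 * m = m * T3 := I.t3_comm hi
  have hm2 : m * m = 1 := by
    have e : v1 * v1 = 1 := by
      rw [hv1, show Z⁻¹ * v * Z * (Z⁻¹ * v * Z) = Z⁻¹ * (v * v) * Z by group, hv2, mul_one,
        inv_mul_cancel]
    rw [hv1', show T3 * m * (T3 * m) = T3 * (m * T3) * m by group, ← hTm,
      show T3 * (T3 * m) * m = T3 * T3 * (m * m) by group, hT32, one_mul] at e
    exact e
  by_cases hm1 : m = 1
  · rw [hv1', hm1, mul_one, hT3, ← L.el_mul ht3 hτ,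
      show t3 * τ0 = τ from frame_facts.2.2.2.2.2.2.2.2.2.2.2.2.2.2] at hc2
    exact nc_t12_quad hF hc2
  obtain ⟨g, hg, ρ, hρ, he⟩ := I.invol_reps hi hm2 hm1
  have hc3 : IsConj T3 (T3 * L.el ρ) := hc1.trans (isConj_iff.2 ⟨g, by
    rw [hv1', ← he, show g * (T3 * m) * g⁻¹ = g * T3 * g⁻¹ * (g * m * g⁻¹) by group,
      ← I.t3_comm hg, mul_inv_cancel_right]⟩)
  simp only [List.mem_cons, List.not_mem_nil, or_false] at hρ
  rcases hρ with rfl | rfl | rfl
  · have ht1 := gens_mem.2.2.2.2.2.2.2.2.1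
    rw [hT3, ← L.el_mul ht3 ht1] at hc3
    obtain ⟨s, hs, hst⟩ := t_conj
    exact nc_t12 hF I (hc3.trans (isConj_iff.2 ⟨L.el s, by
      rw [← L.el_conj hs (B.mul_mem ht3 ht1), hst]⟩))
  · rw [hT3, ← L.el_mul ht3 gens_mem.2.2.2.2.2.2.2.2.2.2.1, t3t12] at hc3
    exact nc_iota hF hc3
  · rw [hT3, ← L.el_mul ht3 hτ, show t3 * τ0 = τ from frame_facts.2.2.2.2.2.2.2.2.2.2.2.2.2.2] at hc3
    exact nc_quad hF hc3

/-- The three-part of an element of the special set. -/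
theorem classify {k : G} (hk : k ∈ Ct L) (hk3 : k ∈ C3 L) (hc : cz L k ≠ 0) :
    (∃ i : Fin 3, i ≠ 0 ∧ k ^ 4 = L.el z3 ^ i.1) ∨
      ∃ h ∈ Ct L, h ∈ normalizer (zpowers (L.el z3) : Set G) ∧ h * k ^ 4 * h⁻¹ = L.el x := by
  obtain ⟨i, hi⟩ := exists_dec L hk3
  rw [cz_eq hi] at hc
  have hz3τ : L.el z3 ∈ Ct L :=
    el_Ct L gens_mem.2.2.1 iota_facts.2.2.2.2.2.2.2.2.2.2.2.2.2.1.symm
  set m := k * (L.el z3 ^ i.1)⁻¹ with hm
  have hmc : m ∈ Ct L := mul_mem hk (inv_mem (pow_mem hz3τ _))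
  have hk4 : k ^ 4 = m ^ 4 * L.el z3 ^ i.1 := by
    have hcm : Commute m (L.el z3 ^ i.1) := Commute.pow_right (SixIso.z_centralizes hi) _
    have e : k = m * L.el z3 ^ i.1 := by rw [hm, inv_mul_cancel_right]
    rw [e, hcm.mul_pow, ← pow_mul (L.el z3), mul_comm i.1 4, show 4 * i.1 = 3 * i.1 + i.1 by ring,
      pow_add, pow_mul, z3_cube, one_pow, one_mul]
  have h43 : (m ^ 4) ^ 3 = 1 := by rw [← pow_mul]; exact pow_twelve I hi hmc
  have hm4 := pow_mem hi 4
  rcases I.facts.three _ (comm_tauM I hm4 (pow_mem hmc 4)) (by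
    rw [← map_pow, show (⟨m ^ 4, hm4⟩ : M3 L) ^ 3 = 1 from Subtype.ext h43, map_one]) with e | e
  · left
    rw [map_eq_one_iff _ I.φ.injective] at e
    exact ⟨i, hc, by rw [hk4, show m ^ 4 = 1 from congrArg Subtype.val e, one_mul]⟩
  · right
    obtain ⟨g6, hg6, hg⟩ := e
    set g := I.φ.symm g6 with hgd
    have hgc : (g : G) ∈ Ct L := by
      refine mem_centralizer_singleton_iff.2 (congrArg Subtype.val
        (I.φ.injective ?_ : g * tauM L = tauM L * g))
      rw [map_mul, map_mul, hgd, I.φ.apply_symm_apply, hg6]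
    obtain ⟨a, ha, hga⟩ : ∃ a : Fin 3, a ≠ 0 ∧
        (g : G) * m ^ 4 * (g : G)⁻¹ = L.el (nf a a 0 0 0 0 0) := by
      rcases hg with e | e
      · refine ⟨1, by decide, ?_⟩
        rw [nf_gens.2.2.2.1]
        exact congrArg Subtype.val (I.φ.injective (by
          rw [map_mul, map_mul, map_inv, hgd, I.φ.apply_symm_apply, e]) :
            g * ⟨m ^ 4, hm4⟩ * g⁻¹ = yM L)
      · refine ⟨2, by decide, ?_⟩
        rw [x_eq.2.2.2.1, L.el_inv gens_mem.2.2.2.1]
        exact congrArg Subtype.val (I.φ.injective (by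
          rw [map_mul, map_mul, map_inv, map_inv, hgd, I.φ.apply_symm_apply, e]) :
            g * ⟨m ^ 4, hm4⟩ * g⁻¹ = (yM L)⁻¹)
    obtain ⟨c, f, hcf⟩ := x_eq.2.2.1 a i ha hc
    have hw := nf_mem 0 0 c c 0 f 0
    refine ⟨L.el (nf 0 0 c c 0 f 0) * g, mul_mem (el_Ct L hw (quot_facts c f)) hgc,
      mul_mem ?_ ?_, ?_⟩
    · refine normalizes_of_conj (i := 1) (by decide) ?_
      rw [Fin.val_one, pow_one, ← L.el_conj hw gens_mem.2.2.1]
      have t3' := (tau_form 0 0 c f 0).2.1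
      simp only [List.mem_cons, List.not_mem_nil, or_false] at t3'
      rcases t3' with h | h <;> rw [h]
      · exact mem_zpowers _
      · rw [L.el_inv gens_mem.2.2.1]; exact inv_mem (mem_zpowers _)
    · refine normalizes_of_conj (i := 1) (by decide) ?_
      rw [Fin.val_one, pow_one, SixIso.z_centralizes g.2, mul_inv_cancel_right]
      exact mem_zpowers _
    · rw [← hcf, L.el_conj hw (nf_mem _ _ _ _ _ _ _)]
      have e1 : L.el (nf a a 0 0 i 0 0) = L.el (nf a a 0 0 0 0 0) * L.el z3 ^ i.1 := by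
        rw [Etau_gen, Etau_gen, Fin.val_zero, pow_zero, mul_one]
      have e2 : (g : G) * L.el z3 ^ i.1 * (g : G)⁻¹ = L.el z3 ^ i.1 := by
        rw [← conj_pow, SixIso.z_centralizes g.2, mul_inv_cancel_right]
      rw [e1, ← hga, ← e2, hk4]
      group

theorem x_conj_normalizes {h : G} (hh : h ∈ Ct L) (hc : h * L.el x = L.el x * h) :
    h ∈ normalizer (zpowers (L.el z3) : Set G) := by
  obtain ⟨a, i, c, f, e, rfl⟩ := form_Ct L hh (L.cent_el_x (mem_centralizer_singleton_iff.2 hc))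
  refine normalizes_of_conj (i := 1) (by decide) ?_
  rw [Fin.val_one, pow_one, ← L.el_conj (nf_mem _ _ _ _ _ _ _) gens_mem.2.2.1]
  have t3' := (tau_form a i c f e).2.1
  simp only [List.mem_cons, List.not_mem_nil, or_false] at t3'
  rcases t3' with h | h <;> rw [h]
  · exact mem_zpowers _
  · rw [L.el_inv gens_mem.2.2.1]; exact inv_mem (mem_zpowers _)

/-- The trivial intersection set gives a normal subgroup containing the chosen involution. -/
theorem exists_big : ∃ N : Subgroup (Ct L), N.Normal ∧ (⟨I.uG, I.uG_Ct⟩ : Ct L) ∈ N ∧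
    ∀ k : Ct L, (k : G) ∈ C3 L → cz L k ≠ 0 → k ∉ N := by
  classical
  haveI := Fintype.ofFinite (Ct L)
  obtain ⟨-, -, -, t3z, t3τ, -⟩ := iota_facts
  have ht3 := gens_mem.2.2.2.2.2.2.2.2.2.2.2.1
  have hz3 := gens_mem.2.2.1
  set H := (normalizer (zpowers (L.el z3) : Set G)).subgroupOf (Ct L) with hH
  set K := (C3 L).subgroupOf (Ct L) with hK
  let c : Ct L → ZMod 3 := fun g => cz L (g : G)
  set σc : Ct L := ⟨L.el t3, el_Ct L ht3 t3τ⟩ with hσc
  have hσinv : (σc : G) * L.el z3 * (σc : G)⁻¹ = (L.el z3)⁻¹ := by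
    show L.el t3 * L.el z3 * (L.el t3)⁻¹ = _
    rw [← L.el_conj ht3 hz3, t3z, L.el_inv hz3]
  have hσH : σc ∈ H := SixIso.t3_normalizes
  have hKH : K ≤ H := fun k hk => normalizes_of_conj (i := 1) (by decide) (by
    show (k : G) * L.el z3 ^ ((1 : Fin 3) : ℕ) * (k : G)⁻¹ ∈ zpowers (L.el z3)
    rw [Fin.val_one, pow_one, mem_centralizer_singleton_iff.1 (show (k : G) ∈ C3 L from hk),
      mul_inv_cancel_right]
    exact mem_zpowers _)
  have hneg : ∀ a : ZMod 3, a ≠ 0 → -a ≠ 0 := fun a ha => neg_ne_zero.2 ha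
  have key : ∀ s : Ct L, s ∈ K → c s ≠ 0 → (∃ i : Fin 3, i ≠ 0 ∧ (s : G) ^ 4 = L.el z3 ^ i.1) ∨
      ∃ h ∈ Ct L, h ∈ normalizer (zpowers (L.el z3) : Set G) ∧ h * (s : G) ^ 4 * h⁻¹ = L.el x :=
    fun s hs hc => classify hF I s.2 hs hc
  have hAB : ∀ i : Fin 3, i ≠ 0 → ¬ IsConj (L.el z3 ^ i.1) (L.el x) := fun i hi h => by
    rw [← L.el_pow hz3] at h
    exact supports.2.2 i hi (x_eq.2.1 ▸
      support_of_sconj (hF.fusion _ (J0.pow_mem J0_gens.2.2.1 _) _ J0_gens.2.2.2.2.1 h))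
  have t : CfsgLib.ANineThree.SpecialTI H K c :=
    { le := hKH
      index := by
        have h2 : (K.subgroupOf H).index = 2 := by
          refine index_eq_two_iff.2 ⟨⟨σc, hσH⟩, fun b => ?_⟩
          rw [mem_subgroupOf, mem_subgroupOf, hK, mem_subgroupOf, mem_subgroupOf,
            mem_centralizer_singleton_iff, mem_centralizer_singleton_iff]
          set β : G := ((b : Ct L) : G)
          show Xor (β * L.el t3 * L.el z3 = L.el z3 * (β * L.el t3))
            (β * L.el z3 = L.el z3 * β)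
          have e : β * L.el t3 * L.el z3 * (β * L.el t3)⁻¹ = (β * L.el z3 * β⁻¹)⁻¹ := by
            rw [show β * L.el t3 * L.el z3 * (β * L.el t3)⁻¹ =
              β * (L.el t3 * L.el z3 * (L.el t3)⁻¹) * β⁻¹ by group, hσinv, ← conj_inv]
          have hne : (L.el z3)⁻¹ ≠ L.el z3 := fun e' => z3_ne_one L (by
            have h2 : L.el z3 ^ 2 = 1 := by rw [pow_two]; nth_rewrite 1 [← e']; rw [inv_mul_cancel]
            have h3 := z3_cube L
            rwa [pow_succ, h2, one_mul] at h3)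
          rcases conj_z3_cases (show β ∈ normalizer (zpowers (L.el z3) : Set G) from b.2) with h | h
          · refine Or.inr ⟨mul_inv_eq_iff_eq_mul.1 h, fun h' => hne ?_⟩
            rw [← mul_inv_eq_iff_eq_mul, e, h] at h'
            exact h'
          · refine Or.inl ⟨mul_inv_eq_iff_eq_mul.1 (by rw [e, h, inv_inv]), fun h' => hne ?_⟩
            rw [← mul_inv_eq_iff_eq_mul, h] at h'
            exact h'
        rw [← Nat.card_congr (subgroupOfEquivOfLe hKH).toEquiv,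
          ← (K.subgroupOf H).card_mul_index, h2, mul_comm]
      mul := fun a ha b hb => cz_mul ha hb
      surj := ⟨⟨L.el z3, el_Ct L hz3 iota_facts.2.2.2.2.2.2.2.2.2.2.2.2.2.1.symm⟩,
        el_C3 L hz3 rfl, cz_eq (i := 1) (by
          rw [Fin.val_one, pow_one, mul_inv_cancel]; exact one_mem _)⟩
      inv := ⟨σc, hσH, fun k hk => ⟨(cz_conj (SixIso.t3_normalizes (L := L)) hk).1,
        (cz_conj (SixIso.t3_normalizes (L := L)) hk).2.2 hσinv⟩⟩
      conjD := fun h hh k hk hc => by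
        obtain ⟨h1, h2, h3⟩ := cz_conj (show (h : G) ∈ _ from hh) (show (k : G) ∈ C3 L from hk)
        refine ⟨h1, ?_⟩
        show cz L ((h : G) * k * (h : G)⁻¹) ≠ 0
        rcases conj_z3_cases (show (h : G) ∈ _ from hh) with e | e
        · rw [h2 e]; exact hc
        · rw [h3 e]; exact hneg _ hc
      tiD := fun g k hk hc hk' hc' => by
        have e4 : ((g * k * g⁻¹ : Ct L) : G) ^ 4 = (g : G) * (k : G) ^ 4 * (g : G)⁻¹ := by
          simp only [coe_mul, coe_inv, conj_pow]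
        rcases key k hk hc with ⟨i, hi, ek⟩ | ⟨h, hh, hhN, ek⟩ <;>
          rcases key _ hk' hc' with ⟨j, hj, ek'⟩ | ⟨h', hh', hhN', ek'⟩ <;> rw [e4] at ek'
        · refine normalizes_of_conj hi ?_
          show (g : G) * L.el z3 ^ i.1 * (g : G)⁻¹ ∈ zpowers (L.el z3)
          rw [← ek, ek']
          exact el_z3_pow_mem
        · exact (hAB i hi (isConj_iff.2 ⟨h' * g, by rw [← ek', ← ek]; group⟩)).elim
        · exact (hAB j hj (IsConj.symm (isConj_iff.2 ⟨g * h⁻¹, by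
            rw [← ek', ← ek]; group⟩))).elim
        · have hq : h' * g * h⁻¹ ∈ normalizer (zpowers (L.el z3) : Set G) := by
            refine x_conj_normalizes hF I (mul_mem (mul_mem hh' g.2) (inv_mem hh)) ?_
            refine mul_inv_eq_iff_eq_mul.1 ?_
            nth_rewrite 1 [← ek]
            rw [← ek']
            group
          show (g : G) ∈ normalizer (zpowers (L.el z3) : Set G)
          have := mul_mem (mul_mem (inv_mem hhN') hq) hhN
          simpa [mul_assoc] using this }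
  have h4 : ∀ s : Ct L, CfsgLib.ANineThree.InD K c s → (s : G) ^ 4 ≠ 1 := by
    rintro s ⟨hs, hc⟩ e
    rcases key s hs hc with ⟨i, hi, ek⟩ | ⟨h, -, -, ek⟩
    · rw [e, ← L.el_pow hz3, ← L.el_one] at ek
      exact z3_pow_ne i hi (L.el_inj (B.pow_mem hz3 _) B.one_mem ek.symm)
    · rw [e, mul_one, mul_inv_cancel, ← L.el_one] at ek
      exact absurd (L.el_inj B.one_mem gens_mem.2.2.2.2.1 ek) (by decide +kernel)
  refine t.exists_normal (v := ⟨I.uG, I.uG_Ct⟩) (Subtype.ext I.uG_sq) (fun s hs e => h4 s hs ?_)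
    (fun a b ha hb hs => ?_) |>.imp fun N hN => ⟨hN.1, hN.2.1, fun k hk hc => hN.2.2 k ⟨hk, hc⟩⟩
  · have e' : (s : G) * (s : G) = 1 := congrArg Subtype.val e
    rw [show (4 : ℕ) = 2 * 2 by norm_num, pow_mul, pow_two (s : G), e', one_pow]
  obtain ⟨qa, hqa⟩ := isConj_iff.1 ha
  obtain ⟨qb, hqb⟩ := isConj_iff.1 hb
  have hqa' : (qa : G) * I.uG * (qa : G)⁻¹ = (a : G) := congrArg Subtype.val hqa
  have hqb' : (qb : G) * I.uG * (qb : G)⁻¹ = (b : G) := congrArg Subtype.val hqb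
  have ha2 : (a : G) * a = 1 := by
    rw [← hqa', show (qa : G) * I.uG * (qa : G)⁻¹ * ((qa : G) * I.uG * (qa : G)⁻¹) =
      (qa : G) * (I.uG * I.uG) * (qa : G)⁻¹ by group, I.uG_sq, mul_one, mul_inv_cancel]
  have hb2 : (b : G) * b = 1 := by
    rw [← hqb', show (qb : G) * I.uG * (qb : G)⁻¹ * ((qb : G) * I.uG * (qb : G)⁻¹) =
      (qb : G) * (I.uG * I.uG) * (qb : G)⁻¹ by group, I.uG_sq, mul_one, mul_inv_cancel]
  have hinv : (a : G) * ((a : G) * b) ^ 4 * (a : G)⁻¹ = (((a : G) * b) ^ 4)⁻¹ := by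
    rw [← conj_pow, ← inv_pow, show (a : G) * ((a : G) * b) * (a : G)⁻¹ =
      (a : G) * a * b * (a : G)⁻¹ by group, ha2, one_mul, mul_inv_rev,
      inv_eq_of_mul_eq_one_right hb2]
  rcases key (a * b) hs.1 hs.2 with ⟨i, hi, ek⟩ | ⟨h, hh, hhN, ek⟩ <;>
    rw [show ((a * b : Ct L) : G) = (a : G) * b from rfl] at ek
  · refine no_inverter hF I qa.2 hqa' ?_
    have e : L.el z3 = (L.el z3 ^ i.1) ^ i.1 := by
      rw [← pow_mul, pow_eq_pow_mod _ (z3_cube L),
        sq_mod i hi, pow_one]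
    rw [e, ← conj_pow, ← ek, hinv, inv_pow]
  · set v1 := h * (a : G) * h⁻¹ with hv1
    have hv1inv : v1 * L.el x * v1⁻¹ = (L.el x)⁻¹ := by
      rw [← ek, hv1, show h * (a : G) * h⁻¹ * (h * ((a : G) * b) ^ 4 * h⁻¹) * (h * (a : G) * h⁻¹)⁻¹ =
        h * ((a : G) * ((a : G) * b) ^ 4 * (a : G)⁻¹) * h⁻¹ by group, hinv, conj_inv]
    have hv1c : v1 ∈ Ct L := mul_mem (mul_mem hh a.2) (inv_mem hh)
    have hio := gens_mem.2.2.2.2.2.2.2.2.2.2.2.2
    have hxB := gens_mem.2.2.2.2.1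
    have hiox : L.el iota * L.el x * (L.el iota)⁻¹ = (L.el x)⁻¹ := by
      rw [← L.el_conj hio hxB, x_eq.2.1, iota_facts.1, ← x_eq.2.1, L.el_inv hxB]
    have hprod : L.el iota * v1 ∈ L.e.range := by
      refine L.cent_el_x (mem_centralizer_singleton_iff.2 (mul_inv_eq_iff_eq_mul.1 ?_))
      rw [show L.el iota * v1 * L.el x * (L.el iota * v1)⁻¹ =
        L.el iota * (v1 * L.el x * v1⁻¹) * (L.el iota)⁻¹ by group, hv1inv, ← conj_inv, hiox,
        inv_inv]
    have hr : v1 ∈ L.e.range := by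
      have := mul_mem (inv_mem (L.el_mem hio)) hprod
      rwa [inv_mul_cancel_left] at this
    obtain ⟨a', i', c', f', e', he'⟩ := form_Ct L hv1c hr
    have hz : v1 * L.el z3 * v1⁻¹ = (L.el z3)⁻¹ := by
      rw [he', ← L.el_conj (nf_mem _ _ _ _ _ _ _) hxB, ← L.el_inv hxB] at hv1inv
      have hi' := L.el_inj (B.mul_mem (B.mul_mem (nf_mem _ _ _ _ _ _ _) hxB)
        (B.inv_mem (nf_mem _ _ _ _ _ _ _))) (B.inv_mem hxB) hv1inv
      rw [x_eq.2.1] at hi'
      rw [he', ← L.el_conj (nf_mem _ _ _ _ _ _ _) hz3, inverts_xz a' i' c' f' e' hi',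
        L.el_inv hz3]
    exact no_inverter hF I (mul_mem hh qa.2) (by rw [hv1, ← hqa']; group) hz

/-- The group `U` is normal in the centralizer. -/
theorem U_normal (hS : StmtSelfThree.{u}) : ((U I).subgroupOf (Ct L)).Normal := by
  haveI : Fact (Nat.Prime 3) := ⟨Nat.prime_three⟩
  obtain ⟨N, hN, huN, hD⟩ := exists_big hF I
  haveI := hN
  have hτB := gens_mem.2.2.2.2.2.2.2.1
  set τc : Ct L := ⟨L.el τ0, el_Ct L hτB rfl⟩ with hτc
  set yc : Ct L := ⟨L.el y, Etau_le_Ct L (el_y_mem L)⟩ with hyc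
  set uc : Ct L := ⟨I.uG, I.uG_Ct⟩ with huc
  have hτ2 : τc ^ 2 = 1 := Subtype.ext (by
    show L.el τ0 ^ 2 = 1
    rw [pow_two, el_tau_sq])
  haveI hTn : (zpowers τc).Normal := ⟨fun n hn g => by
    obtain ⟨j, rfl⟩ := mem_zpowers_iff.1 hn
    have hc : Commute g τc := Subtype.ext (mem_centralizer_singleton_iff.1 g.2)
    rw [(hc.zpow_right j).eq, mul_inv_cancel_right]
    exact zpow_mem (mem_zpowers _) _⟩
  set M1 := N ⊔ zpowers τc with hM1
  haveI hM1n : M1.Normal := by rw [hM1]; infer_instance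
  have hsq : ∀ g ∈ M1, g * g ∈ N := fun g hg => by
    obtain ⟨a, ha, b, hb, rfl⟩ := mem_sup_of_normal_left.1 hg
    obtain ⟨j, rfl⟩ := mem_zpowers_iff.1 hb
    have h2 : τc ^ j * τc ^ j = 1 := by
      rw [← zpow_add, show j + j = (2 : ℤ) * j by ring, zpow_mul, zpow_ofNat, hτ2, one_zpow]
    rw [show a * τc ^ j * (a * τc ^ j) = a * (τc ^ j * a * (τc ^ j)⁻¹) * (τc ^ j * τc ^ j) by group,
      h2, mul_one]
    exact mul_mem ha (hN.conj_mem a ha _)
  -- the elements of the Sylow subgroup with a component along `(6 7 8)` lie outside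
  have hout : ∀ a i : Fin 3, i ≠ 0 →
      (⟨L.el (nf a a 0 0 i 0 0), pe_mem_Ct L a i⟩ : Ct L) ∉ M1 := fun a i hi h => by
    have h2 := hsq _ h
    set g : G := L.el (nf a a 0 0 i 0 0) with hg
    have h3 : g ^ 3 = 1 := J_el_cube L (el_J L a a i)
    have hgC : g ∈ C3 L := el_C3 L (nf_mem _ _ _ _ _ _ _) (tau_gens a i).2.1
    refine hD _ (mul_mem hgC hgC) ?_ h2
    show cz L (g * g) ≠ 0
    rw [cz_mul hgC hgC, cz_eq (i := i) (by
      rw [hg, Etau_gen, mul_inv_cancel_right]; exact pow_mem (yM L).2 _)]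
    exact double_ne i hi
  have hu1 : uc ∈ M1 := mem_sup_left huN
  have hτ1 : τc ∈ M1 := mem_sup_right (mem_zpowers _)
  set E := (Etau L).subgroupOf (Ct L) with hE
  have hE3 : IsPGroup 3 E := (Etau_isPGroup L).comap_subtype
  set Uc := (U I).subgroupOf (Ct L) with hUc
  have hUc3 : (Nat.card Uc).Coprime 3 := by
    rw [hUc, Nat.card_congr (subgroupOfEquivOfLe (U_le_Ct I)).toEquiv]; exact U_coprime I
  have hbound : ∀ W : Subgroup (Ct L), (Nat.card W).Coprime 3 →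
      E ≤ normalizer (W : Set (Ct L)) → W ≤ Uc := by
    intro W hW hWn w hw
    have hn' : Etau L ≤ normalizer ((W.map (Ct L).subtype : Subgroup G) : Set G) := fun q hq => by
      refine mem_normalizer_fintype ?_
      rintro _ ⟨a, ha, rfl⟩
      exact ⟨⟨q, Etau_le_Ct L hq⟩ * a * ⟨q, Etau_le_Ct L hq⟩⁻¹,
        (mem_set_normalizer_iff.1 (hWn (show (⟨q, Etau_le_Ct L hq⟩ : Ct L) ∈ E from hq)) a).1 ha,
        rfl⟩
    exact bound hF I (map_subtype_le W)
      (by rwa [card_map_of_injective (subtype_injective _)]) hn' ⟨w, hw, rfl⟩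
  have hEnorm : ∀ K : Subgroup (Ct L), K.Normal → E ≤ normalizer (K : Set (Ct L)) := fun K hK => by
    rw [normalizer_eq_top_iff.2 hK]; exact le_top
  have hyE : yc ∈ E := el_y_mem L
  have hUgen : ∀ O : Subgroup (Ct L), uc ∈ O → (∀ o ∈ O, yc * o * yc⁻¹ ∈ O) → τc ∈ O →
      Uc ≤ O := by
    intro O ho hy ht w hw
    have hw' : (w : G) ∈ U I := hw
    obtain ⟨hm, h8⟩ := hw'
    have hu' := hy _ ho
    have hu'' := hy _ hu'
    have hval : ∀ v : Ct L, ∀ hv : (v : G) ∈ M3 L, I.φ ⟨v, hv⟩ = I.φ ⟨w, hm⟩ → v ∈ O → w ∈ O :=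
      fun v hv e hvO => by
        have : w = v := Subtype.ext (congrArg Subtype.val (I.φ.injective e)).symm
        rw [this]; exact hvO
    have huM : (uc : G) ∈ M3 L := I.uG_mem
    have hyM : (yc : G) ∈ M3 L := (yM L).2
    have hu'M : ((yc * uc * yc⁻¹ : Ct L) : G) ∈ M3 L := mul_mem (mul_mem hyM huM) (inv_mem hyM)
    have hu''M : ((yc * (yc * uc * yc⁻¹) * yc⁻¹ : Ct L) : G) ∈ M3 L :=
      mul_mem (mul_mem hyM hu'M) (inv_mem hyM)
    have eu : I.φ ⟨_, huM⟩ = I.u := by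
      rw [show (⟨(uc : G), huM⟩ : M3 L) = I.φ.symm I.u from rfl, I.φ.apply_symm_apply]
    have eu' : I.φ ⟨_, hu'M⟩ = I.φ (yM L) * I.u * (I.φ (yM L))⁻¹ := by
      rw [← eu, ← map_inv, ← map_mul, ← map_mul]; rfl
    have eu'' : I.φ ⟨_, hu''M⟩ =
        I.φ (yM L) * (I.φ (yM L) * I.u * (I.φ (yM L))⁻¹) * (I.φ (yM L))⁻¹ := by
      rw [← eu', ← map_inv, ← map_mul, ← map_mul]; rfl
    simp only [eight, List.mem_cons, List.not_mem_nil, or_false] at h8
    rcases h8 with e | e | e | e | e | e | e | e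
    · exact hval 1 (one_mem _) (by rw [e]; exact map_one I.φ) (one_mem _)
    · exact hval _ huM (by rw [e, eu]) ho
    · exact hval _ hu'M (by rw [e, eu']) hu'
    · exact hval _ hu''M (by rw [e, eu'']) hu''
    · exact hval _ (mul_mem huM hu'M) (by rw [e, ← eu', ← eu, ← map_mul]; rfl) (mul_mem ho hu')
    · exact hval _ (mul_mem huM hu''M) (by rw [e, ← eu'', ← eu, ← map_mul]; rfl) (mul_mem ho hu'')
    · exact hval _ (mul_mem hu'M hu''M) (by rw [e, ← eu'', ← eu', ← map_mul]; rfl)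
        (mul_mem hu' hu'')
    · exact hval _ (mul_mem (mul_mem huM hu'M) hu''M)
        (by rw [e, ← eu'', ← eu', ← eu, ← map_mul, ← map_mul]; rfl) (mul_mem (mul_mem ho hu') hu'')
  by_cases hy1 : yc ∈ M1
  · -- `y` lies in the normal subgroup
    obtain ⟨O, hRO, hOM, hOU, hO3, hMO, hMX⟩ := self_three_mod hS (zpowers τc) M1 E Uc yc (by
      rw [Nat.card_zpowers]; exact coprime_of_pow_eq_one (n := 2) (by norm_num) hτ2)
      le_sup_right hE3 (hEnorm _ hM1n) hy1 (by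
        refine orderOf_eq_prime (Subtype.ext (el_y_cube (L := L))) fun e => ?_
        exact (tau_gens 0 0).2.2.2.2.2.2.2.1 (L.el_inj gens_mem.2.2.2.1 B.one_mem
          ((congrArg Subtype.val e).trans L.el_one.symm)))
      (fun g hg hc => by
        obtain ⟨j, hj⟩ := mem_zpowers_iff.1 hc
        have hcy : g * yc = yc * g := by
          have e : g * yc * g⁻¹ = τc ^ j * yc := by rw [hj]; group
          have hcom : Commute (τc ^ j) yc :=
            (show Commute τc yc from Subtype.ext (mem_centralizer_singleton_iff.1 yc.2).symm).zpow_left j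
          have hy3 : yc ^ 3 = 1 := Subtype.ext (el_y_cube (L := L))
          have h3 : (τc ^ j) ^ 3 = 1 := by
            have := congrArg (· ^ 3) e
            rw [conj_pow, hy3, mul_one, mul_inv_cancel, hcom.mul_pow, hy3, mul_one] at this
            exact this.symm
          have h2 : (τc ^ j) ^ 2 = 1 := by
            rw [← zpow_natCast, ← zpow_mul, mul_comm, zpow_mul, zpow_natCast, hτ2, one_zpow]
          have h1 : τc ^ j = 1 := by rwa [pow_succ, h2, one_mul] at h3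
          rw [h1, one_mul] at e
          exact mul_inv_eq_iff_eq_mul.1 e
        have hgy : (g : G) * L.el y = L.el y * g := congrArg Subtype.val hcy
        obtain ⟨a, i, c, f, e, he⟩ := form_Ct L g.2 (cent_off hF (a := 1) (i := 0) one_ne_zero
          (by rw [nf_gens.2.2.2.1]; exact hgy))
        have hcy' := hgy
        rw [he, L.commute_el (nf_mem _ _ _ _ _ _ _) gens_mem.2.2.2.1] at hcy'
        obtain rfl := inverts_y a i c f e hcy'
        have hf : f = 0 := by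
          by_contra hf
          have hfz : (g : G) * L.el z3 * (g : G)⁻¹ = (L.el z3)⁻¹ := by
            rw [he, ← L.el_conj (nf_mem _ _ _ _ _ _ _) gens_mem.2.2.1, ← L.el_inv gens_mem.2.2.1]
            refine eq_of_el L ?_
            clear he hcy'
            revert hf; revert a i e f
            decide +kernel
          set z3c : Ct L := ⟨L.el z3, Etau_le_Ct L (el_z3_mem L)⟩ with hz3c
          have hin : g * z3c * g⁻¹ * z3c⁻¹ ∈ M1 := by
            rw [show g * z3c * g⁻¹ * z3c⁻¹ = g * (z3c * g⁻¹ * z3c⁻¹) by group]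
            exact mul_mem hg (hM1n.conj_mem _ (inv_mem hg) _)
          refine hout 0 1 one_ne_zero ?_
          convert hin using 1
          refine Subtype.ext ?_
          show L.el (nf 0 0 0 0 1 0 0) = (g : G) * L.el z3 * (g : G)⁻¹ * (L.el z3)⁻¹
          rw [nf_gens.2.2.1, hfz, ← mul_inv_rev, eq_inv_iff_mul_eq_one, ← mul_assoc, ← pow_two,
            ← pow_succ, z3_cube]
        subst hf
        have hg' : g = ⟨L.el (nf a a 0 0 i 0 0), pe_mem_Ct L a i⟩ * τc ^ e.1 := Subtype.ext (by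
          show (g : G) = L.el (nf a a 0 0 i 0 0) * L.el τ0 ^ e.1
          rw [he, nf_tau, L.el_mul (nf_mem _ _ _ _ _ _ _) (B.pow_mem hτB _), L.el_pow hτB])
        have hi : i = 0 := by
          by_contra hi
          refine hout a i hi ?_
          have := mul_mem hg (inv_mem (pow_mem hτ1 e.1))
          rwa [hg', mul_inv_cancel_right] at this
        subst hi
        rw [hg']
        refine mul_mem (mem_sup_left ?_) (mem_sup_right (pow_mem (mem_zpowers _) _))
        rw [show (⟨L.el (nf a a 0 0 0 0 0), pe_mem_Ct L a 0⟩ : Ct L) = yc ^ a.1 from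
          Subtype.ext (by
            show L.el (nf a a 0 0 0 0 0) = L.el y ^ a.1
            rw [Etau_gen, Fin.val_zero, pow_zero, mul_one])]
        exact pow_mem (mem_zpowers _) _)
      hUc3 (fun W _ hW hWn => hbound W hW hWn)
    -- the involution lies in the core
    set u' := yc * uc * yc⁻¹ with hu'
    have hy3 : yc ^ 3 = 1 := Subtype.ext (el_y_cube (L := L))
    have hyO : ∀ o ∈ O, yc * o * yc⁻¹ ∈ O := fun o ho =>
      (mem_set_normalizer_iff.1 (hMO hy1) o).1 ho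
    have huu' : uc * u' ∈ O := by
      have hsup : uc * u' ∈ zpowers yc ⊔ O := by
        have h1 := (mem_set_normalizer_iff.1 (hMX hu1) yc).1 (mem_sup_left (mem_zpowers _))
        have h2 := mul_mem h1 (inv_mem (mem_sup_left (mem_zpowers yc) : yc ∈ zpowers yc ⊔ O))
        have hu2 : uc⁻¹ = uc := inv_eq_of_mul_eq_one_right (Subtype.ext I.uG_sq)
        rw [hu'] 
        rw [hu2] at h2
        convert h2 using 1
        group
      have hle : zpowers yc ≤ normalizer (O : Set (Ct L)) := zpowers_le.2 (hMO hy1)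
      obtain ⟨a, ha, o, ho, he⟩ : ∃ a ∈ zpowers yc, ∃ o ∈ O, a * o = uc * u' := by
        rw [← SetLike.mem_coe, coe_mul_of_left_le_normalizer_right _ _ hle] at hsup
        obtain ⟨a, ha, o, ho, he⟩ := hsup
        exact ⟨a, ha, o, ho, he⟩
      have hw : uc * u' * (uc * u') = 1 := Subtype.ext
        (U_sq I ((U I).mul_mem (uG_U I) (y_conj_U I (uG_U I))))
      have ha2 : a * a ∈ O := by
        have hoa : a⁻¹ * o * a ∈ O := (mem_set_normalizer_iff''.1 (hle ha) o).1 ho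
        rw [← he] at hw
        have e1 : a * a = (a⁻¹ * o * a * o)⁻¹ := by
          refine eq_inv_of_mul_eq_one_left ?_
          calc a * a * (a⁻¹ * o * a * o) = a * o * (a * o) := by group
            _ = 1 := hw
        rw [e1]
        exact inv_mem (mul_mem hoa ho)
      obtain ⟨j, rfl⟩ := mem_zpowers_iff.1 ha
      have h3 : (yc ^ j) ^ 3 = 1 := by
        rw [← zpow_natCast, ← zpow_mul, mul_comm, zpow_mul, zpow_natCast, hy3, one_zpow]
      have h1 : (yc ^ j) ^ 2 = 1 := eq_one_of_coprime_cube hO3 (by rwa [pow_two]) (by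
        rw [← pow_mul, mul_comm, pow_mul, h3, one_pow])
      have h0 : yc ^ j = 1 := by rwa [pow_succ, h1, one_mul] at h3
      rw [← he, h0, one_mul]; exact ho
    have hu''O : yc * (uc * u') * yc⁻¹ ∈ O := hyO _ huu'
    have huO : uc ∈ O := by
      have hτO : τc ∈ O := hRO (mem_zpowers _)
      have e : yc * (uc * u') * yc⁻¹ = uc * τc := Subtype.ext (by
        show L.el y * (I.uG * (L.el y * I.uG * (L.el y)⁻¹)) * (L.el y)⁻¹ = I.uG * L.el τ0
        rw [← uG_moved I]; group)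
      rw [e] at hu''O
      exact (Subgroup.mul_mem_cancel_right _ hτO).1 hu''O
    have hUO : Uc ≤ O := hUgen O huO hyO (hRO (mem_zpowers _))
    have hOe : O = Uc := le_antisymm hOU hUO
    have hcore : Uc = (Cfsg.pPrimeCore 3 M1).map M1.subtype := by
      refine le_antisymm (CfsgLib.Base.le_map_pPrimeCore (hOe ▸ hOM) (hOe ▸ hMO) hUc3)
        (hbound _ (CfsgLib.Base.coprime_card_map_pPrimeCore M1) (hEnorm _ ?_))
      infer_instance
    rw [hcore]
    infer_instance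
  · -- `y` lies outside, and the normal subgroup has order prime to three
    have h3 : (Nat.card M1).Coprime 3 := by
      refine ((Nat.Prime.coprime_iff_not_dvd Nat.prime_three).2 fun hd => ?_).symm
      obtain ⟨⟨g, hg⟩, hgo⟩ := exists_prime_orderOf_dvd_card' 3 hd
      have hgo' : orderOf g = 3 := (orderOf_coe (⟨g, hg⟩ : M1)).trans hgo
      have hg3 : (g : G) ^ 3 = 1 := by
        rw [← hgo', ← orderOf_coe]; exact pow_orderOf_eq_one _
      obtain ⟨k, hk, hkE⟩ := sylow_conj (Etau_le_Ct L) (Etau_isPGroup L) (sylow_Ct_normalizer hF)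
        (zpowers_le.2 g.2) (isPGroup_zpowers hg3)
      obtain ⟨a, i, e⟩ := (mem_Etau L).1 (hkE _ (mem_zpowers (g : G)))
      have hin : (⟨L.el (nf a a 0 0 i 0 0), pe_mem_Ct L a i⟩ : Ct L) ∈ M1 := by
        convert hM1n.conj_mem g hg ⟨k, hk⟩ using 1
        exact Subtype.ext e.symm
      have hi : i = 0 := by_contra fun hi => hout a i hi hin
      subst hi
      have ha : a ≠ 0 := by
        rintro rfl
        rw [nf_gens.2.2.2.2.2.2.2.2, L.el_one, conj_eq_one_iff] at e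
        rw [show g = 1 from Subtype.ext e, orderOf_one] at hgo'
        omega
      refine hy1 ?_
      have := pow_mem hin a.1
      convert this using 1
      refine Subtype.ext ?_
      show L.el y = L.el (nf a a 0 0 0 0 0) ^ a.1
      rw [← L.el_pow (nf_mem _ _ _ _ _ _ _), line_pow a ha]
    have hle : M1 ≤ Uc := hbound M1 h3 (hEnorm _ hM1n)
    have hge : Uc ≤ M1 := hUgen M1 hu1 (fun o ho => hM1n.conj_mem o ho _) hτ1
    rw [le_antisymm hge hle]
    exact hM1n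

/-- The nonlocal case. -/
theorem six_case (hS : StmtSelfThree.{u}) :
    Ct L ≤ normalizer (zpowers (L.el z3) : Set G) := by
  haveI := U_normal hF I hS
  set Uc := (U I).subgroupOf (Ct L) with hUc
  set D := centralizer (Uc : Set (Ct L)) with hDdef
  haveI hDn : D.Normal := by rw [hDdef]; infer_instance
  set z3c : Ct L := ⟨L.el z3, Etau_le_Ct L (el_z3_mem L)⟩ with hz3c
  have hz3D : z3c ∈ D := mem_centralizer_iff.2 fun w hw => Subtype.ext (z3_comm_U I hw)
  have hUD : Uc ≤ D := fun w hw => mem_centralizer_iff.2 fun v hv => Subtype.ext (U_comm I hv hw)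
  have hUc3 : (Nat.card Uc).Coprime 3 := by
    rw [hUc, Nat.card_congr (subgroupOfEquivOfLe (U_le_Ct I)).toEquiv]; exact U_coprime I
  have hz3c3 : z3c ^ 3 = 1 := Subtype.ext (z3_cube L)
  -- the centralizer of `(6 7 8)` in `D`
  have hcentD : ∀ g ∈ D, g * z3c = z3c * g → g ∈ zpowers z3c ⊔ Uc := fun g hg hc => by
    have hgC : (g : G) ∈ C3 L := mem_centralizer_singleton_iff.2 (congrArg Subtype.val hc)
    obtain ⟨i, hi⟩ := exists_dec L hgC
    set m := (g : G) * (L.el z3 ^ i.1)⁻¹ with hm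
    have hmc : m ∈ Ct L := mul_mem g.2 (inv_mem (pow_mem (Etau_le_Ct L (el_z3_mem L)) _))
    have hmU : ∀ v ∈ U I, m * v = v * m := fun v hv => by
      have h1 : Commute (g : G) v := (congrArg Subtype.val
        (mem_centralizer_iff.1 hg ⟨v, U_le_Ct I hv⟩ hv)).symm
      exact (h1.mul_left (Commute.pow_left (z3_comm_U I hv).symm i.1).inv_left).eq
    have hmU' : m ∈ U I := by
      refine ⟨hi, I.facts.cent _ (comm_tauM I hi hmc) ?_ ?_⟩
      · have := hmU _ (uG_U I)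
        rw [← I.φ.apply_symm_apply I.u, ← map_mul, ← map_mul]
        exact congrArg I.φ (Subtype.ext this)
      · have := hmU _ (y_conj_U I (uG_U I))
        rw [← I.φ.apply_symm_apply I.u, ← map_inv, ← map_mul, ← map_mul, ← map_mul, ← map_mul]
        exact congrArg I.φ (Subtype.ext this)
    have : g = ⟨m, hmc⟩ * z3c ^ i.1 := Subtype.ext (by
      show (g : G) = m * L.el z3 ^ i.1
      rw [hm, inv_mul_cancel_right])
    rw [this]
    exact mul_mem (mem_sup_right hmU') (mem_sup_left (pow_mem (mem_zpowers _) _))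
  obtain ⟨O, -, -, hOU, -, -, hDX⟩ := self_three_mod hS Uc D ((Etau L).subgroupOf (Ct L)) Uc z3c
    hUc3 hUD (Etau_isPGroup L).comap_subtype
    (by rw [normalizer_eq_top_iff.2 hDn]; exact le_top) hz3D
    (orderOf_eq_prime hz3c3 fun e => z3_ne_one L (congrArg Subtype.val e))
    (fun g hg hc => by
      refine hcentD g hg ?_
      set r := g * z3c * g⁻¹ * z3c⁻¹ with hr
      have hrz : Commute r z3c := Subtype.ext (z3_comm_U I hc)
      have e : g * z3c * g⁻¹ = r * z3c := by rw [hr]; group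
      have h3 : r ^ 3 = 1 := by
        have := congrArg (· ^ 3) e
        rw [conj_pow, hz3c3, mul_one, mul_inv_cancel, hrz.mul_pow, hz3c3, mul_one] at this
        exact this.symm
      rw [eq_one_of_coprime_cube hUc3 hc h3, one_mul] at e
      exact mul_inv_eq_iff_eq_mul.1 e)
    hUc3 (fun W hWD hW hWn => by
      intro w hw
      have hn' : Etau L ≤ normalizer ((W.map (Ct L).subtype : Subgroup G) : Set G) := fun q hq => by
        refine mem_normalizer_fintype ?_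
        rintro _ ⟨a, ha, rfl⟩
        exact ⟨⟨q, Etau_le_Ct L hq⟩ * a * ⟨q, Etau_le_Ct L hq⟩⁻¹,
          (mem_set_normalizer_iff.1 (hWn (show (⟨q, Etau_le_Ct L hq⟩ : Ct L) ∈
            (Etau L).subgroupOf (Ct L) from hq)) a).1 ha, rfl⟩
      exact bound hF I (map_subtype_le W)
        (by rwa [card_map_of_injective (subtype_injective _)]) hn' ⟨w, hw, rfl⟩)
  have hcenX : ∀ w ∈ zpowers z3c ⊔ O, ∃ j : ℤ, ∃ v ∈ Uc, w = z3c ^ j * v := fun w hw => by
    have hle : zpowers z3c ⊔ O ≤ zpowers z3c ⊔ Uc := sup_le_sup_left hOU _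
    obtain ⟨a, ha, v, hv, rfl⟩ := mem_sup_of_normal_right.1 (hle hw)
    obtain ⟨j, rfl⟩ := mem_zpowers_iff.1 ha
    exact ⟨j, v, hv, rfl⟩
  have hthree : ∀ w ∈ zpowers z3c ⊔ O, w ^ 3 = 1 → w ∈ zpowers z3c := fun w hw hw3 => by
    obtain ⟨j, v, hv, rfl⟩ := hcenX w hw
    have hc : Commute (z3c ^ j) v :=
      (show Commute z3c v from (Subtype.ext (z3_comm_U I hv)).symm).zpow_left j
    have h3 : (z3c ^ j) ^ 3 = 1 := by
      rw [← zpow_natCast, ← zpow_mul, mul_comm, zpow_mul, zpow_natCast, hz3c3, one_zpow]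
    rw [hc.mul_pow, h3, one_mul] at hw3
    rw [eq_one_of_coprime_cube hUc3 hv hw3, mul_one]
    exact zpow_mem (mem_zpowers _) _
  intro g hg
  set gc : Ct L := ⟨g, hg⟩ with hgc
  set d := gc * z3c * gc⁻¹ with hd
  have hdD : d ∈ D := hDn.conj_mem _ hz3D _
  have hd3 : d ^ 3 = 1 := by rw [hd, conj_pow, hz3c3, mul_one, mul_inv_cancel]
  have hdn : d * z3c * d⁻¹ ∈ zpowers z3c := by
    refine hthree _ ((mem_set_normalizer_iff.1 (hDX hdD) _).1 (mem_sup_left (mem_zpowers _))) ?_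
    rw [conj_pow, hz3c3, mul_one, mul_inv_cancel]
  have hdc : (d : G) * L.el z3 = L.el z3 * d := by
    refine comm_of_odd (z3_cube L) ⟨1, by simpa using congrArg Subtype.val hd3⟩ ?_
    obtain ⟨n, hn⟩ := mem_zpowers_iff.1 hdn
    refine normalizes_of_conj (i := 1) (by decide) ?_
    rw [Fin.val_one, pow_one]
    exact ⟨n, by simpa using congrArg Subtype.val hn⟩
  have hdU := hcentD d hdD (Subtype.ext hdc)
  have hdz : d ∈ zpowers z3c := by
    obtain ⟨a, ha, v, hv, he⟩ := mem_sup_of_normal_right.1 hdU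
    obtain ⟨j, rfl⟩ := mem_zpowers_iff.1 ha
    have hc : Commute (z3c ^ j) v :=
      (show Commute z3c v from (Subtype.ext (z3_comm_U I hv)).symm).zpow_left j
    have h3 : (z3c ^ j) ^ 3 = 1 := by
      rw [← zpow_natCast, ← zpow_mul, mul_comm, zpow_mul, zpow_natCast, hz3c3, one_zpow]
    rw [← he, hc.mul_pow, h3, one_mul] at hd3
    rw [← he, eq_one_of_coprime_cube hUc3 hv hd3, mul_one]
    exact zpow_mem (mem_zpowers _) _
  obtain ⟨n, hn⟩ := mem_zpowers_iff.1 hdz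
  refine normalizes_of_conj (i := 1) (by decide) ?_
  rw [Fin.val_one, pow_one]
  exact ⟨n, by simpa [hd] using congrArg Subtype.val hn⟩

end Six

end CentTau

open CentTau in
/-- The centralizer of `(0 3)(1 4)(2 5)` normalizes the group generated by `(6 7 8)`. -/
theorem cent_tau (hF : StmtFacts.{u}) (hA : StmtAxis.{u}) (hT : StmtSelfThree.{u}) :
    StmtCentTau.{u} := by
  intro G _ _ L
  have F := hF L le_rfl gens_mem.2.2.2.2.2.1
  rcases C3_cases F with h | ⟨⟨φ⟩⟩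
  · exact local_case F hA h
  · obtain ⟨I⟩ := exists_sixIso F φ
    exact six_case F I hT

end CfsgLib.SNineThree
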