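import Cfsg.Agent.Lib.SNineThree.CentTauSplit

/-!
General facts on the centralizer of `(0 3)(1 4)(2 5)` and the case of a local centralizer of
`(6 7 8)`.
-/

set_option autoImplicit false
set_option linter.style.haveILetI false
set_option linter.unusedSectionVars false
set_option maxRecDepth 100000

namespace CfsgLib.SNineThree.CentTau

open Subgroup Equiv
open CfsgLib.ANineThree (P9 z z2 z3 y x p τ)

universe u

theorem tau_gens : ∀ a i : Fin 3, nf a a 0 0 i 0 0 * y = y * nf a a 0 0 i 0 0 ∧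
    nf a a 0 0 i 0 0 * z3 = z3 * nf a a 0 0 i 0 0 ∧
    nf a a 0 0 i 0 0 = y ^ a.1 * z3 ^ i.1 ∧ z * y = y * z ∧ z2 * y = y * z2 ∧
    z * z3 = z3 * z ∧ z2 * z3 = z3 * z2 ∧ y ≠ 1 ∧ y 6 = 6 ∧ z3 6 ≠ 6 ∧
    z ^ 3 = 1 ∧ z2 ^ 3 = 1 := by decide +kernel

theorem tau_square : ∀ a i : Fin 3, ∀ c f e : Fin 2,
    (nf a a c c i f e * nf a a c c i f e) * y = y * (nf a a c c i f e * nf a a c c i f e) ∧
    (nf a a c c i f e * nf a a c c i f e) * z3 = z3 * (nf a a c c i f e * nf a a c c i f e) := by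
  decide +kernel

theorem z3_line : ∀ i : Fin 3, i ≠ 0 → nf 0 0 0 0 i 0 0 ^ i.1 = z3 := by decide +kernel

theorem quot_facts : ∀ c f : Fin 2, nf 0 0 c c 0 f 0 * τ0 = τ0 * nf 0 0 c c 0 f 0 := by
  decide +kernel

variable {G : Type u} [Group G] [Finite G] (L : Loc B G)

theorem pe_mem_Ct (a i : Fin 3) : L.el (nf a a 0 0 i 0 0) ∈ Ct L :=
  el_Ct L (nf_mem _ _ _ _ _ _ _) (plane_facts.2.2.2.2.2 a i)

/-- The Sylow subgroup of the centralizer. -/
noncomputable def Etau : Subgroup G :=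
  (MonoidHom.mk' (fun v : Multiplicative (Fin 3 × Fin 3) =>
    L.el (nf v.toAdd.1 v.toAdd.1 0 0 v.toAdd.2 0 0)) fun v w => by
      show L.el _ = L.el _ * L.el _
      rw [← L.el_mul (nf_mem _ _ _ _ _ _ _) (nf_mem _ _ _ _ _ _ _), ← plane_facts.1]
      rfl).range

theorem mem_Etau {g : G} : g ∈ Etau L ↔ ∃ a i : Fin 3, g = L.el (nf a a 0 0 i 0 0) := by
  constructor
  · rintro ⟨v, rfl⟩
    exact ⟨_, _, rfl⟩
  · rintro ⟨a, i, rfl⟩
    exact ⟨Multiplicative.ofAdd (a, i), rfl⟩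

theorem Etau_le_J : Etau L ≤ L.J := fun g hg => by
  obtain ⟨a, i, rfl⟩ := (mem_Etau L).1 hg
  exact el_J L a a i

theorem Etau_le_Ct : Etau L ≤ Ct L := fun g hg => by
  obtain ⟨a, i, rfl⟩ := (mem_Etau L).1 hg
  exact pe_mem_Ct L a i

theorem Etau_isPGroup : IsPGroup 3 (Etau L) := fun g =>
  ⟨1, Subtype.ext (by simpa using J_el_cube L (Etau_le_J L g.2))⟩

theorem el_y_mem : L.el y ∈ Etau L := (mem_Etau L).2 ⟨1, 0, by rw [nf_gens.2.2.2.1]⟩

theorem el_z3_mem : L.el z3 ∈ Etau L := (mem_Etau L).2 ⟨0, 1, by rw [nf_gens.2.2.1]⟩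

theorem Etau_gen (a i : Fin 3) :
    L.el (nf a a 0 0 i 0 0) = L.el y ^ a.1 * L.el z3 ^ i.1 := by
  obtain ⟨-, -, h3, hy, -⟩ := gens_mem
  rw [(tau_gens a i).2.2.1, L.el_mul (B.pow_mem hy _) (B.pow_mem h3 _), L.el_pow hy, L.el_pow h3]

theorem card_Etau : Nat.card (Etau L) = 9 := by
  have h := Nat.card_congr (Equiv.ofBijective
    (fun v : Fin 3 × Fin 3 => (⟨L.el (nf v.1 v.1 0 0 v.2 0 0), (mem_Etau L).2 ⟨_, _, rfl⟩⟩ : Etau L))
    ⟨fun v w e => ?_, fun g => ?_⟩)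
  · rw [← h, Nat.card_eq_fintype_card]; rfl
  · have e' := L.el_inj (nf_mem _ _ _ _ _ _ _) (nf_mem _ _ _ _ _ _ _) (congrArg Subtype.val e)
    have hinj : ∀ a i a' i' : Fin 3, nf a a 0 0 i 0 0 = nf a' a' 0 0 i' 0 0 → (a, i) = (a', i') := by
      decide +kernel
    exact hinj _ _ _ _ e'
  · obtain ⟨a, i, e⟩ := (mem_Etau L).1 g.2
    exact ⟨(a, i), Subtype.ext e.symm⟩

variable {L} (hF : Facts L)

include hF

theorem cent_pair {g : G} (h1 : g * L.el y = L.el y * g) (h2 : g * L.el z3 = L.el z3 * g) :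
    g ∈ L.e.range := by
  refine hF.cent_two y J0_gens.2.2.2.1 z3 J0_gens.2.2.1 (tau_gens 0 0).2.2.2.2.2.2.2.1 ?_ ?_
  · intro h
    exact (tau_gens 0 0).2.2.2.2.2.2.2.2.2.1
      ((zpowers_le.2 (show y ∈ MulAction.stabilizer P9 (6 : Fin 9) from
        (tau_gens 0 0).2.2.2.2.2.2.2.2.1)) h)
  · rw [mem_centralizer_iff]
    rintro q (rfl | rfl)
    · exact h1.symm
    · exact h2.symm

theorem cent_off {a i : Fin 3} (ha : a ≠ 0) {g : G}
    (hg : g * L.el (nf a a 0 0 i 0 0) = L.el (nf a a 0 0 i 0 0) * g) : g ∈ L.e.range := by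
  have hg' := mem_centralizer_singleton_iff.2 hg
  by_cases hi : i = 0
  · subst hi
    refine hF.cent_one _ ((mem_J0_iff a a 0 0 0 0 0).2 ⟨rfl, rfl, rfl, rfl⟩) ?_ ?_ hg'
    · intro e
      exact ha ((plane_facts.2.1 a 0 e).1)
    · intro σ hσ hc
      have hcy : σ * y = y * σ := by
        rw [← line_pow a ha]
        exact (show Commute σ _ from hc).pow_right _
      obtain ⟨a', b', c, d, i', f, e, rfl⟩ := exists_nf hσ (six_y hcy)
      exact stab_y a' b' i' c d f e hcy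
  · obtain ⟨c, f, e⟩ := to_x a i ha hi
    have hw := nf_mem 0 0 c c 0 f 0
    have hj := nf_mem a a 0 0 i 0 0
    have hin : L.el (nf 0 0 c c 0 f 0) * g * (L.el (nf 0 0 c c 0 f 0))⁻¹ ∈ L.e.range := by
      refine L.cent_el_x (mem_centralizer_singleton_iff.2 ?_)
      rw [← e, L.el_conj hw hj]
      exact (show Commute g _ from hg).map (MulAut.conj _).toMonoidHom
    have := mul_mem (mul_mem (inv_mem (L.el_mem hw)) hin) (L.el_mem hw)
    simpa [mul_assoc] using this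

theorem Etau_normalizer {g : G} (hg : g ∈ normalizer (Etau L : Set G)) : g ∈ L.e.range := by
  obtain ⟨-, -, -, hy1, hy2, hz1, hz2, -⟩ := tau_gens 0 0
  obtain ⟨mz, mz2, mz3, my, -⟩ := gens_mem
  have back : ∀ {w : G}, w ∈ Etau L → g⁻¹ * w * g ∈ Etau L := fun {w} hw =>
    (mem_set_normalizer_iff''.1 hg w).1 hw
  have key : ∀ {q : P9}, q ∈ B → q * y = y * q → q * z3 = z3 * q → q ^ 3 = 1 →
      g * L.el q * g⁻¹ ∈ L.J := by
    intro q hq hqy hqz hq3
    have hcom : ∀ {w : G}, w ∈ Etau L → L.el q * w = w * L.el q := fun {w} hw => by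
      obtain ⟨a, i, rfl⟩ := (mem_Etau L).1 hw
      rw [Etau_gen]
      exact (Commute.pow_right (el_comm L hq my hqy) _).mul_right
        (Commute.pow_right (el_comm L hq mz3 hqz) _)
    have hc : ∀ {w : G}, w ∈ Etau L → g * L.el q * g⁻¹ * w = w * (g * L.el q * g⁻¹) := fun {w} hw => by
      have h := hcom (back hw)
      calc g * L.el q * g⁻¹ * w = g * (L.el q * (g⁻¹ * w * g)) * g⁻¹ := by group
        _ = w * (g * L.el q * g⁻¹) := by rw [h]; group
    have hr := cent_pair hF (hc (el_y_mem L)) (hc (el_z3_mem L))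
    obtain ⟨σ, hσ, e⟩ := L.mem_range.1 hr
    have s1 := hc (el_y_mem L)
    have s2 := hc (el_z3_mem L)
    rw [← e, L.commute_el hσ my] at s1
    rw [← e, L.commute_el hσ mz3] at s2
    obtain ⟨a, b, c, d, i, f, ee, rfl⟩ := exists_nf hσ (six_z3 s2)
    obtain ⟨rfl, rfl, rfl⟩ := comm_y_z3 a b i c d f ee s1 s2
    have h3 : nf a b 0 0 i 0 ee ^ 3 = 1 := by
      refine L.el_inj (B.pow_mem (nf_mem _ _ _ _ _ _ _) _) B.one_mem ?_
      rw [L.el_pow (nf_mem _ _ _ _ _ _ _), e, conj_pow, ← L.el_pow hq, hq3, L.el_one, mul_one,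
        mul_inv_cancel]
    obtain rfl := tau_cube a b i ee h3
    rw [← e]
    exact el_J L a b i
  refine range_of_gens L (key mz hy1 hz1 (tau_gens 0 0).2.2.2.2.2.2.2.2.2.2.1)
    (key mz2 hy2 hz2 (tau_gens 0 0).2.2.2.2.2.2.2.2.2.2.2) ?_
  exact Etau_le_J L ((mem_set_normalizer_iff.1 hg _).1 (el_z3_mem L))

theorem sylow_Ct_normalizer : ∀ t ∈ Ct L, (∃ k, t ^ 3 ^ k = 1) →
    t ∈ normalizer (Etau L : Set G) → t ∈ Etau L := by
  intro t ht h3 hn
  obtain ⟨a, i, c, f, e, rfl⟩ := form_Ct L ht (Etau_normalizer hF hn)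
  refine mem_of_pow_four h3 ?_
  obtain ⟨a', i', he⟩ := pow_four_tau a i c f e
  rw [← L.el_pow (nf_mem _ _ _ _ _ _ _), he]
  exact (mem_Etau L).2 ⟨a', i', rfl⟩

/-- The invariant subgroups of order prime to three centralize `(6 7 8)`. -/
theorem invariant_le {W : Subgroup G} (hW : W ≤ Ct L) (hW3 : (Nat.card W).Coprime 3)
    (hn : Etau L ≤ normalizer (W : Set G)) : W ≤ C3 L := by
  haveI : IsMulCommutative (Etau L) :=
    ⟨⟨fun a b => Subtype.ext (J_el_comm L (Etau_le_J L a.2) (Etau_le_J L b.2))⟩⟩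
  refine CfsgLib.Coprime.le_of_centralizer_le_of_not_isCyclic (A := Etau L) ?_ hn ?_ fun v hv hv1 => ?_
  · intro hc
    obtain ⟨q, hq⟩ := hc.exists_generator
    have h9 := orderOf_eq_card_of_forall_mem_zpowers hq
    rw [card_Etau] at h9
    have h3 : q ^ 3 = 1 := Subtype.ext (by simpa using J_el_cube L (Etau_le_J L q.2))
    have := Nat.le_of_dvd (by norm_num) (orderOf_dvd_of_pow_eq_one h3)
    omega
  · rw [card_Etau, show 9 = 3 ^ 2 by norm_num]
    exact (Nat.Coprime.pow_right 2 hW3).symm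
  · obtain ⟨a, i, rfl⟩ := (mem_Etau L).1 hv
    rintro w ⟨hwW, hw⟩
    have hw' := mem_centralizer_singleton_iff.1 hw
    by_cases ha : a = 0
    · subst ha
      have hi : i ≠ 0 := by
        rintro rfl
        exact hv1 (by rw [nf_gens.2.2.2.2.2.2.2.2, L.el_one])
      rw [mem_centralizer_singleton_iff]
      have e : L.el z3 = L.el (nf 0 0 0 0 i 0 0) ^ i.1 := by
        rw [← L.el_pow (nf_mem _ _ _ _ _ _ _)]
        exact eq_of_el L (z3_line i hi).symm
      rw [e]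
      exact (show Commute w _ from hw').pow_right _
    · obtain ⟨σ, hσ, e⟩ := L.mem_range.1 (cent_off hF ha hw')
      rw [mem_centralizer_singleton_iff]
      have hz := el_z3_mem L
      have hmemW : L.el σ * L.el z3 * (L.el σ)⁻¹ * (L.el z3)⁻¹ ∈ W := by
        rw [show L.el σ * L.el z3 * (L.el σ)⁻¹ * (L.el z3)⁻¹ =
          L.el σ * (L.el z3 * (L.el σ)⁻¹ * (L.el z3)⁻¹) by group]
        exact mul_mem (e ▸ hwW)
          ((mem_set_normalizer_iff.1 (hn hz) _).1 (inv_mem (e ▸ hwW)))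
      have hJ : L.el σ * L.el z3 * (L.el σ)⁻¹ * (L.el z3)⁻¹ ∈ L.J :=
        mul_mem (conj_J L hσ (Etau_le_J L hz)) (inv_mem (Etau_le_J L hz))
      have h1 := eq_one_of_coprime_cube hW3 hmemW (J_el_cube L hJ)
      rw [mul_inv_eq_one, mul_inv_eq_iff_eq_mul] at h1
      rw [← e]; exact h1

theorem commute_y_of_invariant {W : Subgroup G} (hW3 : (Nat.card W).Coprime 3)
    (hn : Etau L ≤ normalizer (W : Set G)) {σ : P9} (hσ : σ ∈ B) (hw : L.el σ ∈ W) :
    L.el σ * L.el y = L.el y * L.el σ := by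
  have hy := el_y_mem L
  have hmemW : L.el σ * L.el y * (L.el σ)⁻¹ * (L.el y)⁻¹ ∈ W := by
    rw [show L.el σ * L.el y * (L.el σ)⁻¹ * (L.el y)⁻¹ =
      L.el σ * (L.el y * (L.el σ)⁻¹ * (L.el y)⁻¹) by group]
    exact mul_mem hw ((mem_set_normalizer_iff.1 (hn hy) _).1 (inv_mem hw))
  have hJ : L.el σ * L.el y * (L.el σ)⁻¹ * (L.el y)⁻¹ ∈ L.J :=
    mul_mem (conj_J L hσ (Etau_le_J L hy)) (inv_mem (Etau_le_J L hy))
  have h1 := eq_one_of_coprime_cube hW3 hmemW (J_el_cube L hJ)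
  rwa [mul_inv_eq_one, mul_inv_eq_iff_eq_mul] at h1

theorem centralizer_Etau_form {g : G} (hg : g ∈ Ct L) (h1 : g * L.el y = L.el y * g)
    (h2 : g * L.el z3 = L.el z3 * g) :
    ∃ a i : Fin 3, ∃ e : Fin 2, g = L.el (nf a a 0 0 i 0 e) := by
  obtain ⟨a, i, c, f, e, rfl⟩ := form_Ct L hg (cent_pair hF h1 h2)
  rw [L.commute_el (nf_mem _ _ _ _ _ _ _) gens_mem.2.2.2.1] at h1
  rw [L.commute_el (nf_mem _ _ _ _ _ _ _) gens_mem.2.2.1] at h2
  obtain ⟨rfl, -, rfl⟩ := comm_y_z3 a a i c c f e h1 h2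
  exact ⟨a, i, e, rfl⟩

omit hF in
theorem normalizes_Etau {g : G} (hg : g ∈ Ct L) (hr : g ∈ L.e.range) :
    g ∈ normalizer (Etau L : Set G) := by
  obtain ⟨a, i, c, f, e, rfl⟩ := form_Ct L hg hr
  obtain ⟨-, t3', ty⟩ := tau_form a i c f e
  refine mem_normalizer_fintype fun q hq => ?_
  obtain ⟨a', i', rfl⟩ := (mem_Etau L).1 hq
  have hy : L.el (nf a a c c i f e) * L.el y * (L.el (nf a a c c i f e))⁻¹ ∈ Etau L := by
    rw [← L.el_conj (nf_mem _ _ _ _ _ _ _) gens_mem.2.2.2.1]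
    simp only [List.mem_cons, List.not_mem_nil, or_false] at ty
    rcases ty with h | h <;> rw [h]
    · exact el_y_mem L
    · rw [L.el_inv gens_mem.2.2.2.1]; exact inv_mem (el_y_mem L)
  have hz : L.el (nf a a c c i f e) * L.el z3 * (L.el (nf a a c c i f e))⁻¹ ∈ Etau L := by
    rw [← L.el_conj (nf_mem _ _ _ _ _ _ _) gens_mem.2.2.1]
    simp only [List.mem_cons, List.not_mem_nil, or_false] at t3'
    rcases t3' with h | h <;> rw [h]
    · exact el_z3_mem L
    · rw [L.el_inv gens_mem.2.2.1]; exact inv_mem (el_z3_mem L)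
  rw [SetLike.mem_coe, Etau_gen, show ∀ g a b : G, g * (a * b) * g⁻¹ =
    g * a * g⁻¹ * (g * b * g⁻¹) from fun g a b => by group, ← conj_pow, ← conj_pow]
  exact mul_mem (pow_mem hy _) (pow_mem hz _)

/-- The case of a local centralizer of `(6 7 8)`. -/
theorem local_case (hA : StmtAxis.{u}) (h3 : C3 L ≤ L.e.range) :
    Ct L ≤ normalizer (zpowers (L.el z3) : Set G) := by
  haveI : Fact (Nat.Prime 3) := ⟨Nat.prime_three⟩
  obtain ⟨T, hT⟩ := sylow_exists (Etau_le_Ct L) (Etau_isPGroup L) (sylow_Ct_normalizer hF)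
  set E := (Etau L).subgroupOf (Ct L) with hE
  set τc : Ct L := ⟨L.el τ0, el_Ct L gens_mem.2.2.2.2.2.2.2.1 rfl⟩ with hτc
  have hτ2 : τc ^ 2 = 1 := Subtype.ext (by
    show L.el τ0 ^ 2 = 1
    rw [← L.el_pow gens_mem.2.2.2.2.2.2.2.1, pow_two, iota_facts.2.2.2.2.2.2.2.2.2.2.1, L.el_one])
  have hcZ : (Nat.card (zpowers τc)).Coprime 3 := by
    rw [Nat.card_zpowers]
    exact coprime_of_pow_eq_one (n := 2) (by norm_num) hτ2
  have hZc : zpowers τc ≤ center (Ct L) := zpowers_le.2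
    (Subgroup.mem_center_iff.2 fun g => Subtype.ext (mem_centralizer_singleton_iff.1 g.2))
  have hnorm : ∀ g : Ct L, (g : G) ∈ L.e.range → g ∈ normalizer (E : Set (Ct L)) := fun g hr =>
    mem_normalizer_fintype fun q hq =>
      (mem_set_normalizer_iff.1 (normalizes_Etau g.2 hr) _).1 hq
  have hback : ∀ g : Ct L, g ∈ normalizer (E : Set (Ct L)) → (g : G) ∈ L.e.range := fun g hg => by
    refine Etau_normalizer hF (mem_normalizer_fintype fun q hq => ?_)
    exact (mem_set_normalizer_iff.1 hg ⟨q, Etau_le_Ct L hq⟩).1 hq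
  have hform : ∀ g : Ct L, g ∈ centralizer (E : Set (Ct L)) →
      ∃ a i : Fin 3, ∃ e : Fin 2, (g : G) = L.el (nf a a 0 0 i 0 e) := fun g hg => by
    have hy : (⟨L.el y, Etau_le_Ct L (el_y_mem L)⟩ : Ct L) ∈ E := el_y_mem L
    have hz : (⟨L.el z3, Etau_le_Ct L (el_z3_mem L)⟩ : Ct L) ∈ E := el_z3_mem L
    exact centralizer_Etau_form hF g.2 (congrArg Subtype.val (mem_centralizer_iff.1 hg _ hy)).symm
      (congrArg Subtype.val (mem_centralizer_iff.1 hg _ hz)).symm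
  have hsplit : ∀ g : Ct L, g ∈ centralizer (E : Set (Ct L)) → g ∈ E ⊔ zpowers τc := fun g hg => by
    obtain ⟨a, i, e, he⟩ := hform g hg
    have : g = ⟨L.el (nf a a 0 0 i 0 0), pe_mem_Ct L a i⟩ * τc ^ e.1 := Subtype.ext (by
      show (g : G) = L.el (nf a a 0 0 i 0 0) * L.el τ0 ^ e.1
      rw [he, nf_tau, L.el_mul (nf_mem _ _ _ _ _ _ _) (B.pow_mem gens_mem.2.2.2.2.2.2.2.1 _),
        L.el_pow gens_mem.2.2.2.2.2.2.2.1])
    rw [this]
    exact mul_mem (mem_sup_left ((mem_Etau L).2 ⟨a, i, rfl⟩))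
      (mem_sup_right (pow_mem (mem_zpowers _) _))
  have hmain : normalizer (E : Set (Ct L)) = ⊤ := by
    refine hA T E (zpowers τc) hT.symm ?_ (fun q hq => Subtype.ext ?_) hZc hcZ ?_ ?_ ?_ ?_ ?_
    · rw [hE, Nat.card_congr (subgroupOfEquivOfLe (Etau_le_Ct L)).toEquiv, card_Etau]
    · show (q : G) ^ 3 = 1
      exact J_el_cube L (Etau_le_J L hq)
    · refine le_antisymm hsplit (sup_le (fun q hq => mem_centralizer_iff.2 fun r hr =>
        Subtype.ext (J_el_comm L (Etau_le_J L hr) (Etau_le_J L hq))) ?_)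
      exact hZc.trans (center_le_centralizer _)
    · intro q hq hq1 g hg
      refine hnorm g ?_
      obtain ⟨a, i, he0⟩ := (mem_Etau L).1 hq
      have he : (q : G) = L.el (nf a a 0 0 i 0 0) := he0
      have hg' : (g : G) * L.el (nf a a 0 0 i 0 0) = L.el (nf a a 0 0 i 0 0) * g := by
        rw [← he]; exact congrArg Subtype.val (mem_centralizer_singleton_iff.1 hg)
      by_cases ha : a = 0
      · refine h3 (mem_centralizer_singleton_iff.2 ?_)
        subst ha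
        have hi : i ≠ 0 := by
          rintro rfl
          refine hq1 (Subtype.ext ?_)
          rw [he, nf_gens.2.2.2.2.2.2.2.2, L.el_one]
          rfl
        have e : L.el z3 = L.el (nf 0 0 0 0 i 0 0) ^ i.1 := by
          rw [← L.el_pow (nf_mem _ _ _ _ _ _ _)]
          exact eq_of_el L (z3_line i hi).symm
        rw [e]
        exact (show Commute (g : G) _ from hg').pow_right _
      · exact cent_off hF ha hg'
    · intro W hW hWn w hw
      have hWn' : Etau L ≤ normalizer ((W.map (Ct L).subtype : Subgroup G) : Set G) := fun q hq => by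
        refine mem_normalizer_fintype ?_
        rintro _ ⟨a, ha, rfl⟩
        exact ⟨⟨q, Etau_le_Ct L hq⟩ * a * ⟨q, Etau_le_Ct L hq⟩⁻¹,
          (mem_set_normalizer_iff.1 (hWn (show (⟨q, Etau_le_Ct L hq⟩ : Ct L) ∈ E from hq)) a).1 ha, rfl⟩
      have hW' : (Nat.card (W.map (Ct L).subtype)).Coprime 3 := by
        rwa [card_map_of_injective (subtype_injective _)]
      have hwm : (w : G) ∈ W.map (Ct L).subtype := ⟨w, hw, rfl⟩
      have hz := invariant_le hF (map_subtype_le W) hW' hWn' hwm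
      obtain ⟨σ, hσ, e⟩ := L.mem_range.1 (h3 hz)
      have hy := commute_y_of_invariant hF hW' hWn' hσ (e ▸ hwm)
      obtain ⟨a, i, f, he⟩ := centralizer_Etau_form hF w.2 (e ▸ hy)
        (mem_centralizer_singleton_iff.1 hz)
      obtain ⟨s1, s2, s3⟩ := sq_part a i f
      have h2 : L.el (nf a a 0 0 i 0 f) ^ 2 = 1 := by
        refine eq_one_of_coprime_cube hW' (pow_mem (he ▸ hwm) 2) ?_
        rw [← L.el_pow (nf_mem _ _ _ _ _ _ _), ← L.el_pow (B.pow_mem (nf_mem _ _ _ _ _ _ _) _), s1,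
          L.el_one]
      rw [← L.el_pow (nf_mem _ _ _ _ _ _ _), ← L.el_one] at h2
      obtain ⟨rfl, rfl⟩ := s2 (L.el_inj (B.pow_mem (nf_mem _ _ _ _ _ _ _) _) B.one_mem h2)
      rw [s3, L.el_pow gens_mem.2.2.2.2.2.2.2.1] at he
      rw [show w = τc ^ f.1 from Subtype.ext he]
      exact pow_mem (mem_zpowers _) _
    · intro g hg
      obtain ⟨a, i, c, f, e, he⟩ := form_Ct L g.2 (hback g hg)
      obtain ⟨k1, k2⟩ := tau_square a i c f e
      refine mem_centralizer_iff.2 fun q hq => Subtype.ext ?_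
      obtain ⟨a', i', hq0⟩ := (mem_Etau L).1 hq
      have hq' : (q : G) = L.el (nf a' a' 0 0 i' 0 0) := hq0
      have hm := B.mul_mem (nf_mem a a c c i f e) (nf_mem a a c c i f e)
      show (q : G) * ((g : G) * g) = (g : G) * g * q
      rw [hq', he, Etau_gen, ← L.el_mul (nf_mem _ _ _ _ _ _ _) (nf_mem _ _ _ _ _ _ _)]
      exact ((Commute.pow_right (el_comm L hm gens_mem.2.2.2.1 k1) _).mul_right
        (Commute.pow_right (el_comm L hm gens_mem.2.2.1 k2) _)).symm.eq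
    · set N := normalizer (E : Set (Ct L))
      let rep : Fin 2 × Fin 2 → N ⧸ (centralizer (E : Set (Ct L))).subgroupOf N := fun v =>
        QuotientGroup.mk ⟨⟨L.el (nf 0 0 v.1 v.1 0 v.2 0),
          el_Ct L (nf_mem _ _ _ _ _ _ _) (quot_facts v.1 v.2)⟩, hnorm _ (L.el_mem (nf_mem _ _ _ _ _ _ _))⟩
      have hs : Function.Surjective rep := by
        intro q
        obtain ⟨⟨g, hg⟩, rfl⟩ := QuotientGroup.mk_surjective q
        obtain ⟨a, i, c, f, e, he⟩ := form_Ct L g.2 (hback g hg)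
        refine ⟨(c, f), QuotientGroup.eq.2 (mem_subgroupOf.2 ?_)⟩
        obtain ⟨k1, k2⟩ := tau_quot a i c f e
        refine mem_centralizer_iff.2 fun r hr => Subtype.ext ?_
        obtain ⟨a', i', hr0⟩ := (mem_Etau L).1 hr
        have hr' : (r : G) = L.el (nf a' a' 0 0 i' 0 0) := hr0
        show (r : G) * ((L.el (nf 0 0 c c 0 f 0))⁻¹ * (g : G)) =
          (L.el (nf 0 0 c c 0 f 0))⁻¹ * (g : G) * r
        have hm := B.mul_mem (B.inv_mem (nf_mem 0 0 c c 0 f 0)) (nf_mem a a c c i f e)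
        rw [hr', he, Etau_gen, ← L.el_inv (nf_mem _ _ _ _ _ _ _),
          ← L.el_mul (B.inv_mem (nf_mem _ _ _ _ _ _ _)) (nf_mem _ _ _ _ _ _ _)]
        exact ((Commute.pow_right (el_comm L hm gens_mem.2.2.2.1 k1) _).mul_right
          (Commute.pow_right (el_comm L hm gens_mem.2.2.1 k2) _)).symm.eq
      refine (Nat.card_le_card_of_surjective rep hs).trans ?_
      rw [Nat.card_prod, Nat.card_eq_fintype_card, Fintype.card_fin]
  intro g hg
  have hr := hback ⟨g, hg⟩ (hmain ▸ mem_top _)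
  obtain ⟨a, i, c, f, e, rfl⟩ := form_Ct L hg hr
  refine mem_normalizer_fintype fun q hq => ?_
  obtain ⟨n, rfl⟩ := mem_zpowers_iff.1 hq
  rw [SetLike.mem_coe, ← conj_zpow, ← L.el_conj (nf_mem _ _ _ _ _ _ _) gens_mem.2.2.1]
  have t3' := (tau_form a i c f e).2.1
  simp only [List.mem_cons, List.not_mem_nil, or_false] at t3'
  rcases t3' with h | h <;> rw [h]
  · exact zpow_mem (mem_zpowers _) _
  · rw [L.el_inv gens_mem.2.2.1]; exact zpow_mem (inv_mem (mem_zpowers _)) _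

end CfsgLib.SNineThree.CentTau
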