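import Cfsg.Agent.Lib.SNineThree.Basic

/-!
The stabilizer of the third block in the model: normal form and finite facts for the centralizer of
`(0 3)(1 4)(2 5)`.
-/

set_option autoImplicit false
set_option maxRecDepth 100000
set_option maxHeartbeats 4000000

namespace CfsgLib.SNineThree.CentTau

open Equiv
open CfsgLib.ANineThree (P9 z z2 z3 y x p τ)

/-- `(0 1)` -/
def t1 : P9 := swap 0 1
/-- `(3 4)` -/
def t2 : P9 := swap 3 4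
/-- `(0 1)(3 4)` -/
def t12 : P9 := t1 * t2

/-- The normal form. -/
def nf (a b : Fin 3) (c d : Fin 2) (i : Fin 3) (f e : Fin 2) : P9 :=
  z ^ a.1 * z2 ^ b.1 * t1 ^ c.1 * t2 ^ d.1 * z3 ^ i.1 * t3 ^ f.1 * τ0 ^ e.1

theorem gens_mem : z ∈ B ∧ z2 ∈ B ∧ z3 ∈ B ∧ y ∈ B ∧ x ∈ B ∧ p ∈ B ∧ τ ∈ B ∧ τ0 ∈ B ∧ t1 ∈ B ∧
    t2 ∈ B ∧ t12 ∈ B ∧ t3 ∈ B ∧ iota ∈ B := by decide +kernel

theorem nf_mem (a b : Fin 3) (c d : Fin 2) (i : Fin 3) (f e : Fin 2) : nf a b c d i f e ∈ B := by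
  obtain ⟨h1, h2, h3, -, -, -, -, h0, h4, h5, -, h6, -⟩ := gens_mem
  exact B.mul_mem (B.mul_mem (B.mul_mem (B.mul_mem (B.mul_mem (B.mul_mem (B.pow_mem h1 _)
    (B.pow_mem h2 _)) (B.pow_mem h4 _)) (B.pow_mem h5 _)) (B.pow_mem h3 _)) (B.pow_mem h6 _))
    (B.pow_mem h0 _)

theorem block0 : ∀ a b : Fin 9, a ≠ b → a.1 / 3 = 0 → b.1 / 3 = 0 →
    ∃ k : Fin 3, ∃ c : Fin 2, (z ^ k.1 * t1 ^ c.1) 0 = a ∧ (z ^ k.1 * t1 ^ c.1) 1 = b := by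
  decide +kernel

theorem block1 : ∀ a b : Fin 9, a ≠ b → a.1 / 3 = 1 → b.1 / 3 = 1 →
    ∃ k : Fin 3, ∃ c : Fin 2, (z2 ^ k.1 * t2 ^ c.1) 3 = a ∧ (z2 ^ k.1 * t2 ^ c.1) 4 = b := by
  decide +kernel

theorem block2 : ∀ a b : Fin 9, a ≠ b → a.1 / 3 = 2 → b.1 / 3 = 2 →
    ∃ k : Fin 3, ∃ c : Fin 2, (z3 ^ k.1 * t3 ^ c.1) 6 = a ∧ (z3 ^ k.1 * t3 ^ c.1) 7 = b := by
  decide +kernel

theorem nf_values : ∀ a b i : Fin 3, ∀ c d f : Fin 2,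
    (nf a b c d i f 0) 0 = (z ^ a.1 * t1 ^ c.1) 0 ∧ (nf a b c d i f 0) 1 = (z ^ a.1 * t1 ^ c.1) 1 ∧
    (nf a b c d i f 0) 3 = (z2 ^ b.1 * t2 ^ d.1) 3 ∧
    (nf a b c d i f 0) 4 = (z2 ^ b.1 * t2 ^ d.1) 4 ∧
    (nf a b c d i f 0) 6 = (z3 ^ i.1 * t3 ^ f.1) 6 ∧
    (nf a b c d i f 0) 7 = (z3 ^ i.1 * t3 ^ f.1) 7 := by decide +kernel

theorem third_eq : ∀ q a b c : Fin 9, a ≠ b → c ≠ a → c ≠ b → q ≠ a → q ≠ b →
    a.1 / 3 = b.1 / 3 → c.1 / 3 = a.1 / 3 → q.1 / 3 = a.1 / 3 → c = q := by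
  intro q a b c hab hca hcb hqa hqb h1 h2 h3
  have := Fin.val_ne_of_ne hab
  have := Fin.val_ne_of_ne hca
  have := Fin.val_ne_of_ne hcb
  have := Fin.val_ne_of_ne hqa
  have := Fin.val_ne_of_ne hqb
  exact Fin.ext (by omega)

theorem nf_tau : ∀ a b i : Fin 3, ∀ c d f e : Fin 2,
    nf a b c d i f e = nf a b c d i f 0 * τ0 ^ e.1 := fun a b i c d f e => by
  simp [nf]

/-- The elements fixing the third block have normal form. -/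
theorem exists_nf {σ : P9} (hσ : σ ∈ B) (h6 : (σ 6).1 / 3 = 2) :
    ∃ a b : Fin 3, ∃ c d : Fin 2, ∃ i : Fin 3, ∃ f e : Fin 2, σ = nf a b c d i f e := by
  have hp := mem_B.1 hσ
  have hne : ∀ j : Fin 9, j.1 / 3 ≠ 2 → (σ j).1 / 3 ≠ 2 := fun j hj he => hj ((hp j 6).1 (by omega))
  obtain ⟨e, he⟩ : ∃ e : Fin 2, ((σ * (τ0 ^ e.1)⁻¹) 0).1 / 3 = 0 := by
    by_cases h0 : (σ 0).1 / 3 = 0
    · exact ⟨0, by simpa using h0⟩
    · refine ⟨1, ?_⟩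
      have h3 : τ0⁻¹ 0 = (3 : Fin 9) := by decide +kernel
      have := hne 0 (by decide)
      have := hne 3 (by decide)
      have : (σ 3).1 / 3 ≠ (σ 0).1 / 3 := fun h => absurd ((hp 3 0).1 h) (by decide)
      have := (σ 0).2
      have := (σ 3).2
      simp only [Fin.val_one, pow_one, Perm.mul_apply, h3]
      omega
  set s : P9 := σ * (τ0 ^ e.1)⁻¹ with hs
  have hsB : s ∈ B := B.mul_mem hσ (B.inv_mem (B.pow_mem gens_mem.2.2.2.2.2.2.2.1 _))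
  have hps := mem_B.1 hsB
  have hs6 : (s 6).1 / 3 = 2 := by
    have : ∀ e : Fin 2, (τ0 ^ e.1)⁻¹ 6 = (6 : Fin 9) := by decide +kernel
    rw [hs, Perm.mul_apply, this, h6]
  have hb : ∀ j : Fin 9, (s j).1 / 3 = j.1 / 3 := fun j => by
    have h3 : (s 3).1 / 3 = 1 := by
      have a1 : (s 3).1 / 3 ≠ (s 6).1 / 3 := fun h => absurd ((hps 3 6).1 h) (by decide)
      have a2 : (s 3).1 / 3 ≠ (s 0).1 / 3 := fun h => absurd ((hps 3 0).1 h) (by decide)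
      have := (s 3).2
      omega
    have := j.2
    rcases (show j.1 / 3 = 0 ∨ j.1 / 3 = 1 ∨ j.1 / 3 = 2 by omega) with h | h | h <;> rw [h]
    · rw [← he]; exact (hps j 0).2 (by rw [h]; rfl)
    · rw [← h3]; exact (hps j 3).2 (by rw [h]; rfl)
    · rw [← hs6]; exact (hps j 6).2 (by rw [h]; rfl)
  obtain ⟨a, c, ha, ha'⟩ := block0 (s 0) (s 1) (s.injective.ne (by decide)) (hb 0) (hb 1)
  obtain ⟨b, d, hb3, hb4⟩ := block1 (s 3) (s 4) (s.injective.ne (by decide)) (hb 3) (hb 4)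
  obtain ⟨i, f, hi, hi'⟩ := block2 (s 6) (s 7) (s.injective.ne (by decide)) (hb 6) (hb 7)
  refine ⟨a, b, c, d, i, f, e, ?_⟩
  obtain ⟨v0, v1, v3, v4, v6, v7⟩ := nf_values a b i c d f
  set n0 := nf a b c d i f 0 with hn0
  have hnb : ∀ j : Fin 9, (n0 j).1 / 3 = j.1 / 3 := by
    have : ∀ a b i : Fin 3, ∀ c d f : Fin 2, ∀ j : Fin 9,
        ((nf a b c d i f 0) j).1 / 3 = j.1 / 3 := by decide +kernel
    exact this a b i c d f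
  have hlast : ∀ q a b : Fin 9, a ≠ b → q ≠ a → q ≠ b → a.1 / 3 = b.1 / 3 → q.1 / 3 = a.1 / 3 →
      s a = n0 a → s b = n0 b → s q = n0 q := fun q a b hab hqa hqb h1 h2 e1 e2 => by
    refine third_eq _ (s a) (s b) _ (s.injective.ne hab) (s.injective.ne hqa) (s.injective.ne hqb)
      (e1 ▸ n0.injective.ne hqa) (e2 ▸ n0.injective.ne hqb) ?_ ?_ ?_
    · rw [hb, hb]; exact h1
    · rw [hb, hb]; exact h2
    · rw [hnb, hb]; exact h2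
  have e0 : s 0 = n0 0 := (v0.trans ha).symm
  have e1 : s 1 = n0 1 := (v1.trans ha').symm
  have e3 : s 3 = n0 3 := (v3.trans hb3).symm
  have e4 : s 4 = n0 4 := (v4.trans hb4).symm
  have e6 : s 6 = n0 6 := (v6.trans hi).symm
  have e7 : s 7 = n0 7 := (v7.trans hi').symm
  have hsn : s = n0 := Equiv.ext fun j => by
    fin_cases j
    · exact e0
    · exact e1
    · exact hlast 2 0 1 (by decide) (by decide) (by decide) rfl rfl e0 e1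
    · exact e3
    · exact e4
    · exact hlast 5 3 4 (by decide) (by decide) (by decide) rfl rfl e3 e4
    · exact e6
    · exact e7
    · exact hlast 8 6 7 (by decide) (by decide) (by decide) rfl rfl e6 e7
  rw [nf_tau, ← hn0, ← hsn, hs, inv_mul_cancel_right]

theorem moved :
    (∀ j : Fin 9, z3 j ≠ j ↔ j.1 / 3 = 2) ∧ (∀ j : Fin 9, τ0 j = j ↔ j.1 / 3 = 2) ∧
    (∀ j : Fin 9, y j = j ↔ j.1 / 3 = 2) ∧ (∀ j : Fin 9, t3 j ≠ j → j.1 / 3 = 2) ∧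
    t3 6 ≠ 6 ∧ (∀ j : Fin 9, z j ≠ j ↔ j.1 / 3 = 0) ∧ (∀ j : Fin 9, z2 j ≠ j ↔ j.1 / 3 = 1) := by
  decide +kernel

theorem moved_of_comm {σ w : P9} (h : σ * w = w * σ) (j : Fin 9) : w (σ j) = σ j ↔ w j = j := by
  rw [← Perm.mul_apply, ← h, Perm.mul_apply]
  exact σ.injective.eq_iff

theorem six_z3 {σ : P9} (h : σ * z3 = z3 * σ) : (σ 6).1 / 3 = 2 :=
  (moved.1 _).1 fun e => (moved.1 6).2 rfl ((moved_of_comm h 6).1 e)

theorem six_tau {σ : P9} (h : σ * τ0 = τ0 * σ) : (σ 6).1 / 3 = 2 :=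
  (moved.2.1 _).1 ((moved_of_comm h 6).2 ((moved.2.1 6).2 rfl))

theorem six_y {σ : P9} (h : σ * y = y * σ) : (σ 6).1 / 3 = 2 :=
  (moved.2.2.1 _).1 ((moved_of_comm h 6).2 ((moved.2.2.1 6).2 rfl))

theorem six_t3 {σ : P9} (h : σ * t3 = t3 * σ) : (σ 6).1 / 3 = 2 :=
  moved.2.2.2.1 _ fun e => moved.2.2.2.2.1 ((moved_of_comm h 6).1 e)

theorem six_pair {σ : P9} (hσ : σ ∈ B) (h : σ * z = z * σ) (h' : σ * z2 = z2 * σ) :
    (σ 6).1 / 3 = 2 := by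
  have hp := mem_B.1 hσ
  have h0 : (σ 0).1 / 3 = 0 :=
    (moved.2.2.2.2.2.1 _).1 fun e => (moved.2.2.2.2.2.1 0).2 rfl ((moved_of_comm h 0).1 e)
  have h3 : (σ 3).1 / 3 = 1 :=
    (moved.2.2.2.2.2.2 _).1 fun e => (moved.2.2.2.2.2.2 3).2 rfl ((moved_of_comm h' 3).1 e)
  have : (σ 6).1 / 3 ≠ (σ 0).1 / 3 := fun e => absurd ((hp 6 0).1 e) (by decide)
  have : (σ 6).1 / 3 ≠ (σ 3).1 / 3 := fun e => absurd ((hp 6 3).1 e) (by decide)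
  have := (σ 6).2
  omega

/-! ### Finite facts -/

theorem mem_J0_iff : ∀ a b i : Fin 3, ∀ c d f e : Fin 2,
    nf a b c d i f e ∈ J0 ↔ c = 0 ∧ d = 0 ∧ f = 0 ∧ e = 0 := by decide +kernel

theorem J0_form {σ : P9} (h : σ ∈ J0) :
    ∃ a b i : Fin 3, σ = nf a b 0 0 i 0 0 := by
  obtain ⟨a, b, c, d, i, f, e, rfl⟩ := exists_nf (J0_le_B h) ((mem_J0.1 h).2 6)
  obtain ⟨rfl, rfl, rfl, rfl⟩ := (mem_J0_iff a b i c d f e).1 h
  exact ⟨a, b, i, rfl⟩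

theorem J0_gens : z ∈ J0 ∧ z2 ∈ J0 ∧ z3 ∈ J0 ∧ y ∈ J0 ∧ x ∈ J0 ∧ y * z3 ∈ J0 := by decide +kernel

theorem J_cube : ∀ a b i : Fin 3, (nf a b 0 0 i 0 0) ^ 3 = 1 := by decide +kernel

theorem J_comm : ∀ a b i a' b' i' : Fin 3,
    nf a b 0 0 i 0 0 * nf a' b' 0 0 i' 0 0 = nf a' b' 0 0 i' 0 0 * nf a b 0 0 i 0 0 := by
  decide +kernel

theorem nf_split : ∀ a b i : Fin 3, ∀ c d f e : Fin 2,
    nf a b c d i f e = nf a b 0 0 i 0 0 * nf 0 0 c d 0 f e := by decide +kernel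

theorem split_z3 : ∀ a b i : Fin 3, ∀ c d f e : Fin 2,
    nf a b c d i f e = z3 ^ i.1 * nf a b c d 0 f e := by decide +kernel

theorem comm_z3 : ∀ a b i : Fin 3, ∀ c d f e : Fin 2,
    nf a b c d i f e * z3 = z3 * nf a b c d i f e ↔ f = 0 := by decide +kernel

theorem t_part : ∀ c d e : Fin 2, (nf 0 0 c d 0 0 e) ^ 4 = 1 ∧
    nf 0 0 c d 0 0 e * z3 = z3 * nf 0 0 c d 0 0 e := by decide +kernel

theorem z_comm_t : z * t1 * z⁻¹ * t1⁻¹ = z⁻¹ ∧ z2 * t2 * z2⁻¹ * t2⁻¹ = z2⁻¹ ∧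
    z * z3 = z3 * z ∧ z2 * z3 = z3 * z2 ∧ t1 * z3 = z3 * t1 ∧ t2 * z3 = z3 * t2 := by
  decide +kernel

theorem six_block : ∀ a b : Fin 3, ∀ c d e : Fin 2,
    (nf a b c d 0 0 e * z * (nf a b c d 0 0 e)⁻¹ ∈ ([z, z⁻¹, z2, z2⁻¹] : List P9)) ∧
    (nf a b c d 0 0 e * z2 * (nf a b c d 0 0 e)⁻¹ ∈ ([z, z⁻¹, z2, z2⁻¹] : List P9)) ∧
    nf a b c d 0 0 e * t3 = t3 * nf a b c d 0 0 e := by
  decide +kernel

theorem comm_pair : ∀ a b i : Fin 3, ∀ c d f e : Fin 2,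
    nf a b c d i f e * z = z * nf a b c d i f e →
    nf a b c d i f e * z2 = z2 * nf a b c d i f e → c = 0 ∧ d = 0 ∧ e = 0 := by decide +kernel

theorem pair_cube : ∀ a b i : Fin 3, ∀ f : Fin 2, (nf a b 0 0 i f 0) ^ 3 = 1 → f = 0 := by
  decide +kernel

theorem comm_y_z3 : ∀ a b i : Fin 3, ∀ c d f e : Fin 2,
    nf a b c d i f e * y = y * nf a b c d i f e →
    nf a b c d i f e * z3 = z3 * nf a b c d i f e → c = 0 ∧ d = 0 ∧ f = 0 := by decide +kernel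

theorem tau_cube : ∀ a b i : Fin 3, ∀ e : Fin 2, (nf a b 0 0 i 0 e) ^ 3 = 1 → e = 0 := by
  decide +kernel

theorem comm_tau : ∀ a b i : Fin 3, ∀ c d f e : Fin 2,
    nf a b c d i f e * τ0 = τ0 * nf a b c d i f e → a = b ∧ c = d := by decide +kernel

theorem tau_form : ∀ a i : Fin 3, ∀ c f e : Fin 2,
    (nf 0 0 c c 0 f e) ^ 2 = 1 ∧
    nf a a c c i f e * z3 * (nf a a c c i f e)⁻¹ ∈ ([z3, z3⁻¹] : List P9) ∧
    (nf a a c c i f e * y * (nf a a c c i f e)⁻¹ ∈ ([y, y⁻¹] : List P9)) := by decide +kernel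

theorem stab_y : ∀ a b i : Fin 3, ∀ c d f e : Fin 2,
    nf a b c d i f e * y = y * nf a b c d i f e →
      nf a b c d i f e * nf a b c d i f e ∈ J0 := by decide +kernel

theorem to_x : ∀ a i : Fin 3, a ≠ 0 → i ≠ 0 → ∃ c f : Fin 2,
    nf 0 0 c c 0 f 0 * nf a a 0 0 i 0 0 * (nf 0 0 c c 0 f 0)⁻¹ = x := by decide +kernel

theorem plane_facts : (∀ a i a' i' : Fin 3,
      nf (a + a') (a + a') 0 0 (i + i') 0 0 = nf a a 0 0 i 0 0 * nf a' a' 0 0 i' 0 0) ∧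
    (∀ a i : Fin 3, nf a a 0 0 i 0 0 = 1 → a = 0 ∧ i = 0) ∧
    nf 1 1 0 0 0 0 0 = y ∧ nf 0 0 0 0 1 0 0 = z3 ∧ nf 1 1 0 0 1 0 0 = x ∧
    (∀ a i : Fin 3, nf a a 0 0 i 0 0 * τ0 = τ0 * nf a a 0 0 i 0 0) := by decide +kernel

theorem line_facts : (∀ a b a' b' : Fin 3,
      nf (a + a') (b + b') 0 0 0 0 0 = nf a b 0 0 0 0 0 * nf a' b' 0 0 0 0 0) ∧
    (∀ a b : Fin 3, nf a b 0 0 0 0 0 = 1 → a = 0 ∧ b = 0) ∧
    nf 1 0 0 0 0 0 0 = z ∧ nf 0 1 0 0 0 0 0 = z2 ∧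
    (∀ a b : Fin 3, nf a b 0 0 0 0 0 * z3 = z3 * nf a b 0 0 0 0 0) := by decide +kernel

theorem sylow_t3 : ∀ a b i : Fin 3, ∀ c d f e : Fin 2,
    nf a b c d i f e * t3 = t3 * nf a b c d i f e →
      ∃ a' b' : Fin 3, (nf a b c d i f e) ^ 4 = nf a' b' 0 0 0 0 0 := by decide +kernel

theorem sylow_quad : ∀ a b i : Fin 3, ∀ c d f e : Fin 2,
    nf a b c d i f e * y = y * nf a b c d i f e →
    nf a b c d i f e * τ = τ * nf a b c d i f e →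
      ∃ k : Fin 3, (nf a b c d i f e) ^ 4 = y ^ k.1 := by decide +kernel

theorem inverts_xz : ∀ a i : Fin 3, ∀ c f e : Fin 2,
    nf a a c c i f e * (y * z3) * (nf a a c c i f e)⁻¹ = (y * z3)⁻¹ →
      nf a a c c i f e * z3 * (nf a a c c i f e)⁻¹ = z3⁻¹ := by decide +kernel

theorem iota_facts : iota * (y * z3) * iota⁻¹ = (y * z3)⁻¹ ∧ iota * τ0 = τ0 * iota ∧
    iota * p = p * iota ∧ t3 * z3 * t3⁻¹ = z3⁻¹ ∧ t3 * τ0 = τ0 * t3 ∧ t3 * t12 = iota ∧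
    t3 * τ0 = τ ∧ t3 * t3 = 1 ∧ t12 * z3 = z3 * t12 ∧ τ * y = y * τ ∧ τ0 * τ0 = 1 ∧ τ0 ≠ 1 ∧
    τ0 * y = y * τ0 ∧ τ0 * z3 = z3 * τ0 ∧ t3 * y = y * t3 ∧ y * z3 = z3 * y := by
  decide +kernel

theorem invol_block : ∀ a b : Fin 3, ∀ c d e : Fin 2,
    nf a b c d 0 0 e * nf a b c d 0 0 e = 1 → nf a b c d 0 0 e ≠ 1 →
      ∃ a' b' : Fin 3, ∃ c' d' e' : Fin 2,
        nf a' b' c' d' 0 0 e' * nf a b c d 0 0 e * (nf a' b' c' d' 0 0 e')⁻¹ ∈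
          ([t1, t12, τ0] : List P9) := by decide +kernel

theorem t_conj : ∃ s ∈ B, s * (t3 * t1) * s⁻¹ = t12 := by
  refine ⟨swap 3 6 * swap 4 7 * swap 5 8, by decide +kernel, by decide +kernel⟩

theorem t1_conj : ∃ s ∈ B, s * t1 * s⁻¹ = t3 := by
  refine ⟨swap 0 6 * swap 1 7 * swap 2 8, by decide +kernel, by decide +kernel⟩

theorem supports :
    (∀ a b : Fin 3, Finset.card (Perm.support (nf a b 0 0 0 0 0)) ≠ Finset.card (Perm.support x) ∧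
      Finset.card (Perm.support (nf a b 0 0 0 0 0)) ≠ Finset.card (Perm.support x⁻¹)) ∧
    (∀ k : Fin 3, Finset.card (Perm.support (y ^ k.1)) ≠ Finset.card (Perm.support z3)) ∧
    (∀ i : Fin 3, i ≠ 0 →
      Finset.card (Perm.support (z3 ^ i.1)) ≠ Finset.card (Perm.support (y * z3))) := by
  decide +kernel

theorem support_of_sconj {S : Subgroup P9} {a b : P9} (h : SConj S a b) :
    Finset.card (Perm.support a) = Finset.card (Perm.support b) := by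
  obtain ⟨s, -, rfl⟩ := h
  rw [Perm.card_support_conj]

end CfsgLib.SNineThree.CentTau
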