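import Mathlib

/-!
Finite facts about the symmetric group of degree six and the normalizer of a Sylow three-subgroup.
-/

set_option autoImplicit false
set_option maxRecDepth 100000
set_option maxHeartbeats 4000000
set_option synthInstance.maxSize 4096
set_option synthInstance.maxHeartbeats 400000

namespace CfsgLib.SNineThree.CentTau

open Equiv

/-- Permutations of six letters. -/
abbrev P6 := Perm (Fin 6)

/-- `(0 1 2)` -/
def za : P6 := swap 0 1 * swap 1 2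
/-- `(3 4 5)` -/
def zb : P6 := swap 3 4 * swap 4 5
/-- `(0 1)` -/
def sa : P6 := swap 0 1
/-- `(0 3)(1 4)(2 5)` -/
def Ta : P6 := swap 0 3 * swap 1 4 * swap 2 5

/-- The standard form in the normalizer. -/
def nf6 (a b : Fin 3) (c d e : Fin 2) : P6 :=
  za ^ a.1 * zb ^ b.1 * sa ^ c.1 * swap 3 4 ^ d.1 * Ta ^ e.1

/-- Membership in the normalizer of the standard Sylow subgroup. -/
def InN6 (g : P6) : Prop :=
  (∀ i j : Fin 6, (g i).1 / 3 = (g j).1 / 3 ↔ i.1 / 3 = j.1 / 3)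

instance : DecidablePred InN6 := fun g => by unfold InN6; infer_instance

/-- Membership in the standard Sylow subgroup. -/
def InE6 (g : P6) : Prop := g ^ 3 = 1 ∧ InN6 g

instance : DecidablePred InE6 := fun g => by unfold InE6; infer_instance

theorem plane6 : (∀ a b a' b' : Fin 3,
      za ^ (a + a').1 * zb ^ (b + b').1 = za ^ a.1 * zb ^ b.1 * (za ^ a'.1 * zb ^ b'.1)) ∧
    (∀ a b : Fin 3, za ^ a.1 * zb ^ b.1 = 1 → a = 0 ∧ b = 0) ∧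
    (∀ a b : Fin 3, InE6 (za ^ a.1 * zb ^ b.1)) := by decide +kernel

theorem inE6_form : ∀ g : P6, InE6 g → ∃ a b : Fin 3, za ^ a.1 * zb ^ b.1 = g := by decide +kernel

theorem inN6_of_conj : ∀ g : P6, InE6 (g * za * g⁻¹) → InE6 (g * zb * g⁻¹) → InN6 g := by
  decide +kernel

theorem inN6_mul {g h : P6} (hg : InN6 g) (hh : InN6 h) : InN6 (g * h) := fun i j =>
  (hg (h i) (h j)).trans (hh i j)

theorem inN6_inv {g : P6} (hg : InN6 g) : InN6 g⁻¹ := fun i j => by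
  have h := hg (g⁻¹ i) (g⁻¹ j)
  simpa using h.symm

theorem inE6_conj {g h : P6} (hg : InN6 g) (hh : InE6 h) : InE6 (g * h * g⁻¹) :=
  ⟨by rw [conj_pow, hh.1, mul_one, mul_inv_cancel], inN6_mul (inN6_mul hg hh.2) (inN6_inv hg)⟩

theorem invol_into : ∀ w : P6, w * w = 1 → ∃ g : P6, InN6 (g * w * g⁻¹) := by decide +kernel

theorem swap_unique : ∀ q : P6, q * q = 1 →
    q * swap 0 1 = swap 0 1 * q → q * swap 4 5 = swap 4 5 * q →
    q * (swap 0 5 * swap 1 4 * swap 2 3) = swap 0 5 * swap 1 4 * swap 2 3 * q →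
    (q * swap 1 2) ^ 3 = 1 → (q * swap 3 4) ^ 3 = 1 → q = swap 2 3 := by decide +kernel

theorem swap_facts : InN6 (swap 0 1) ∧ InN6 (swap 4 5) ∧
    InN6 (swap 0 5 * swap 1 4 * swap 2 3) ∧ InN6 (swap 1 2) ∧ InN6 (swap 3 4) ∧
    swap (2 : Fin 6) 3 * swap 2 3 = 1 ∧
    swap (2 : Fin 6) 3 * swap 0 1 = swap 0 1 * swap 2 3 ∧
    swap (2 : Fin 6) 3 * swap 4 5 = swap 4 5 * swap 2 3 ∧
    swap (2 : Fin 6) 3 * (swap 0 5 * swap 1 4 * swap 2 3) =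
      swap 0 5 * swap 1 4 * swap 2 3 * swap 2 3 ∧
    (swap (2 : Fin 6) 3 * swap 1 2) ^ 3 = 1 ∧ (swap (2 : Fin 6) 3 * swap 3 4) ^ 3 = 1 := by
  decide +kernel

/-- The relations satisfied by the images of `(0 3)(1 4)(2 5)` and `(0 1)`. -/
def Frame (T A : P6) : Prop :=
  T * T = 1 ∧ A * A = 1 ∧ (A * T) ^ 2 ≠ 1 ∧ (A * T) ^ 4 = 1

instance (T A : P6) : Decidable (Frame T A) := by unfold Frame; infer_instance

theorem frame_cases : ∀ a b : Fin 3, ∀ c d e : Fin 2, ∀ a' b' : Fin 3, ∀ c' d' e' : Fin 2,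
    Frame (nf6 a b c d e) (nf6 a' b' c' d' e') →
    ∃ u v : Fin 3, ∃ k l m : Fin 2,
      ((nf6 u v k l m) * nf6 a b c d e * (nf6 u v k l m)⁻¹ = Ta ∧
          (nf6 u v k l m) * nf6 a' b' c' d' e' * (nf6 u v k l m)⁻¹ = sa) ∨
      ((nf6 u v k l m) * nf6 a b c d e * (nf6 u v k l m)⁻¹ = sa ∧
          (nf6 u v k l m) * nf6 a' b' c' d' e' * (nf6 u v k l m)⁻¹ = Ta) := by decide +kernel

theorem inN6_form : ∀ g : P6, InN6 g → ∃ a b : Fin 3, ∃ c d e : Fin 2, nf6 a b c d e = g := by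
  decide +kernel

theorem nf6_mem : ∀ a b : Fin 3, ∀ c d e : Fin 2, InN6 (nf6 a b c d e) := by decide +kernel

/-- The eight products of `u` and its two conjugates under `Y`. -/
def eight (Y u : P6) : List P6 :=
  let u' := Y * u * Y⁻¹
  let u'' := Y * u' * Y⁻¹
  [1, u, u', u'', u * u', u * u'', u' * u'', u * u' * u'']

/-- The facts used about the centralizer of `T`. -/
structure SixFacts (T A Y u : P6) : Prop where
  comm : u * T = T * u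
  sq : u * u = 1
  conjA : ∃ g : P6, g * A * g⁻¹ = u
  conjD : ∃ g : P6, g * (A * (T * A * T)) * g⁻¹ = u * T
  prod : u * (Y * u * Y⁻¹) * (Y * (Y * u * Y⁻¹) * Y⁻¹) = T
  mul_mem : ∀ g ∈ eight Y u, ∀ h ∈ eight Y u, g * h ∈ eight Y u
  conj_mem : ∀ g ∈ eight Y u, Y * g * Y⁻¹ ∈ eight Y u
  sq_eight : ∀ g ∈ eight Y u, g * g = 1 ∧ g * T = T * g
  exp : ∀ w : P6, w * T = T * w → w ^ 12 = 1
  three : ∀ w : P6, w * T = T * w → w ^ 3 = 1 → w = 1 ∨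
    ∃ g : P6, g * T = T * g ∧ (g * w * g⁻¹ = Y ∨ g * w * g⁻¹ = Y⁻¹)
  bound : ∀ w : P6, w * T = T * w → w ^ 4 = 1 → (w * (Y * w * Y⁻¹)) ^ 4 = 1 → w ∈ eight Y u
  cent : ∀ w : P6, w * T = T * w → w * u = u * w →
    w * (Y * u * Y⁻¹) = Y * u * Y⁻¹ * w → w ∈ eight Y u
  double : ∀ w : P6, w * (A * (T * A * T)) = A * (T * A * T) * w → w ^ 8 = 1

instance (T A Y u : P6) : Decidable (SixFacts T A Y u) :=
  decidable_of_iff (u * T = T * u ∧ u * u = 1 ∧ (∃ g : P6, g * A * g⁻¹ = u) ∧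
      (∃ g : P6, g * (A * (T * A * T)) * g⁻¹ = u * T) ∧
      u * (Y * u * Y⁻¹) * (Y * (Y * u * Y⁻¹) * Y⁻¹) = T ∧
      (∀ g ∈ eight Y u, ∀ h ∈ eight Y u, g * h ∈ eight Y u) ∧
      (∀ g ∈ eight Y u, Y * g * Y⁻¹ ∈ eight Y u) ∧
      (∀ g ∈ eight Y u, g * g = 1 ∧ g * T = T * g) ∧
      (∀ w : P6, w * T = T * w → w ^ 12 = 1) ∧
      (∀ w : P6, w * T = T * w → w ^ 3 = 1 → w = 1 ∨
        ∃ g : P6, g * T = T * g ∧ (g * w * g⁻¹ = Y ∨ g * w * g⁻¹ = Y⁻¹)) ∧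
      (∀ w : P6, w * T = T * w → w ^ 4 = 1 → (w * (Y * w * Y⁻¹)) ^ 4 = 1 → w ∈ eight Y u) ∧
      (∀ w : P6, w * T = T * w → w * u = u * w →
        w * (Y * u * Y⁻¹) = Y * u * Y⁻¹ * w → w ∈ eight Y u) ∧
      (∀ w : P6, w * (A * (T * A * T)) = A * (T * A * T) * w → w ^ 8 = 1))
    ⟨fun ⟨a, b, c, d, e, f, g, h, i, j, k, l, m⟩ => ⟨a, b, c, d, e, f, g, h, i, j, k, l, m⟩,
     fun ⟨a, b, c, d, e, f, g, h, i, j, k, l, m⟩ => ⟨a, b, c, d, e, f, g, h, i, j, k, l, m⟩⟩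

theorem six_triple : SixFacts Ta sa (za * zb) (swap 0 3) ∧
    SixFacts Ta sa (za * zb)⁻¹ (swap 0 3) := by decide +kernel

theorem six_transp : SixFacts sa Ta zb (swap 0 1 * swap 2 3 * swap 4 5) ∧
    SixFacts sa Ta zb⁻¹ (swap 0 1 * swap 2 3 * swap 4 5) := by decide +kernel

theorem Y_cases : ∀ a b : Fin 3, za ^ a.1 * zb ^ b.1 ≠ 1 →
    (Ta * (za ^ a.1 * zb ^ b.1) = za ^ a.1 * zb ^ b.1 * Ta →
      za ^ a.1 * zb ^ b.1 = za * zb ∨ za ^ a.1 * zb ^ b.1 = (za * zb)⁻¹) ∧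
    (sa * (za ^ a.1 * zb ^ b.1) = za ^ a.1 * zb ^ b.1 * sa →
      za ^ a.1 * zb ^ b.1 = zb ∨ za ^ a.1 * zb ^ b.1 = zb⁻¹) := by decide +kernel

/-- Some element satisfies the facts. -/
theorem exists_six {T A Y : P6} (hF : (T = Ta ∧ A = sa) ∨ (T = sa ∧ A = Ta)) (hY : InE6 Y)
    (hY1 : Y ≠ 1) (hc : T * Y = Y * T) : ∃ u, SixFacts T A Y u := by
  obtain ⟨a, b, rfl⟩ := inE6_form Y hY
  obtain ⟨h1, h2⟩ := Y_cases a b hY1
  rcases hF with ⟨rfl, rfl⟩ | ⟨rfl, rfl⟩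
  · rcases h1 hc with e | e <;> rw [e]
    · exact ⟨_, six_triple.1⟩
    · exact ⟨_, six_triple.2⟩
  · rcases h2 hc with e | e <;> rw [e]
    · exact ⟨_, six_transp.1⟩
    · exact ⟨_, six_transp.2⟩

end CfsgLib.SNineThree.CentTau
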