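import Cfsg.Agent.Lib.SNineThree.CentTauCent
import Cfsg.Agent.Lib.SNineThree.CentTauSixModel

/-!
The factor `M ≅ S₆` of the centralizer of `(6 7 8)`: `(6 7)` centralizes it, and the classes of
involutions needed for the centralizer of `(0 3)(1 4)(2 5)`.
-/

set_option autoImplicit false
set_option linter.style.haveILetI false
set_option linter.unusedSectionVars false
set_option maxRecDepth 100000

namespace CfsgLib.SNineThree.CentTau

open Subgroup Equiv
open CfsgLib.ANineThree (P9 z z2 z3 y x p τ)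

universe u

theorem frame_facts : t1 * t1 = 1 ∧ τ0 * τ0 = 1 ∧ (t1 * τ0) ^ 2 ≠ 1 ∧ (t1 * τ0) ^ 4 = 1 ∧
    t1 * (τ0 * t1 * τ0) = t12 ∧ t3 * t1 ∈ B ∧ t3 * z = z * t3 ∧ t3 * z2 = z2 * t3 ∧
    iota * τ0 = τ0 * iota ∧ τ0 * y = y * τ0 ∧ p ^ 3 = 1 ∧ y ^ 3 = 1 ∧
    t12 * z = z⁻¹ * t12 ∧ τ * τ0 = τ0 * τ ∧ t3 * τ0 = τ := by decide +kernel

variable {G : Type u} [Group G] [Finite G] {L : Loc B G}

/-- `(0 3)(1 4)(2 5)` in the factor. -/
noncomputable def tauM (L : Loc B G) : M3 L :=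
  ⟨L.el τ0, nf_gens.2.2.2.2.2.2.2.1 ▸ tpart_mem L 0 0 1⟩

/-- `(0 1)` in the factor. -/
noncomputable def t1M (L : Loc B G) : M3 L :=
  ⟨L.el t1, nf_gens.2.2.2.2.1 ▸ tpart_mem L 1 0 0⟩

/-- `(0 1 2)(3 4 5)` in the factor. -/
noncomputable def yM (L : Loc B G) : M3 L := ⟨L.el y, nf_gens.2.2.2.1 ▸ line_mem L 1 1⟩

theorem el_tau_sq : L.el τ0 * L.el τ0 = 1 := by
  rw [← L.el_mul gens_mem.2.2.2.2.2.2.2.1 gens_mem.2.2.2.2.2.2.2.1, frame_facts.2.1, L.el_one]

theorem yM_mem : yM L ∈ (line L).range :=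
  (mem_line L).2 ⟨1, 1, by rw [nf_gens.2.2.2.1]; rfl⟩

/-- An identification of the factor with the standard normalizer and the chosen involution. -/
structure SixIso (L : Loc B G) where
  φ : M3 L ≃* P6
  inE : ∀ m : M3 L, m ∈ (line L).range ↔ InE6 (φ m)
  inN : ∀ m : M3 L, (m : G) ∈ L.e.range ↔ InN6 (φ m)
  u : P6
  facts : SixFacts (φ (tauM L)) (φ (t1M L)) (φ (yM L)) u

/-- The hom onto the standard Sylow subgroup. -/
def plane6Hom : Multiplicative (Fin 3 × Fin 3) →* P6 :=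
  MonoidHom.mk' (fun v => za ^ v.toAdd.1.1 * zb ^ v.toAdd.2.1) fun v w => by
    rw [← plane6.1]; rfl

theorem mem_plane6 {g : P6} : g ∈ plane6Hom.range ↔ InE6 g := by
  constructor
  · rintro ⟨v, rfl⟩
    exact plane6.2.2 _ _
  · intro h
    obtain ⟨a, b, e⟩ := inE6_form g h
    exact ⟨Multiplicative.ofAdd (a, b), e⟩

theorem card_plane6 : Nat.card plane6Hom.range = 9 := by
  have hinj : Function.Injective plane6Hom := by
    rw [injective_iff_map_eq_one]
    intro v hv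
    obtain ⟨h1, h2⟩ := plane6.2.1 _ _ hv
    exact toAdd_eq_zero.1 (Prod.ext h1 h2)
  rw [Nat.card_congr (MonoidHom.ofInjective hinj).toEquiv.symm, Nat.card_eq_fintype_card]
  rfl

theorem exists_sixIso (hF : Facts L) (φ₀ : M3 L ≃* P6) : Nonempty (SixIso L) := by
  haveI : Fact (Nat.Prime 3) := ⟨Nat.prime_three⟩
  have hidx : ∀ Q : Subgroup P6, Nat.card Q = 9 → ¬ 3 ∣ Q.index := fun Q hQ hd => by
    have h := Q.card_mul_index
    rw [hQ, Nat.card_perm, Nat.card_eq_fintype_card, Fintype.card_fin] at h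
    simp [Nat.factorial] at h
    omega
  set P' := (line L).range.map φ₀.toMonoidHom with hP'
  have hc' : Nat.card P' = 9 := by
    rw [hP', card_map_of_injective φ₀.injective, card_line hF]
  let S1' : Sylow 3 P6 := (IsPGroup.of_card (n := 2) hc').toSylow (hidx _ hc')
  let S2' : Sylow 3 P6 := (IsPGroup.of_card (n := 2) card_plane6).toSylow (hidx _ card_plane6)
  obtain ⟨g, hg⟩ := MulAction.exists_smul_eq P6 S1' S2'
  have hg' : P'.map (MulAut.conj g).toMonoidHom = plane6Hom.range := by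
    have h := congrArg (fun S : Sylow 3 P6 => (S : Subgroup P6)) hg
    simp only [Sylow.coe_subgroup_smul] at h
    exact h
  let φ := φ₀.trans (MulAut.conj g)
  have hE : ∀ m : M3 L, m ∈ (line L).range ↔ InE6 (φ m) := fun m => by
    rw [← mem_plane6, ← hg', hP', map_map]
    exact (mem_map_iff_mem (f := φ.toMonoidHom) φ.injective).symm
  have hN : ∀ m : M3 L, (m : G) ∈ L.e.range ↔ InN6 (φ m) := fun m => by
    constructor
    · intro hr
      have hn := block_normalizes L hr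
      refine inN6_of_conj _ ?_ ?_
      · obtain ⟨v, hv⟩ := (mem_plane6.2 (show InE6 za by simpa using plane6.2.2 1 0))
        have h1 : φ.symm za ∈ (line L).range := (hE _).2 (by rw [φ.apply_symm_apply]; simpa using plane6.2.2 1 0)
        simpa using (hE _).1 ((mem_set_normalizer_iff.1 hn _).1 h1)
      · have h1 : φ.symm zb ∈ (line L).range := (hE _).2 (by rw [φ.apply_symm_apply]; simpa using plane6.2.2 0 1)
        simpa using (hE _).1 ((mem_set_normalizer_iff.1 hn _).1 h1)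
    · intro h
      refine range_of_line_normalizer L (mem_normalizer_fintype fun q hq => ?_)
      rw [SetLike.mem_coe, hE] at hq ⊢
      simpa using inE6_conj h hq
  obtain ⟨f1, f2, f3, f4, -⟩ := frame_facts
  have ht1 := gens_mem.2.2.2.2.2.2.2.2.1
  have hτ := gens_mem.2.2.2.2.2.2.2.1
  have nT : InN6 (φ (tauM L)) := (hN _).1 (L.el_mem hτ)
  have nA : InN6 (φ (t1M L)) := (hN _).1 (L.el_mem ht1)
  obtain ⟨a, b, c, d, e, hT⟩ := inN6_form _ nT
  obtain ⟨a', b', c', d', e', hA⟩ := inN6_form _ nA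
  have hfr : Frame (φ (tauM L)) (φ (t1M L)) := by
    refine ⟨?_, ?_, ?_, ?_⟩
    · rw [← map_mul, show tauM L * tauM L = 1 from Subtype.ext el_tau_sq, map_one]
    · rw [← map_mul, show t1M L * t1M L = 1 from Subtype.ext (by
        show L.el t1 * L.el t1 = 1
        rw [← L.el_mul ht1 ht1, f1, L.el_one]), map_one]
    · intro h
      rw [← map_mul, ← map_pow, map_eq_one_iff _ φ.injective] at h
      refine f3 (L.el_inj (B.pow_mem (B.mul_mem ht1 hτ) _) B.one_mem ?_)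
      rw [L.el_pow (B.mul_mem ht1 hτ), L.el_mul ht1 hτ, L.el_one]
      exact congrArg Subtype.val h
    · rw [← map_mul, ← map_pow, show (t1M L * tauM L) ^ 4 = 1 from Subtype.ext (by
        show (L.el t1 * L.el τ0) ^ 4 = 1
        rw [← L.el_mul ht1 hτ, ← L.el_pow (B.mul_mem ht1 hτ), f4, L.el_one]), map_one]
  rw [← hT, ← hA] at hfr
  obtain ⟨i, j, k, l, m, hcase⟩ := frame_cases a b c d e a' b' c' d' e' hfr
  rw [hT, hA] at hcase
  set n := nf6 i j k l m
  have hn : InN6 n := nf6_mem i j k l m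
  let ψ := φ.trans (MulAut.conj n)
  have hE' : ∀ w : M3 L, w ∈ (line L).range ↔ InE6 (ψ w) := fun w => by
    rw [hE]
    constructor
    · exact fun h => inE6_conj hn h
    · intro h
      have := inE6_conj (inN6_inv hn) h
      simpa [ψ, mul_assoc] using this
  have hN' : ∀ w : M3 L, (w : G) ∈ L.e.range ↔ InN6 (ψ w) := fun w => by
    rw [hN]
    constructor
    · exact fun h => inN6_mul (inN6_mul hn h) (inN6_inv hn)
    · intro h
      have := inN6_mul (inN6_mul (inN6_inv hn) h) hn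
      simpa [ψ, mul_assoc] using this
  have hYc : tauM L * yM L = yM L * tauM L := Subtype.ext
    (el_comm L hτ gens_mem.2.2.2.1 iota_facts.2.2.2.2.2.2.2.2.2.2.2.2.1)
  have hY1 : ψ (yM L) ≠ 1 := fun h => by
    rw [map_eq_one_iff _ ψ.injective] at h
    exact (tau_gens 0 0).2.2.2.2.2.2.2.1 (L.el_inj gens_mem.2.2.2.1 B.one_mem
      ((congrArg Subtype.val h).trans L.el_one.symm))
  obtain ⟨u, hu⟩ := exists_six (T := ψ (tauM L)) (A := ψ (t1M L)) hcase ((hE' _).1 yM_mem) hY1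
    (by rw [← map_mul, ← map_mul, hYc])
  exact ⟨⟨ψ, hE', hN', u, hu⟩⟩

namespace SixIso

variable (I : SixIso L)

theorem z_centralizes {m : G} (hm : m ∈ M3 L) : m * L.el z3 = L.el z3 * m :=
  mem_centralizer_singleton_iff.1 (M3_le L hm)

theorem t3_normalizes : L.el t3 ∈ normalizer (zpowers (L.el z3) : Set G) := by
  refine mem_normalizer_fintype fun q hq => ?_
  obtain ⟨n, rfl⟩ := mem_zpowers_iff.1 hq
  rw [SetLike.mem_coe, ← conj_zpow, ← L.el_conj gens_mem.2.2.2.2.2.2.2.2.2.2.2.1 gens_mem.2.2.1,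
    iota_facts.2.2.2.1, L.el_inv gens_mem.2.2.1]
  exact zpow_mem (inv_mem (mem_zpowers _)) _

include I

/-- `(6 7)` centralizes the factor. -/
theorem t3_comm {m : G} (hm : m ∈ M3 L) : L.el t3 * m = m * L.el t3 := by
  have hn := C3_normalizer L (t3_normalizes (L := L))
  let β : M3 L →* M3 L := MonoidHom.mk'
    (fun w => ⟨L.el t3 * w * (L.el t3)⁻¹, M3_conj L hn w.2⟩)
    fun v w => Subtype.ext (by simp only [coe_mul]; group)
  let γ : P6 →* P6 := (I.φ.toMonoidHom.comp β).comp I.φ.symm.toMonoidHom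
  have hfix : ∀ n : P6, InN6 n → γ n = n := fun n hn' => by
    obtain ⟨a, b, c, d, e, he⟩ := form_M3 L (I.φ.symm n).2 ((I.inN _).2 (by
      rw [I.φ.apply_symm_apply]; exact hn'))
    have hb : β (I.φ.symm n) = I.φ.symm n := Subtype.ext (by
      show L.el t3 * (I.φ.symm n : G) * (L.el t3)⁻¹ = _
      rw [he, ← el_comm L (nf_mem _ _ _ _ _ _ _) gens_mem.2.2.2.2.2.2.2.2.2.2.2.1
        (six_block a b c d e).2.2, mul_inv_cancel_right])
    show I.φ (β (I.φ.symm n)) = n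
    rw [hb, I.φ.apply_symm_apply]
  obtain ⟨n1, n2, n3, n4, n5, s0, s1, s2, s3, s4, s5⟩ := swap_facts
  have hq : γ (swap 2 3) = swap 2 3 := by
    refine swap_unique _ ?_ ?_ ?_ ?_ ?_ ?_
    · rw [← map_mul, s0, map_one]
    · rw [← hfix _ n1, ← map_mul, ← map_mul, s1]
    · rw [← hfix _ n2, ← map_mul, ← map_mul, s2]
    · rw [← hfix _ n3, ← map_mul, ← map_mul, s3]
    · rw [← hfix _ n4, ← map_mul, ← map_pow, s4, map_one]
    · rw [← hfix _ n5, ← map_mul, ← map_pow, s5, map_one]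
  have hall : ∀ w, γ w = w := fun w => by
    have hmem : w ∈ Submonoid.closure
        (Set.range fun i : Fin 5 => swap i.castSucc i.succ) := by
      rw [Equiv.Perm.mclosure_swap_castSucc_succ]; trivial
    induction hmem using Submonoid.closure_induction with
    | mem w hw =>
      obtain ⟨i, rfl⟩ := hw
      fin_cases i
      · exact hfix _ n1
      · exact hfix _ n4
      · exact hq
      · exact hfix _ n5
      · exact hfix _ n2
    | one => exact map_one γ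
    | mul a b _ _ ha hb => rw [map_mul, ha, hb]
  have h := hall (I.φ ⟨m, hm⟩)
  simp only [γ, MonoidHom.comp_apply, MulEquiv.coe_toMonoidHom, I.φ.symm_apply_apply,
    EmbeddingLike.apply_eq_iff_eq] at h
  exact mul_inv_eq_iff_eq_mul.1 (congrArg Subtype.val h)

/-- Involutions of the factor are conjugate to one of three representatives. -/
theorem invol_reps {m : G} (hm : m ∈ M3 L) (hm2 : m * m = 1) (hm1 : m ≠ 1) :
    ∃ g ∈ M3 L, ∃ ρ ∈ ([t1, t12, τ0] : List P9), g * m * g⁻¹ = L.el ρ := by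
  obtain ⟨g6, hg6⟩ := invol_into (I.φ ⟨m, hm⟩) (by
    rw [← map_mul, show (⟨m, hm⟩ * ⟨m, hm⟩ : M3 L) = 1 from Subtype.ext hm2, map_one])
  set g := I.φ.symm g6 with hg
  have hr : ((g * ⟨m, hm⟩ * g⁻¹ : M3 L) : G) ∈ L.e.range := (I.inN _).2 (by
    rw [map_mul, map_mul, map_inv, hg, I.φ.apply_symm_apply]; exact hg6)
  obtain ⟨a, b, c, d, e, he⟩ := form_M3 L (g * ⟨m, hm⟩ * g⁻¹ : M3 L).2 hr
  simp only [coe_mul, coe_inv] at he
  have hnm := nf_mem a b c d 0 0 e
  have h2 : nf a b c d 0 0 e * nf a b c d 0 0 e = 1 := L.el_inj (B.mul_mem hnm hnm) B.one_mem (by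
    rw [L.el_mul hnm hnm, ← he, L.el_one]
    calc (g : G) * m * (g : G)⁻¹ * ((g : G) * m * (g : G)⁻¹) = (g : G) * (m * m) * (g : G)⁻¹ := by
          group
      _ = 1 := by rw [hm2, mul_one, mul_inv_cancel])
  have h1 : nf a b c d 0 0 e ≠ 1 := fun h => hm1 (by
    rw [h, L.el_one] at he
    exact conj_eq_one_iff.1 he)
  obtain ⟨a', b', c', d', e', hρ⟩ := invol_block a b c d e h2 h1
  refine ⟨L.el (nf a' b' c' d' 0 0 e') * g, mul_mem (block_mem L a' b' c' d' e') g.2, _, hρ, ?_⟩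
  rw [L.el_conj (nf_mem _ _ _ _ _ _ _) hnm, ← he]
  group

/-- The chosen involution. -/
noncomputable def uG : G := (I.φ.symm I.u : M3 L)

theorem uG_mem : I.uG ∈ M3 L := (I.φ.symm I.u).2

theorem uG_Ct : I.uG ∈ Ct L := by
  refine mem_centralizer_singleton_iff.2 (congrArg Subtype.val
    (I.φ.injective ?_ : I.φ.symm I.u * tauM L = tauM L * I.φ.symm I.u))
  rw [map_mul, map_mul, I.φ.apply_symm_apply]
  exact I.facts.comm

theorem uG_sq : I.uG * I.uG = 1 := by
  refine congrArg Subtype.val (I.φ.injective ?_ : I.φ.symm I.u * I.φ.symm I.u = 1)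
  rw [map_mul, I.φ.apply_symm_apply, map_one]
  exact I.facts.sq

theorem uG_conj : IsConj (L.el t3) I.uG := by
  obtain ⟨g, hg⟩ := I.facts.conjA
  obtain ⟨s, hs, hst⟩ := t1_conj
  have h1 : IsConj (L.el t1) I.uG := isConj_iff.2 ⟨((I.φ.symm g : M3 L) : G),
    congrArg Subtype.val (I.φ.injective (by
      rw [map_mul, map_mul, map_inv, I.φ.apply_symm_apply, I.φ.apply_symm_apply, hg]) :
        I.φ.symm g * t1M L * (I.φ.symm g)⁻¹ = I.φ.symm I.u)⟩
  have h2 : IsConj (L.el t1) (L.el t3) := isConj_iff.2 ⟨L.el s, by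
    rw [← L.el_conj hs gens_mem.2.2.2.2.2.2.2.2.1, hst]⟩
  exact h2.symm.trans h1

theorem uG_tau_conj : IsConj (L.el t12) (I.uG * L.el τ0) := by
  obtain ⟨g, hg⟩ := I.facts.conjD
  have hD : ((t1M L * (tauM L * t1M L * tauM L) : M3 L) : G) = L.el t12 := by
    have ht1 := gens_mem.2.2.2.2.2.2.2.2.1
    have hτ := gens_mem.2.2.2.2.2.2.2.1
    show L.el t1 * (L.el τ0 * L.el t1 * L.el τ0) = _
    rw [← L.el_mul hτ ht1, ← L.el_mul (B.mul_mem hτ ht1) hτ,
      ← L.el_mul ht1 (B.mul_mem (B.mul_mem hτ ht1) hτ), frame_facts.2.2.2.2.1]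
  rw [← hD]
  exact isConj_iff.2 ⟨((I.φ.symm g : M3 L) : G), congrArg Subtype.val (I.φ.injective (by
    rw [map_mul, map_mul, map_inv, I.φ.apply_symm_apply, map_mul, map_mul, map_mul, map_mul,
      I.φ.apply_symm_apply, hg]) : I.φ.symm g * (t1M L * (tauM L * t1M L * tauM L)) *
        (I.φ.symm g)⁻¹ = I.φ.symm I.u * tauM L)⟩

end SixIso

/-! ### Nonconjugacy -/

theorem comm_of_odd {c t : G} (hc3 : c ^ 3 = 1) (ht : ∃ k, t ^ 3 ^ k = 1)
    (hn : t ∈ normalizer (zpowers c : Set G)) : t * c = c * t := by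
  obtain ⟨k, hk⟩ := ht
  obtain ⟨n, hn'⟩ := mem_zpowers_iff.1 ((mem_set_normalizer_iff.1 hn c).1 (mem_zpowers c))
  have h3 : c ^ (n : ℤ) = c ^ (n % 3) := by
    conv_lhs => rw [← Int.emod_add_mul_ediv n 3, zpow_add, zpow_mul]
    rw [show c ^ (3 : ℤ) = 1 by exact_mod_cast hc3, one_zpow, mul_one]
  rw [h3] at hn'
  rcases (show n % 3 = 0 ∨ n % 3 = 1 ∨ n % 3 = 2 by omega) with e | e | e <;> rw [e] at hn'
  · rw [zpow_zero] at hn'
    rw [conj_eq_one_iff.1 hn'.symm, mul_one, one_mul]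
  · rw [zpow_one] at hn'
    exact mul_inv_eq_iff_eq_mul.1 hn'.symm
  · have hinv : t * c * t⁻¹ = c⁻¹ := by
      rw [← hn', eq_inv_iff_mul_eq_one, zpow_two, mul_assoc, ← pow_two, ← pow_succ', hc3]
    have key : ∀ j : ℕ, t ^ (2 * j) * c * (t ^ (2 * j))⁻¹ = c := by
      intro j
      induction j with
      | zero => simp
      | succ j ih =>
        rw [show 2 * (j + 1) = 2 * j + 2 by ring, pow_add,
          show t ^ (2 * j) * t ^ 2 * c * (t ^ (2 * j) * t ^ 2)⁻¹ =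
            t ^ (2 * j) * (t * (t * c * t⁻¹) * t⁻¹) * (t ^ (2 * j))⁻¹ by group, hinv, ← conj_inv,
          hinv, inv_inv, ih]
    obtain ⟨j, hj⟩ := Odd.pow (by decide : Odd 3) (n := k)
    have h2 := key (j + 1)
    rw [show 2 * (j + 1) = 3 ^ k + 1 by omega, pow_succ, hk, one_mul] at h2
    exact mul_inv_eq_iff_eq_mul.1 h2

theorem el_y_cube : L.el y ^ 3 = 1 := J_el_cube L (Etau_le_J L (el_y_mem L))

theorem isPGroup_zpowers {c : G} (hc : c ^ 3 = 1) : IsPGroup 3 (zpowers c) := fun q => by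
  obtain ⟨n, hn⟩ := mem_zpowers_iff.1 q.2
  refine ⟨1, Subtype.ext ?_⟩
  show (q : G) ^ (3 ^ 1) = 1
  rw [← hn, pow_one, ← zpow_natCast, ← zpow_mul, mul_comm, zpow_mul, zpow_natCast, hc, one_zpow]

theorem quad_sylow (hF : Facts L) : ∀ t ∈ centralizer ({L.el τ} : Set G), (∃ k, t ^ 3 ^ k = 1) →
    t ∈ normalizer (zpowers (L.el y) : Set G) → t ∈ zpowers (L.el y) := by
  intro t ht h3 hn
  have hcy := comm_of_odd el_y_cube h3 hn
  have hr := cent_off hF (a := 1) (i := 0) one_ne_zero (g := t) (by rw [nf_gens.2.2.2.1]; exact hcy)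
  obtain ⟨σ, hσ, rfl⟩ := L.mem_range.1 hr
  have s1 := (L.commute_el hσ gens_mem.2.2.2.1).1 hcy
  have s2 := (L.commute_el hσ gens_mem.2.2.2.2.2.2.1).1 (mem_centralizer_singleton_iff.1 ht)
  obtain ⟨a, b, c, d, i, f, e, rfl⟩ := exists_nf hσ (six_y s1)
  obtain ⟨k, hk⟩ := sylow_quad a b i c d f e s1 s2
  refine mem_of_pow_four h3 ?_
  rw [← L.el_pow (nf_mem _ _ _ _ _ _ _), hk, L.el_pow gens_mem.2.2.2.1]
  exact pow_mem (mem_zpowers _) _

theorem t12_sylow (I : SixIso L) : ∀ t ∈ centralizer ({L.el t12} : Set G),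
    (∃ k, t ^ 3 ^ k = 1) → t ∈ normalizer (zpowers (L.el z3) : Set G) →
    t ∈ zpowers (L.el z3) := by
  intro t ht h3 hn
  have hc := comm_of_odd (z3_cube L) h3 hn
  obtain ⟨i, hi⟩ := exists_dec L (g := t) (mem_centralizer_singleton_iff.2 hc)
  set m : M3 L := ⟨_, hi⟩ with hm
  set D := t1M L * (tauM L * t1M L * tauM L) with hDdef
  have hD : (D : G) = L.el t12 := by
    have ht1 := gens_mem.2.2.2.2.2.2.2.2.1
    have hτ := gens_mem.2.2.2.2.2.2.2.1
    show L.el t1 * (L.el τ0 * L.el t1 * L.el τ0) = _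
    rw [← L.el_mul hτ ht1, ← L.el_mul (B.mul_mem hτ ht1) hτ,
      ← L.el_mul ht1 (B.mul_mem (B.mul_mem hτ ht1) hτ), frame_facts.2.2.2.2.1]
  have hmD : m * D = D * m := Subtype.ext (by
    have h1 : Commute t (L.el t12) := mem_centralizer_singleton_iff.1 ht
    have h2 : Commute (L.el z3) (L.el t12) :=
      el_comm L gens_mem.2.2.1 gens_mem.2.2.2.2.2.2.2.2.2.2.1 iota_facts.2.2.2.2.2.2.2.2.1.symm
    simp only [coe_mul, hD]
    exact h1.mul_left (h2.pow_left _).inv_left)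
  have h8 : m ^ 8 = 1 := I.φ.injective (by
    rw [map_pow, map_one]
    refine I.facts.double _ ?_
    rw [← map_mul (f := I.φ) (tauM L), ← map_mul (f := I.φ) (tauM L * t1M L),
      ← map_mul (f := I.φ) (t1M L), ← map_mul, ← map_mul]
    exact congrArg I.φ hmD)
  obtain ⟨k, hk⟩ := h3
  have hm3 : (m : G) ^ 3 ^ (k + 1) = 1 := by
    have hcm : Commute t (L.el z3 ^ i.1)⁻¹ := (Commute.pow_right hc _).inv_right
    show (t * (L.el z3 ^ i.1)⁻¹) ^ 3 ^ (k + 1) = 1
    rw [hcm.mul_pow, inv_pow, ← pow_mul (L.el z3), pow_succ, pow_mul t, hk, one_pow, one_mul,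
      ← mul_assoc, mul_comm (i.1 * 3 ^ k), pow_mul, z3_cube, one_pow, inv_one]
  have h1 : (m : G) = 1 := eq_one_of_pow_three_pow (n := 8) (by norm_num)
    (by rw [← SubmonoidClass.coe_pow, h8, OneMemClass.coe_one]) hm3
  rw [show t = L.el z3 ^ i.1 from mul_inv_eq_one.1 h1]
  exact pow_mem (mem_zpowers _) _

/-- The plane in the group. -/
noncomputable def Q3 (L : Loc B G) : Subgroup G := (line L).range.map (M3 L).subtype

theorem mem_Q3 {g : G} : g ∈ Q3 L ↔ ∃ a b : Fin 3, g = L.el (nf a b 0 0 0 0 0) := by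
  constructor
  · rintro ⟨m, hm, rfl⟩
    exact (mem_line L).1 hm
  · rintro ⟨a, b, rfl⟩
    exact ⟨⟨_, line_mem L a b⟩, (mem_line L).2 ⟨a, b, rfl⟩, rfl⟩

theorem t3_sylow (hF : Facts L) : ∀ t ∈ centralizer ({L.el t3} : Set G), (∃ k, t ^ 3 ^ k = 1) →
    t ∈ normalizer (Q3 L : Set G) → t ∈ Q3 L := by
  intro t ht h3 hn
  have hQJ : ∀ {q : G}, q ∈ Q3 L → q ∈ L.J := fun {q} hq => by
    obtain ⟨a, b, rfl⟩ := mem_Q3.1 hq
    exact el_J L a b 0
  have hz : L.el z ∈ Q3 L := mem_Q3.2 ⟨1, 0, by rw [nf_gens.1]⟩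
  have hz2 : L.el z2 ∈ Q3 L := mem_Q3.2 ⟨0, 1, by rw [nf_gens.2.1]⟩
  have k1 := hQJ ((mem_set_normalizer_iff.1 hn _).1 hz)
  have k2 := hQJ ((mem_set_normalizer_iff.1 hn _).1 hz2)
  set n := t * L.el z3 * t⁻¹ with hndef
  have hcomm : ∀ {q : G}, q ∈ Q3 L → q * n = n * q := fun {q} hq => by
    have hback := (mem_set_normalizer_iff''.1 hn q).1 hq
    have h : t⁻¹ * q * t * L.el z3 = L.el z3 * (t⁻¹ * q * t) :=
      J_el_comm L (hQJ hback) (Etau_le_J L (el_z3_mem L))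
    calc q * n = t * (t⁻¹ * q * t * L.el z3) * t⁻¹ := by rw [hndef]; group
      _ = n * q := by rw [h, hndef]; group
  have hr : n ∈ L.e.range := by
    refine hF.cent_two z J0_gens.1 z2 J0_gens.2.1 (by decide +kernel) ?_ ?_
    · intro h
      have : zpowers z ≤ MulAction.stabilizer P9 (3 : Fin 9) :=
        zpowers_le.2 (show z 3 = 3 by decide +kernel)
      exact absurd (this h : z2 3 = 3) (by decide +kernel)
    · rw [mem_centralizer_iff]
      rintro q (rfl | rfl)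
      · exact hcomm hz
      · exact hcomm hz2
  obtain ⟨σ, hσ, e⟩ := L.mem_range.1 hr
  have s1 : σ * z = z * σ := (L.commute_el hσ gens_mem.1).1 (by rw [e]; exact (hcomm hz).symm)
  have s2 : σ * z2 = z2 * σ := (L.commute_el hσ gens_mem.2.1).1 (by rw [e]; exact (hcomm hz2).symm)
  obtain ⟨a, b, c, d, i, f, ee, rfl⟩ := exists_nf hσ (six_pair hσ s1 s2)
  obtain ⟨rfl, rfl, rfl⟩ := comm_pair a b i c d f ee s1 s2
  obtain rfl := pair_cube a b i f (L.el_inj (B.pow_mem hσ _) B.one_mem (by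
    rw [L.el_pow hσ, e, hndef, conj_pow, z3_cube, mul_one, mul_inv_cancel, L.el_one]))
  have k3 : n ∈ L.J := e ▸ el_J L a b i
  obtain ⟨ρ, hρ, rfl⟩ := L.mem_range.1 (range_of_gens L k1 k2 k3)
  have s3 := (L.commute_el hρ gens_mem.2.2.2.2.2.2.2.2.2.2.2.1).1
    (mem_centralizer_singleton_iff.1 ht)
  obtain ⟨a', b', c', d', i', f', e', rfl⟩ := exists_nf hρ (six_t3 s3)
  obtain ⟨a4, b4, h4⟩ := sylow_t3 a' b' i' c' d' f' e' s3
  refine mem_of_pow_four h3 ?_
  rw [← L.el_pow (nf_mem _ _ _ _ _ _ _), h4]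
  exact mem_Q3.2 ⟨a4, b4, rfl⟩

theorem Q3_le : Q3 L ≤ centralizer ({L.el t3} : Set G) := fun q hq => by
  obtain ⟨a, b, rfl⟩ := mem_Q3.1 hq
  refine mem_centralizer_singleton_iff.2 (el_comm L (nf_mem _ _ _ _ _ _ _)
    gens_mem.2.2.2.2.2.2.2.2.2.2.2.1 ?_)
  exact (six_block a b 0 0 0).2.2

theorem Q3_isPGroup : IsPGroup 3 (Q3 L) := fun q => by
  obtain ⟨a, b, h⟩ := mem_Q3.1 q.2
  exact ⟨1, Subtype.ext (by simpa [h] using J_el_cube L (el_J L a b 0))⟩

/-- An element commuting with a nine-group is not conjugate to one with a Sylow subgroup of order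
three. -/
theorem no_nine (hF : Facts L) {s c : G} (hc3 : c ^ 3 = 1) (hcs : c ∈ centralizer ({s} : Set G))
    (hn : ∀ t ∈ centralizer ({s} : Set G), (∃ k, t ^ 3 ^ k = 1) →
      t ∈ normalizer (zpowers c : Set G) → t ∈ zpowers c)
    (h : IsConj (L.el t3) s) : False := by
  obtain ⟨g, hg⟩ := isConj_iff.1 h
  set T := (Q3 L).map (MulAut.conj g).toMonoidHom with hT
  have hTC : T ≤ centralizer ({s} : Set G) := by
    rintro _ ⟨q, hq, rfl⟩
    rw [mem_centralizer_singleton_iff, ← hg]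
    exact (show Commute q (L.el t3) from mem_centralizer_singleton_iff.1 (Q3_le hq)).map
      (MulAut.conj g).toMonoidHom
  obtain ⟨k, hk, hkT⟩ := sylow_conj (zpowers_le.2 hcs) (isPGroup_zpowers hc3) hn hTC
    (Q3_isPGroup.map _)
  have hle : Nat.card T ≤ Nat.card (zpowers c) := Nat.card_le_card_of_injective
    (fun q : T => (⟨k * q * k⁻¹, hkT q q.2⟩ : zpowers c))
    fun a b e => Subtype.ext (mul_left_cancel (mul_right_cancel (congrArg Subtype.val e)))
  rw [hT, card_map_of_injective (MulAut.conj g).injective, Q3,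
    card_map_of_injective (subtype_injective _), card_line hF, Nat.card_zpowers] at hle
  have := Nat.le_of_dvd (by norm_num) (orderOf_dvd_of_pow_eq_one hc3)
  omega

theorem nc_t12 (hF : Facts L) (I : SixIso L) : ¬ IsConj (L.el t3) (L.el t12) :=
  no_nine hF (z3_cube L) (mem_centralizer_singleton_iff.2 (el_comm L gens_mem.2.2.1
    gens_mem.2.2.2.2.2.2.2.2.2.2.1 iota_facts.2.2.2.2.2.2.2.2.1.symm)) (t12_sylow I)

theorem nc_quad (hF : Facts L) : ¬ IsConj (L.el t3) (L.el τ) :=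
  no_nine hF el_y_cube (mem_centralizer_singleton_iff.2 (el_comm L gens_mem.2.2.2.1
    gens_mem.2.2.2.2.2.2.1 iota_facts.2.2.2.2.2.2.2.2.2.1.symm)) (quad_sylow hF)

theorem nc_iota (hF : Facts L) : ¬ IsConj (L.el t3) (L.el iota) := by
  intro h
  obtain ⟨g, hg⟩ := isConj_iff.1 h.symm
  have hp := gens_mem.2.2.2.2.2.1
  set n := g * L.el p * g⁻¹ with hndef
  have hn : n ∈ centralizer ({L.el t3} : Set G) := by
    rw [mem_centralizer_singleton_iff, ← hg]
    exact (show Commute (L.el p) (L.el iota) from el_comm L hp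
      gens_mem.2.2.2.2.2.2.2.2.2.2.2.2 iota_facts.2.2.1.symm).map (MulAut.conj g).toMonoidHom
  have hn3 : n ^ 3 = 1 := by
    rw [hndef, conj_pow, ← L.el_pow hp, frame_facts.2.2.2.2.2.2.2.2.2.2.1, L.el_one, mul_one,
      mul_inv_cancel]
  obtain ⟨k, -, hk⟩ := sylow_conj Q3_le Q3_isPGroup (t3_sylow hF) (zpowers_le.2 hn)
    (isPGroup_zpowers hn3)
  obtain ⟨a, b, e⟩ := mem_Q3.1 (hk n (mem_zpowers n))
  have hc : IsConj (L.el p) (L.el (nf a b 0 0 0 0 0)) := isConj_iff.2 ⟨k * g, by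
    rw [← e, hndef]; group⟩
  rcases hF.p_conj _ ((mem_J0_iff a b 0 0 0 0 0).2 ⟨rfl, rfl, rfl, rfl⟩) hc with h | h
  · exact (supports.1 a b).1 (support_of_sconj h)
  · exact (supports.1 a b).2 (support_of_sconj h)

theorem nc_t12_quad (hF : Facts L) : ¬ IsConj (L.el t12) (L.el τ) := by
  intro h
  obtain ⟨g, hg⟩ := isConj_iff.1 h
  set n := g * L.el z3 * g⁻¹ with hndef
  have hn : n ∈ centralizer ({L.el τ} : Set G) := by
    rw [mem_centralizer_singleton_iff, ← hg]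
    exact (show Commute (L.el z3) (L.el t12) from el_comm L gens_mem.2.2.1
      gens_mem.2.2.2.2.2.2.2.2.2.2.1 iota_facts.2.2.2.2.2.2.2.2.1.symm).map
      (MulAut.conj g).toMonoidHom
  have hn3 : n ^ 3 = 1 := by rw [hndef, conj_pow, z3_cube, mul_one, mul_inv_cancel]
  obtain ⟨k, -, hk⟩ := sylow_conj (zpowers_le.2 (mem_centralizer_singleton_iff.2 (el_comm L
    gens_mem.2.2.2.1 gens_mem.2.2.2.2.2.2.1 iota_facts.2.2.2.2.2.2.2.2.2.1.symm)))
    (isPGroup_zpowers el_y_cube) (quad_sylow hF) (zpowers_le.2 hn) (isPGroup_zpowers hn3)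
  have hy := hk n (mem_zpowers n)
  rw [← mem_powers_iff_mem_zpowers, Submonoid.mem_powers_iff] at hy
  obtain ⟨j, hj⟩ := hy
  have hy3 : L.el y ^ j = L.el y ^ (j % 3) := pow_eq_pow_mod j el_y_cube
  have hc : IsConj (L.el z3) (L.el (y ^ (j % 3))) := isConj_iff.2 ⟨k * g, by
    rw [L.el_pow gens_mem.2.2.2.1, ← hy3, hj, hndef]; group⟩
  have hs := support_of_sconj (hF.fusion z3 J0_gens.2.2.1 _ (J0.pow_mem J0_gens.2.2.2.1 _) hc)
  exact supports.2.1 ⟨j % 3, Nat.mod_lt _ (by norm_num)⟩ hs.symm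

end CfsgLib.SNineThree.CentTau
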