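import Cfsg.Agent.Lib.SNineThree.CentTauModel
import Cfsg.Agent.Lib.SNineThree.CentTauTools
import Cfsg.Agent.S3333

/-!
The centralizer of `(6 7 8)` is the product with a group `M`; either it is local or `M` is
symmetric of degree six. General facts on the centralizer of `(0 3)(1 4)(2 5)`.
-/

set_option autoImplicit false
set_option linter.style.haveILetI false
set_option linter.unusedSectionVars false
set_option maxRecDepth 100000

namespace CfsgLib.SNineThree.CentTau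

open Subgroup Equiv
open CfsgLib.ANineThree (P9 z z2 z3 y x p τ)

universe u

theorem nf_gens : nf 1 0 0 0 0 0 0 = z ∧ nf 0 1 0 0 0 0 0 = z2 ∧ nf 0 0 0 0 1 0 0 = z3 ∧
    nf 1 1 0 0 0 0 0 = y ∧ nf 0 0 1 0 0 0 0 = t1 ∧ nf 0 0 1 1 0 0 0 = t12 ∧
    nf 0 0 0 0 0 1 0 = t3 ∧ nf 0 0 0 0 0 0 1 = τ0 ∧ nf 0 0 0 0 0 0 0 = 1 := by decide +kernel

theorem pow_four_C3 : ∀ a b i : Fin 3, ∀ c d e : Fin 2,
    (nf a b c d i 0 e) ^ 4 ∈ J0 := by decide +kernel

theorem pow_four_tau : ∀ a i : Fin 3, ∀ c f e : Fin 2,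
    ∃ a' i' : Fin 3, (nf a a c c i f e) ^ 4 = nf a' a' 0 0 i' 0 0 := by decide +kernel

theorem fix_two : ∀ a b : Fin 3, (nf a b 0 0 0 0 0) 0 = 0 → (nf a b 0 0 0 0 0) 3 = 3 →
    a = 0 ∧ b = 0 := by decide +kernel

theorem line_pow : ∀ a : Fin 3, a ≠ 0 → (nf a a 0 0 0 0 0) ^ a.1 = y := by decide +kernel

theorem sq_part : ∀ a i : Fin 3, ∀ e : Fin 2,
    ((nf a a 0 0 i 0 e) ^ 2) ^ 3 = 1 ∧ ((nf a a 0 0 i 0 e) ^ 2 = 1 → a = 0 ∧ i = 0) ∧
    nf 0 0 0 0 0 0 e = τ0 ^ e.1 := by decide +kernel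

theorem tau_quot : ∀ a i : Fin 3, ∀ c f e : Fin 2,
    (nf 0 0 c c 0 f 0)⁻¹ * nf a a c c i f e * y = y * ((nf 0 0 c c 0 f 0)⁻¹ * nf a a c c i f e) ∧
    (nf 0 0 c c 0 f 0)⁻¹ * nf a a c c i f e * z3 =
      z3 * ((nf 0 0 c c 0 f 0)⁻¹ * nf a a c c i f e) := by decide +kernel

/-- The dihedral group of order eight on the two blocks. -/
def dih : DihedralGroup 4 → P9
  | .r i => (t1 * τ0) ^ i.val
  | .sr i => t1 * (t1 * τ0) ^ i.val

theorem dih_facts : (∀ a b : DihedralGroup 4, dih (a * b) = dih a * dih b) ∧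
    (∀ a : DihedralGroup 4, ∃ c d e : Fin 2, dih a = nf 0 0 c d 0 0 e) ∧
    (∀ a : DihedralGroup 4, dih a ∈ J0 → a = 1) ∧
    (∀ c d e : Fin 2, ∃ a : DihedralGroup 4, dih a = nf 0 0 c d 0 0 e) := by decide +kernel

theorem mem_of_pow_four {G : Type u} [Group G] {H : Subgroup G} {g : G}
    (h3 : ∃ k, g ^ 3 ^ k = 1) (h4 : g ^ 4 ∈ H) : g ∈ H := by
  obtain ⟨k, hk⟩ := h3
  obtain ⟨m, hm⟩ := exists_pow_eq_self_of_coprime
    ((Nat.Coprime.pow_left k (by norm_num : Nat.Coprime 3 4)).coprime_dvd_left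
      (orderOf_dvd_of_pow_eq_one hk)).symm
  rw [← hm]
  exact H.pow_mem h4 m

variable {G : Type u} [Group G] [Finite G] (L : Loc B G)

/-- The centralizer of `(6 7 8)`. -/
abbrev C3 : Subgroup G := centralizer ({L.el z3} : Set G)

/-- The centralizer of `(0 3)(1 4)(2 5)`. -/
abbrev Ct : Subgroup G := centralizer ({L.el τ0} : Set G)

theorem eq_of_el {σ ρ : P9} (h : σ = ρ) : L.el σ = L.el ρ := h ▸ rfl

theorem el_comm {a b : P9} (ha : a ∈ B) (hb : b ∈ B) (h : a * b = b * a) :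
    L.el a * L.el b = L.el b * L.el a := (L.commute_el ha hb).2 h

theorem el_C3 {σ : P9} (hσ : σ ∈ B) (h : σ * z3 = z3 * σ) : L.el σ ∈ C3 L :=
  mem_centralizer_singleton_iff.2 (el_comm L hσ gens_mem.2.2.1 h)

theorem el_Ct {σ : P9} (hσ : σ ∈ B) (h : σ * τ0 = τ0 * σ) : L.el σ ∈ Ct L :=
  mem_centralizer_singleton_iff.2 (el_comm L hσ gens_mem.2.2.2.2.2.2.2.1 h)

theorem el_J (a b i : Fin 3) : L.el (nf a b 0 0 i 0 0) ∈ L.J :=
  L.mem_J.2 ⟨_, (mem_J0_iff a b i 0 0 0 0).2 ⟨rfl, rfl, rfl, rfl⟩, rfl⟩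

theorem J_elem {g : G} (hg : g ∈ L.J) : ∃ a b i : Fin 3, g = L.el (nf a b 0 0 i 0 0) := by
  obtain ⟨σ, hσ, rfl⟩ := L.mem_J.1 hg
  obtain ⟨a, b, i, rfl⟩ := J0_form hσ
  exact ⟨a, b, i, rfl⟩

theorem J_el_comm {g h : G} (hg : g ∈ L.J) (hh : h ∈ L.J) : g * h = h * g := by
  obtain ⟨a, b, i, rfl⟩ := J_elem L hg
  obtain ⟨a', b', i', rfl⟩ := J_elem L hh
  exact el_comm L (nf_mem _ _ _ _ _ _ _) (nf_mem _ _ _ _ _ _ _) (J_comm ..)

theorem J_el_cube {g : G} (hg : g ∈ L.J) : g ^ 3 = 1 := by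
  obtain ⟨a, b, i, rfl⟩ := J_elem L hg
  rw [← L.el_pow (nf_mem _ _ _ _ _ _ _), J_cube, L.el_one]

theorem J_isPGroup : IsPGroup 3 L.J := fun g =>
  ⟨1, Subtype.ext (by simpa using J_el_cube L g.2)⟩

theorem nf_J_eq (a b i : Fin 3) :
    L.el (nf a b 0 0 i 0 0) = L.el z ^ a.1 * L.el z2 ^ b.1 * L.el z3 ^ i.1 := by
  obtain ⟨h1, h2, h3, -⟩ := gens_mem
  rw [show nf a b 0 0 i 0 0 = z ^ a.1 * z2 ^ b.1 * z3 ^ i.1 by simp [nf],
    L.el_mul (B.mul_mem (B.pow_mem h1 _) (B.pow_mem h2 _)) (B.pow_mem h3 _),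
    L.el_mul (B.pow_mem h1 _) (B.pow_mem h2 _), L.el_pow h1, L.el_pow h2, L.el_pow h3]

theorem range_of_gens {g : G} (h1 : g * L.el z * g⁻¹ ∈ L.J) (h2 : g * L.el z2 * g⁻¹ ∈ L.J)
    (h3 : g * L.el z3 * g⁻¹ ∈ L.J) : g ∈ L.e.range := by
  rw [L.range_normalizer]
  refine mem_normalizer_fintype fun q hq => ?_
  obtain ⟨a, b, i, rfl⟩ := J_elem L hq
  have e : g * L.el (nf a b 0 0 i 0 0) * g⁻¹ = (g * L.el z * g⁻¹) ^ a.1 *
      (g * L.el z2 * g⁻¹) ^ b.1 * (g * L.el z3 * g⁻¹) ^ i.1 := by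
    rw [nf_J_eq, conj_pow, conj_pow, conj_pow]; group
  rw [e]
  exact mul_mem (mul_mem (pow_mem h1 _) (pow_mem h2 _)) (pow_mem h3 _)

theorem conj_J {σ : P9} (hσ : σ ∈ B) {g : G} (hg : g ∈ L.J) :
    L.el σ * g * (L.el σ)⁻¹ ∈ L.J :=
  (mem_set_normalizer_iff.1 (L.range_normalizer ▸ L.el_mem hσ) g).1 hg

theorem form_C3 {g : G} (hg : g ∈ C3 L) (hr : g ∈ L.e.range) :
    ∃ a b : Fin 3, ∃ c d : Fin 2, ∃ i : Fin 3, ∃ e : Fin 2, g = L.el (nf a b c d i 0 e) := by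
  obtain ⟨σ, hσ, rfl⟩ := L.mem_range.1 hr
  have h := (L.commute_el hσ gens_mem.2.2.1).1 (mem_centralizer_singleton_iff.1 hg)
  obtain ⟨a, b, c, d, i, f, e, rfl⟩ := exists_nf hσ (six_z3 h)
  obtain rfl := (comm_z3 a b i c d f e).1 h
  exact ⟨a, b, c, d, i, e, rfl⟩

theorem form_Ct {g : G} (hg : g ∈ Ct L) (hr : g ∈ L.e.range) :
    ∃ a i : Fin 3, ∃ c f e : Fin 2, g = L.el (nf a a c c i f e) := by
  obtain ⟨σ, hσ, rfl⟩ := L.mem_range.1 hr
  have h := (L.commute_el hσ gens_mem.2.2.2.2.2.2.2.1).1 (mem_centralizer_singleton_iff.1 hg)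
  obtain ⟨a, b, c, d, i, f, e, rfl⟩ := exists_nf hσ (six_tau h)
  obtain ⟨rfl, rfl⟩ := comm_tau a b i c d f e h
  exact ⟨a, i, c, f, e, rfl⟩

/-! ### The centralizer of `(6 7 8)` -/

theorem J_le_C3 : L.J ≤ C3 L := fun _ hg => mem_centralizer_singleton_iff.2
  (J_el_comm L hg (by rw [← nf_gens.2.2.1]; exact el_J L 0 0 1))

theorem sylow_C3_normalizer : ∀ t ∈ C3 L, (∃ k, t ^ 3 ^ k = 1) →
    t ∈ normalizer (L.J : Set G) → t ∈ L.J := by
  intro t ht h3 hn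
  obtain ⟨a, b, c, d, i, e, rfl⟩ := form_C3 L ht (L.range_normalizer.symm ▸ hn)
  refine mem_of_pow_four h3 ?_
  rw [← L.el_pow (nf_mem _ _ _ _ _ _ _)]
  exact L.mem_J.2 ⟨_, pow_four_C3 a b i c d e, rfl⟩

/-- The factor of the centralizer of `(6 7 8)`. -/
def M3 : Subgroup G := (Cfsg.pResidual 3 (C3 L)).map (C3 L).subtype

theorem M3_le : M3 L ≤ C3 L := map_subtype_le _

theorem mem_M3_of_coprime {g : G} (hg : g ∈ C3 L) (h : Nat.Coprime (orderOf g) 3) : g ∈ M3 L :=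
  ⟨⟨g, hg⟩, subset_closure (show Nat.Coprime (orderOf (⟨g, hg⟩ : C3 L)) 3 by
    rwa [← orderOf_coe]), rfl⟩

theorem M3_conj {x' : G} (hx : x' ∈ normalizer (C3 L : Set G)) {m : G} (hm : m ∈ M3 L) :
    x' * m * x'⁻¹ ∈ M3 L :=
  residual_map hx hm

theorem M3_conj' {x' : G} (hx : x' ∈ C3 L) {m : G} (hm : m ∈ M3 L) : x' * m * x'⁻¹ ∈ M3 L :=
  M3_conj L (le_normalizer hx) hm

theorem tpart_mem (c d e : Fin 2) : L.el (nf 0 0 c d 0 0 e) ∈ M3 L := by
  obtain ⟨h4, hc⟩ := t_part c d e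
  refine mem_M3_of_coprime L (el_C3 L (nf_mem _ _ _ _ _ _ _) hc)
    (coprime_of_pow_eq_one (n := 4) (by norm_num) ?_)
  rw [← L.el_pow (nf_mem _ _ _ _ _ _ _), h4, L.el_one]

theorem z_mem_M3 : L.el z ∈ M3 L ∧ L.el z2 ∈ M3 L := by
  obtain ⟨k1, k2, k3, k4, -, -⟩ := z_comm_t
  obtain ⟨g1, g2, -, -, g5, -⟩ := nf_gens
  have hz := gens_mem.1
  have hz2 := gens_mem.2.1
  have ht1 := gens_mem.2.2.2.2.2.2.2.2.1
  have ht2 := gens_mem.2.2.2.2.2.2.2.2.2.1
  have m1 : L.el t1 ∈ M3 L := g5 ▸ tpart_mem L 1 0 0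
  have m2 : L.el t2 ∈ M3 L := by
    have := tpart_mem L 0 1 0
    rwa [show nf 0 0 0 1 0 0 0 = t2 by decide +kernel] at this
  constructor
  · rw [← inv_mem_iff, ← L.el_inv hz, ← k1, L.el_mul (B.mul_mem (B.mul_mem hz ht1) (B.inv_mem hz))
      (B.inv_mem ht1), L.el_conj hz ht1, L.el_inv ht1]
    exact mul_mem (M3_conj' L (el_C3 L hz k3) m1) (inv_mem m1)
  · rw [← inv_mem_iff, ← L.el_inv hz2, ← k2,
      L.el_mul (B.mul_mem (B.mul_mem hz2 ht2) (B.inv_mem hz2)) (B.inv_mem ht2),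
      L.el_conj hz2 ht2, L.el_inv ht2]
    exact mul_mem (M3_conj' L (el_C3 L hz2 k4) m2) (inv_mem m2)

theorem line_mem (a b : Fin 3) : L.el (nf a b 0 0 0 0 0) ∈ M3 L := by
  rw [nf_J_eq]
  simp only [Fin.val_zero, pow_zero, mul_one]
  exact mul_mem (pow_mem (z_mem_M3 L).1 _) (pow_mem (z_mem_M3 L).2 _)

theorem block_mem (a b : Fin 3) (c d e : Fin 2) : L.el (nf a b c d 0 0 e) ∈ M3 L := by
  rw [nf_split, L.el_mul (nf_mem _ _ _ _ _ _ _) (nf_mem _ _ _ _ _ _ _)]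
  exact mul_mem (line_mem L a b) (tpart_mem L c d e)

theorem C3_split : L.el z3 ∉ M3 L ∧
    Cfsg.pResidual 3 (C3 L) ⊔ zpowers (⟨L.el z3, el_C3 L gens_mem.2.2.1 rfl⟩ : C3 L) = ⊤ := by
  set c : C3 L := ⟨L.el z3, el_C3 L gens_mem.2.2.1 rfl⟩ with hc
  obtain ⟨T, hT⟩ := sylow_exists (J_le_C3 L) (J_isPGroup L) (sylow_C3_normalizer L)
  have hmemT : ∀ a ∈ (T : Subgroup (C3 L)), (a : G) ∈ L.J := fun a ha => by
    rw [hT] at ha; exact ha
  have hgen : (T : Subgroup (C3 L)) ≤ Cfsg.pResidual 3 (C3 L) ⊔ zpowers c := by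
    intro a ha
    obtain ⟨u, v, i, he⟩ := J_elem L (hmemT a ha)
    obtain ⟨⟨m, hm⟩, hmr, hme⟩ := line_mem L u v
    have : a = ⟨m, hm⟩ * c ^ i.1 := Subtype.ext (by
      show (a : G) = m * L.el z3 ^ i.1
      rw [he, show m = _ from hme, nf_J_eq, nf_J_eq, Fin.val_zero, pow_zero, mul_one])
    rw [this]
    exact mul_mem (mem_sup_left hmr) (mem_sup_right (pow_mem (mem_zpowers _) _))
  obtain ⟨h1, h2⟩ := split_central T
    (fun a ha b hb => Subtype.ext (J_el_comm L (hmemT a ha) (hmemT b hb)))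
    (fun a ha => Subtype.ext (by simpa using J_el_cube L (hmemT a ha))) (c := c)
    (fun g => Subtype.ext (mem_centralizer_singleton_iff.1 g.2))
    (fun e => by
      have e' : L.el z3 = L.el 1 := (congrArg Subtype.val e).trans L.el_one.symm
      exact absurd (L.el_inj gens_mem.2.2.1 B.one_mem e') (by decide +kernel))
    (Subtype.ext (by
      show L.el z3 ^ 3 = 1
      exact J_el_cube L (nf_gens.2.2.1 ▸ el_J L 0 0 1))) hgen
  refine ⟨fun h => ?_, h2⟩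
  obtain ⟨a, ha, e⟩ := h
  exact h1 (by rwa [show c = a from Subtype.ext e.symm])

theorem z3_cube : L.el z3 ^ 3 = 1 := J_el_cube L (nf_gens.2.2.1 ▸ el_J L 0 0 1)

theorem z3_ne_one : L.el z3 ≠ 1 := fun e => (C3_split L).1 (e ▸ one_mem _)

theorem dec_unique {g : G} {i j : Fin 3} (hi : g * (L.el z3 ^ i.1)⁻¹ ∈ M3 L)
    (hj : g * (L.el z3 ^ j.1)⁻¹ ∈ M3 L) : i = j := by
  have h := mul_mem (inv_mem hi) hj
  simp only [mul_inv_rev, inv_inv, mul_assoc, inv_mul_cancel_left] at h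
  have h3 := z3_cube L
  have hn := (C3_split L).1
  have hn2 : L.el z3 ^ 2 ∉ M3 L := fun h2 => hn (by
    have := pow_mem h2 2
    rwa [← pow_mul, show 2 * 2 = 3 + 1 by norm_num, pow_succ, h3, one_mul] at this)
  have e2 : (L.el z3 ^ j.1)⁻¹ = L.el z3 ^ (2 * j.1) := inv_eq_of_mul_eq_one_right (by
    rw [← pow_add, show j.1 + 2 * j.1 = 3 * j.1 by ring, pow_mul, h3, one_pow])
  rw [e2, ← pow_add, pow_eq_pow_mod _ h3] at h
  by_contra hne
  have hk : (i.1 + 2 * j.1) % 3 = 1 ∨ (i.1 + 2 * j.1) % 3 = 2 := by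
    have := Fin.val_ne_of_ne hne
    omega
  rcases hk with e | e <;> rw [e] at h
  · exact hn (by simpa using h)
  · exact hn2 h

theorem exists_dec {g : G} (hg : g ∈ C3 L) : ∃ i : Fin 3, g * (L.el z3 ^ i.1)⁻¹ ∈ M3 L := by
  haveI := CfsgLib.Transfer.pResidual_normal (G := C3 L) (p := 3)
  set c : C3 L := ⟨L.el z3, el_C3 L gens_mem.2.2.1 rfl⟩ with hc
  obtain ⟨m, hm, w, hw, hmw⟩ := mem_sup_of_normal_left.1
    ((C3_split L).2.symm ▸ mem_top (⟨g, hg⟩ : C3 L))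
  obtain ⟨n, rfl⟩ := mem_zpowers_iff.1 hw
  have hn : 0 ≤ n % 3 ∧ n % 3 < 3 := ⟨Int.emod_nonneg _ (by norm_num), Int.emod_lt_of_pos _ (by norm_num)⟩
  refine ⟨⟨(n % 3).toNat, by omega⟩, m, hm, ?_⟩
  have e : g = (m : G) * L.el z3 ^ n := by
    have := congrArg Subtype.val hmw
    simpa [hc] using this.symm
  have e3 : L.el z3 ^ n = L.el z3 ^ (n % 3).toNat := by
    rw [← zpow_natCast, Int.toNat_of_nonneg hn.1]
    conv_lhs => rw [← Int.emod_add_mul_ediv n 3, zpow_add, zpow_mul]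
    rw [show (L.el z3) ^ (3 : ℤ) = 1 by exact_mod_cast z3_cube L, one_zpow, mul_one]
  show (m : G) = _
  rw [e, e3, mul_inv_cancel_right]

theorem dec_zero {g : G} {i : Fin 3} (hg : g ∈ M3 L) (hi : g * (L.el z3 ^ i.1)⁻¹ ∈ M3 L) :
    i = 0 :=
  dec_unique L hi (by simpa using hg)

theorem C3_normalizer {g : G} (hg : g ∈ normalizer (zpowers (L.el z3) : Set G)) :
    g ∈ normalizer (C3 L : Set G) := by
  rw [C3, ← centralizer_closure, ← zpowers_eq_closure]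
  refine mem_normalizer_fintype fun q hq => ?_
  rw [SetLike.mem_coe, mem_centralizer_iff] at hq ⊢
  intro a ha
  have h' : g⁻¹ * a * g ∈ zpowers (L.el z3) := (mem_set_normalizer_iff''.1 hg a).1 ha
  calc a * (g * q * g⁻¹) = g * ((g⁻¹ * a * g) * q) * g⁻¹ := by group
    _ = g * q * g⁻¹ * a := by rw [hq _ h']; group

theorem form_M3 {g : G} (hg : g ∈ M3 L) (hr : g ∈ L.e.range) :
    ∃ a b : Fin 3, ∃ c d e : Fin 2, g = L.el (nf a b c d 0 0 e) := by
  obtain ⟨a, b, c, d, i, e, rfl⟩ := form_C3 L (M3_le L hg) hr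
  have h2 : L.el (nf a b c d i 0 e) * (L.el z3 ^ i.1)⁻¹ = L.el (nf a b c d 0 0 e) := by
    have hcm : Commute (L.el z3) (L.el (nf a b c d 0 0 e)) :=
      (el_comm L (nf_mem _ _ _ _ _ _ _) gens_mem.2.2.1 ((comm_z3 a b 0 c d 0 e).2 rfl)).symm
    rw [split_z3 a b i c d 0 e, L.el_mul (B.pow_mem gens_mem.2.2.1 _) (nf_mem _ _ _ _ _ _ _),
      L.el_pow gens_mem.2.2.1, (hcm.pow_left i.1).eq, mul_inv_cancel_right]
  obtain rfl := dec_zero L hg (h2 ▸ block_mem L a b c d e)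
  exact ⟨a, b, c, d, e, rfl⟩

/-- The plane in the factor. -/
noncomputable def line : Multiplicative (Fin 3 × Fin 3) →* M3 L :=
  MonoidHom.mk' (fun v => ⟨L.el (nf v.toAdd.1 v.toAdd.2 0 0 0 0 0), line_mem L _ _⟩) fun v w =>
    Subtype.ext (by
      show L.el _ = L.el _ * L.el _
      rw [← L.el_mul (nf_mem _ _ _ _ _ _ _) (nf_mem _ _ _ _ _ _ _), ← line_facts.1]
      rfl)

theorem line_inj : Function.Injective (line L) := by
  rw [injective_iff_map_eq_one]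
  intro v hv
  have h : L.el (nf v.toAdd.1 v.toAdd.2 0 0 0 0 0) = L.el 1 := by
    rw [L.el_one]; exact congrArg Subtype.val hv
  obtain ⟨h1, h2⟩ := line_facts.2.1 _ _ (L.el_inj (nf_mem _ _ _ _ _ _ _) B.one_mem h)
  exact toAdd_eq_zero.1 (Prod.ext h1 h2)

theorem mem_line {m : M3 L} :
    m ∈ (line L).range ↔ ∃ a b : Fin 3, (m : G) = L.el (nf a b 0 0 0 0 0) := by
  constructor
  · rintro ⟨v, rfl⟩
    exact ⟨_, _, rfl⟩
  · rintro ⟨a, b, h⟩
    exact ⟨Multiplicative.ofAdd (a, b), Subtype.ext h.symm⟩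

theorem mem_line_of_J {m : M3 L} (h : (m : G) ∈ L.J) : m ∈ (line L).range := by
  obtain ⟨a, b, i, e⟩ := J_elem L h
  have hi : i = 0 := by
    refine dec_zero L m.2 ?_
    rw [e, nf_J_eq, mul_inv_cancel_right]
    have := line_mem L a b
    rwa [nf_J_eq, Fin.val_zero, pow_zero, mul_one] at this
  exact (mem_line L).2 ⟨a, b, hi ▸ e⟩

theorem line_le_J {m : M3 L} (h : m ∈ (line L).range) : (m : G) ∈ L.J := by
  obtain ⟨a, b, e⟩ := (mem_line L).1 h
  rw [e]; exact el_J L a b 0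

theorem range_of_line_normalizer {m : M3 L}
    (hm : m ∈ normalizer ((line L).range : Set (M3 L))) : (m : G) ∈ L.e.range := by
  have key : ∀ a b : Fin 3,
      (m : G) * L.el (nf a b 0 0 0 0 0) * (m : G)⁻¹ ∈ L.J := fun a b =>
    line_le_J L ((mem_set_normalizer_iff.1 hm ⟨_, line_mem L a b⟩).1 ((mem_line L).2 ⟨a, b, rfl⟩))
  refine range_of_gens L (nf_gens.1 ▸ key 1 0) (nf_gens.2.1 ▸ key 0 1) ?_
  rw [mem_centralizer_singleton_iff.1 (M3_le L m.2), mul_inv_cancel_right, ← nf_gens.2.2.1]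
  exact el_J L 0 0 1

theorem block_normalizes {m : M3 L} (hr : (m : G) ∈ L.e.range) :
    m ∈ normalizer ((line L).range : Set (M3 L)) := by
  refine mem_normalizer_fintype fun q hq => mem_line_of_J L ?_
  obtain ⟨σ, hσ, e⟩ := L.mem_range.1 hr
  simp only [Subgroup.coe_mul, Subgroup.coe_inv, ← e]
  exact conj_J L hσ (line_le_J L hq)

variable {L} (hF : Facts L)

include hF

theorem line_cent {m : G} (hm : m ∈ M3 L) {a b : Fin 3} (hn : a ≠ 0 ∨ b ≠ 0)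
    (hc : m * L.el (nf a b 0 0 0 0 0) = L.el (nf a b 0 0 0 0 0) * m) : m ∈ L.e.range := by
  refine hF.cent_two z3 J0_gens.2.2.1 (nf a b 0 0 0 0 0)
    ((mem_J0_iff a b 0 0 0 0 0).2 ⟨rfl, rfl, rfl, rfl⟩) (by decide +kernel) ?_ ?_
  · intro h
    have hs : ∀ q : Fin 9, z3 q = q → zpowers z3 ≤ MulAction.stabilizer P9 q := fun q hq =>
      zpowers_le.2 hq
    obtain ⟨h0, h3⟩ := fix_two a b (hs 0 (by decide +kernel) h) (hs 3 (by decide +kernel) h)
    exact hn.elim (fun e => e h0) fun e => e h3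
  · rw [mem_centralizer_iff]
    rintro g (rfl | rfl)
    · exact (mem_centralizer_singleton_iff.1 (M3_le L hm)).symm
    · exact hc.symm

theorem line_centralizer :
    centralizer ((line L).range : Set (M3 L)) = (line L).range := by
  refine le_antisymm (fun m hm => ?_) fun m hm => mem_centralizer_iff.2 fun q hq => ?_
  · have key : ∀ a b : Fin 3, (m : G) * L.el (nf a b 0 0 0 0 0) = L.el (nf a b 0 0 0 0 0) * m :=
      fun a b => (congrArg Subtype.val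
        (mem_centralizer_iff.1 hm ⟨_, line_mem L a b⟩ ((mem_line L).2 ⟨a, b, rfl⟩))).symm
    obtain ⟨a, b, c, d, e, he⟩ := form_M3 L m.2 (line_cent hF m.2 (Or.inl one_ne_zero) (key 1 0))
    have h1 := key 1 0
    have h2 := key 0 1
    rw [he, nf_gens.1, L.commute_el (nf_mem _ _ _ _ _ _ _) gens_mem.1] at h1
    rw [he, nf_gens.2.1, L.commute_el (nf_mem _ _ _ _ _ _ _) gens_mem.2.1] at h2
    obtain ⟨rfl, rfl, rfl⟩ := comm_pair a b 0 c d 0 e h1 h2
    exact (mem_line L).2 ⟨a, b, he⟩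
  · exact Subtype.ext (J_el_comm L (line_le_J L hq) (line_le_J L hm))

theorem sylow_line : ∃ T : Sylow 3 (M3 L), (T : Subgroup (M3 L)) = (line L).range := by
  haveI : Fact (Nat.Prime 3) := ⟨Nat.prime_three⟩
  set Q := (line L).range.map (M3 L).subtype with hQ
  have hQM : Q ≤ M3 L := map_subtype_le _
  have hQp : IsPGroup 3 Q := by
    refine IsPGroup.of_equiv ?_ ((line L).range.equivMapOfInjective _ (subtype_injective _))
    exact fun g => ⟨1, Subtype.ext (Subtype.ext (by simpa using J_el_cube L (line_le_J L g.2)))⟩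
  obtain ⟨T, hT⟩ := sylow_exists hQM hQp (fun t ht h3 hn => by
    have hr : (⟨t, ht⟩ : M3 L) ∈ normalizer ((line L).range : Set (M3 L)) := by
      refine mem_normalizer_fintype fun q hq => ?_
      obtain ⟨q', hq', e⟩ := (mem_set_normalizer_iff.1 hn _).1 ⟨q, hq, rfl⟩
      have e' : q' = ⟨t, ht⟩ * q * ⟨t, ht⟩⁻¹ := Subtype.ext e
      exact e' ▸ hq'
    have hJ : t ∈ L.J := sylow_C3_normalizer L t (M3_le L ht) h3
      (L.range_normalizer ▸ range_of_line_normalizer L hr)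
    exact ⟨⟨t, ht⟩, mem_line_of_J L hJ, rfl⟩)
  exact ⟨T, hT.trans (comap_map_eq_self_of_injective (subtype_injective _) _)⟩

theorem card_line : Nat.card (line L).range = 9 := by
  rw [Nat.card_congr (MonoidHom.ofInjective (line_inj L)).toEquiv.symm, Nat.card_eq_fintype_card]
  rfl

/-- Either the centralizer of `(6 7 8)` is local or the factor is symmetric of degree six. -/
theorem C3_cases : C3 L ≤ L.e.range ∨ Nonempty (M3 L ≃* Perm (Fin 6)) := by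
  obtain ⟨T, hT⟩ := sylow_line hF
  obtain ⟨d1, d2, d3, d4⟩ := dih_facts
  set N := normalizer ((line L).range : Set (M3 L)) with hN
  have dmem : ∀ a, dih a ∈ B := fun a => by
    obtain ⟨c, d, e, h⟩ := d2 a
    rw [h]; exact nf_mem _ _ _ _ _ _ _
  have dM : ∀ a, L.el (dih a) ∈ M3 L := fun a => by
    obtain ⟨c, d, e, h⟩ := d2 a
    rw [h]; exact tpart_mem L c d e
  let δ : DihedralGroup 4 →* N := MonoidHom.mk'
    (fun a => ⟨⟨L.el (dih a), dM a⟩, block_normalizes L (L.el_mem (dmem a))⟩) fun a b =>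
      Subtype.ext (Subtype.ext (by
        show L.el _ = L.el _ * L.el _
        rw [d1, L.el_mul (dmem a) (dmem b)]))
  let δq := (QuotientGroup.mk' ((line L).range.subgroupOf N)).comp δ
  have hinj : Function.Injective δq := by
    rw [injective_iff_map_eq_one]
    intro a ha
    have h : (δ a : M3 L) ∈ (line L).range := by
      rw [← mem_subgroupOf, ← QuotientGroup.eq_one_iff]
      exact ha
    obtain ⟨u, v, e⟩ := (mem_line L).1 h
    refine d3 a ?_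
    rw [L.el_inj (dmem a) (nf_mem _ _ _ _ _ _ _) e]
    exact (mem_J0_iff u v 0 0 0 0 0).2 ⟨rfl, rfl, rfl, rfl⟩
  have hsurj : Function.Surjective δq := by
    intro q
    obtain ⟨⟨m, hm⟩, rfl⟩ := QuotientGroup.mk'_surjective _ q
    obtain ⟨a, b, c, d, e, he⟩ := form_M3 L m.2 (range_of_line_normalizer L hm)
    obtain ⟨t, ht⟩ := d4 c d e
    refine ⟨t, QuotientGroup.eq.2 ?_⟩
    rw [mem_subgroupOf]
    refine mem_line_of_J L ?_
    show (L.el (dih t))⁻¹ * (m : G) ∈ L.J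
    rw [he, nf_split, L.el_mul (nf_mem _ _ _ _ _ _ _) (nf_mem _ _ _ _ _ _ _), ← ht, ← mul_assoc]
    simpa [L.el_inv (dmem t)] using conj_J L (B.inv_mem (dmem t)) (el_J L a b 0)
  rcases Cfsg.Agent.S3333.result T (line L).range hT.symm (card_line hF) (line_centralizer hF)
    (MulEquiv.ofBijective δq ⟨hinj, hsurj⟩).symm
    (fun q hq hq1 m hm => block_normalizes L (by
      obtain ⟨a, b, e⟩ := (mem_line L).1 hq
      have hn : a ≠ 0 ∨ b ≠ 0 := by
        by_contra hh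
        push Not at hh
        refine hq1 (Subtype.ext ?_)
        rw [e, hh.1, hh.2, nf_gens.2.2.2.2.2.2.2.2, L.el_one]
        rfl
      refine line_cent hF m.2 hn ?_
      rw [← e]
      exact congrArg Subtype.val (mem_centralizer_singleton_iff.1 hm))) with h | h
  · left
    intro g hg
    obtain ⟨i, hi⟩ := exists_dec L hg
    have hr := range_of_line_normalizer L (m := ⟨_, hi⟩) (by
      rw [normalizer_eq_top_iff.2 h]; exact mem_top _)
    have := mul_mem hr (pow_mem (L.el_mem gens_mem.2.2.1) i.1)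
    simpa using this
  · exact Or.inr h

end CfsgLib.SNineThree.CentTau
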