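import Cfsg.Agent.Lib.SNineThree.Classify0
import Cfsg.Agent.Lib.SNineThree.Classify.Check

/-!
The classification of the linear groups of the setup: each matrix is monomial in one of three
shifted frames or gives, with permutation matrices, a forbidden word; and products of proper
elements of two of the monomial groups lie in none.
-/

set_option autoImplicit false
set_option maxRecDepth 100000

namespace CfsgLib.SNineThree

open Matrix Cls

/-- the number of a vector -/
def encV (v : Fin 3 → ZMod 3) : ℕ := (v 0).val + 3 * (v 1).val + 9 * (v 2).val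

/-- the code of a matrix -/
def encM (g : M3) : MC := (encV fun i => g i 0, encV fun i => g i 1, encV fun i => g i 2)

/-- permutation matrix -/
def permMat (π : Equiv.Perm (Fin 3)) : M3 := Matrix.of fun k i => if k = π i then 1 else 0

theorem encV_digits : ∀ v : Fin 3 → ZMod 3, encV v % 3 = (v 0).val ∧ encV v / 3 % 3 = (v 1).val ∧
    encV v / 9 = (v 2).val ∧ encV v < 27 := by decide +kernel

theorem encV_inj {v w : Fin 3 → ZMod 3} (h : encV v = encV w) : v = w := by
  obtain ⟨a0, a1, a2, -⟩ := encV_digits v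
  obtain ⟨b0, b1, b2, -⟩ := encV_digits w
  rw [h] at a0 a1 a2
  funext i
  fin_cases i
  · exact ZMod.val_injective 3 (a0.symm.trans b0)
  · exact ZMod.val_injective 3 (a1.symm.trans b1)
  · exact ZMod.val_injective 3 (a2.symm.trans b2)

theorem encV_surj : ∀ n < 27, ∃ v : Fin 3 → ZMod 3, encV v = n := by decide +kernel

theorem encV_add : ∀ a b : Fin 3 → ZMod 3, encV (a + b) = add (encV a) (encV b) := by
  decide +kernel

theorem encV_smul : ∀ (k : ZMod 3) (a : Fin 3 → ZMod 3), encV (k • a) = sm k.val (encV a) := by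
  decide +kernel

theorem ap_enc (g : M3) (v : Fin 3 → ZMod 3) : encV (g *ᵥ v) = ap (encM g) (encV v) := by
  obtain ⟨h0, h1, h2, -⟩ := encV_digits v
  have : g *ᵥ v = v 0 • (fun i => g i 0) + v 1 • (fun i => g i 1) + v 2 • (fun i => g i 2) := by
    funext i
    simp only [Matrix.mulVec, dotProduct, Fin.sum_univ_three, Pi.add_apply, Pi.smul_apply,
      smul_eq_mul]
    ring
  rw [ap, h0, h1, h2, this, encV_add, encV_add, encV_smul, encV_smul, encV_smul]
  rfl

theorem encM_mul (g h : M3) : encM (g * h) = Cls.mul (encM g) (encM h) := by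
  have : ∀ j, encV (fun i => (g * h) i j) = ap (encM g) (encV fun i => h i j) := fun j => by
    rw [← ap_enc]; rfl
  exact Prod.ext (this 0) (Prod.ext (this 1) (this 2))

theorem encM_inj {g h : M3} (e : encM g = encM h) : g = h := by
  simp only [encM, Prod.mk.injEq] at e
  ext i j
  fin_cases j
  · exact congrFun (encV_inj e.1) i
  · exact congrFun (encV_inj e.2.1) i
  · exact congrFun (encV_inj e.2.2) i

theorem beq_iff {g h : MC} : beq g h = true ↔ g = h := by
  simp [beq, Bool.and_eq_true, Prod.ext_iff]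

theorem inList_iff {g : MC} {l : List MC} : inList g l = true ↔ g ∈ l := by
  simp [inList, List.any_eq_true, beq_iff]

theorem frame_zero_eq (g : M3) (i k : Fin 3) : (g *ᵥ frame 0 i) k = g k i := by
  simp [Matrix.mulVec, dotProduct, frame]

theorem isPermMat_iff {g : M3} : IsPermMat g ↔ ∃ π, g = permMat π := by
  constructor
  · rintro ⟨π, hπ⟩
    refine ⟨π, ?_⟩
    ext k i
    rw [← frame_zero_eq g i k, hπ i]
    simp [frame, permMat]
  · rintro ⟨π, rfl⟩
    refine ⟨π, fun i => funext fun k => ?_⟩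
    rw [frame_zero_eq]
    simp [frame, permMat]

theorem permMat_mem : ∀ π, inList (encM (permMat π)) perms = true := by decide +kernel

theorem perm_exists : ∀ i < 6, ∃ π, encM (permMat π) = perm i := by decide +kernel

theorem perms_exists : ∀ t ∈ perms, ∃ π, encM (permMat π) = t := by decide +kernel

theorem one_isPermMat : IsPermMat (1 : M3) := ⟨1, fun i => by rw [Matrix.one_mulVec]; rfl⟩

theorem encV_ones : encV (fun _ => 1) = 13 := by decide +kernel

theorem no_kernel {g : M3} (hg : g.det ≠ 0) {v : ℕ} (h0 : 0 < v) (hv : v < 27) :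
    ap (encM g) v ≠ 0 := by
  intro h
  obtain ⟨w, rfl⟩ := encV_surj v hv
  rw [← ap_enc, ← (show encV 0 = 0 by decide +kernel)] at h
  have hw : w ≠ 0 := by
    rintro rfl
    rw [show encV 0 = 0 by decide +kernel] at h0
    omega
  exact hg (Matrix.exists_mulVec_eq_zero_iff.1 ⟨w, hw, encV_inj h⟩)

theorem fr_eq : ∀ a : ZMod 3, fr a.val = [encV (frame a 0), encV (frame a 1), encV (frame a 2)] := by
  decide +kernel

theorem frame_axes : ∀ (a : ZMod 3) (i j : Fin 3) (k l : ZMod 3), k ≠ 0 → l ≠ 0 →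
    k • frame a i = l • frame a j → i = j := by decide +kernel

theorem isMono_of {a : ZMod 3} {g : M3} (hg : g.det ≠ 0)
    (h : isMono a.val (encM g) = true) : IsMono a g := by
  simp only [isMono, fr_eq, List.all_cons, List.all_nil, Bool.and_true, Bool.and_eq_true] at h
  have hi : ∀ i, ∃ j : Fin 3, ∃ s : ZMod 3, s ≠ 0 ∧ g *ᵥ frame a i = s • frame a j := by
    intro i
    have h' : onAxis a.val (ap (encM g) (encV (frame a i))) = true := by
      fin_cases i
      exacts [h.1, h.2.1, h.2.2]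
    rw [← ap_enc] at h'
    simp only [onAxis, fr_eq, List.any_cons, List.any_nil, Bool.or_false, Bool.or_eq_true,
      Nat.beq_eq] at h'
    have two : ∀ j, sm 2 (encV (frame a j)) = encV ((2 : ZMod 3) • frame a j) := fun j =>
      (encV_smul 2 _).symm
    rw [two 0, two 1, two 2] at h'
    rcases h' with (e | e) | (e | e) | (e | e)
    · exact ⟨0, 1, one_ne_zero, by rw [one_smul]; exact encV_inj e⟩
    · exact ⟨0, 2, by decide, encV_inj e⟩
    · exact ⟨1, 1, one_ne_zero, by rw [one_smul]; exact encV_inj e⟩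
    · exact ⟨1, 2, by decide, encV_inj e⟩
    · exact ⟨2, 1, one_ne_zero, by rw [one_smul]; exact encV_inj e⟩
    · exact ⟨2, 2, by decide, encV_inj e⟩
  choose f s hs hf using hi
  have hinj : Function.Injective f := by
    intro i j e
    have h1 : g *ᵥ (s j • frame a i) = g *ᵥ (s i • frame a j) := by
      rw [Matrix.mulVec_smul, Matrix.mulVec_smul, hf, hf, e, smul_smul, smul_smul, mul_comm]
    have hu : IsUnit g := (Matrix.isUnit_iff_isUnit_det g).2 (isUnit_iff_ne_zero.2 hg)
    exact frame_axes a i j _ _ (hs j) (hs i) (Matrix.mulVec_injective_iff_isUnit.2 hu h1)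
  exact ⟨Equiv.ofBijective f ⟨hinj, Finite.injective_iff_surjective.1 hinj⟩, s, hs, hf⟩

/-- each element is monomial in one of the frames -/
theorem mono_exists {X : Set M3} (hmul : ∀ a ∈ X, ∀ b ∈ X, a * b ∈ X)
    (hperm : ∀ g : M3, IsPermMat g → g ∈ X) (hdet : ∀ g ∈ X, g.det ≠ 0)
    (hfix : ∀ g ∈ X, g *ᵥ (fun _ => 1) = (fun _ => 1) → IsPermMat g) {g : M3} (hg : g ∈ X) :
    ∃ a : ZMod 3, isMono a.val (encM g) = true := by
  have nobad : ∀ w ∈ X, bad (encM w) = false := by
    intro w hw
    by_contra hb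
    rw [Bool.not_eq_false, bad, Bool.and_eq_true, Nat.beq_eq] at hb
    obtain ⟨h1, h2⟩ := hb
    rw [← encV_ones, ← ap_enc] at h1
    obtain ⟨π, rfl⟩ := isPermMat_iff.1 (hfix w hw (encV_inj h1))
    rw [permMat_mem] at h2
    exact absurd h2 (by decide)
  have pm : ∀ i, i < 6 → ∃ p ∈ X, encM p = perm i := fun i hi => by
    obtain ⟨π, hπ⟩ := perm_exists i hi
    exact ⟨_, hperm _ (isPermMat_iff.2 ⟨π, rfl⟩), hπ⟩
  have hl : ∀ i, encV (fun k => g k i) < 27 := fun i => (encV_digits _).2.2.2
  have hrow := rows (hl 0)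
  simp only [rowOK, List.all_eq_true, List.mem_range] at hrow
  have hw := hrow _ (hl 1) _ (hl 2)
  change wit (encM g) _ _ = true at hw
  revert hw
  generalize Nat.land (Nat.shiftRight (wits.getD (encV fun i => g i 0) 0)
    (12 * (27 * (encV fun i => g i 1) + encV fun i => g i 2))) 4095 = e
  intro hw
  unfold wit at hw
  split_ifs at hw with h0 h1 h2 h3 h4 h5
  · simp only [Bool.and_eq_true, Nat.blt_eq, Nat.beq_eq] at hw
    exact absurd hw.2 (no_kernel (hdet g hg) hw.1.1 hw.1.2)
  · simp only [Bool.and_eq_true, Nat.blt_eq] at hw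
    refine ⟨((e / 8 : ℕ) : ZMod 3), ?_⟩
    rw [ZMod.val_natCast, Nat.mod_eq_of_lt hw.1]
    exact hw.2
  · simp only [Bool.and_eq_true, Nat.blt_eq, Nat.beq_eq, List.all_eq_true, Bool.not_eq_true'] at hw
    obtain ⟨⟨hv, hfx⟩, hne⟩ := hw
    obtain ⟨p, hp, hpe⟩ := pm _ hv
    rw [← hpe, ← encV_ones, ← ap_enc, ← ap_enc] at hfx
    have hu : IsUnit g := (Matrix.isUnit_iff_isUnit_det g).2 (isUnit_iff_ne_zero.2 (hdet g hg))
    obtain ⟨u, rfl⟩ := hu
    have hpow : ∀ n : ℕ, (u : M3) ^ n ∈ X := by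
      intro n
      induction n with
      | zero => rw [pow_zero]; exact hperm 1 one_isPermMat
      | succ n ih => rw [pow_succ]; exact hmul _ ih _ hg
    have hn : 0 < orderOf u := (isOfFinOrder_of_finite u).orderOf_pos
    have hinv : (u : M3) ^ (orderOf u - 1) * u = 1 := by
      rw [← pow_succ, Nat.sub_add_cancel hn, ← Units.val_pow_eq_pow_val, pow_orderOf_eq_one,
        Units.val_one]
    have hwX := hmul _ (hmul _ (hpow (orderOf u - 1)) _ hp) _ hg
    have hfix' := hfix _ hwX (by
      rw [← Matrix.mulVec_mulVec, ← Matrix.mulVec_mulVec, encV_inj hfx, Matrix.mulVec_mulVec,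
        hinv, Matrix.one_mulVec])
    obtain ⟨π, hπ⟩ := isPermMat_iff.1 hfix'
    have key : p * (u : M3) = u * permMat π := by
      rw [← hπ]
      have hinv' : (u : M3) * (u : M3) ^ (orderOf u - 1) = 1 := by
        rw [← pow_succ', Nat.sub_add_cancel hn, ← Units.val_pow_eq_pow_val, pow_orderOf_eq_one,
          Units.val_one]
      rw [← mul_assoc, ← mul_assoc, hinv', one_mul]
    have := hne _ (inList_iff.1 (permMat_mem π))
    rw [← hpe, ← encM_mul, ← encM_mul, key, beq_iff.2 rfl] at this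
    exact absurd this (by decide)
  · exact absurd hw (by rw [nobad g hg]; decide)
  · simp only [Bool.and_eq_true, Nat.blt_eq] at hw
    obtain ⟨p, hp, hpe⟩ := pm _ hw.1
    rw [← hpe, ← encM_mul, ← encM_mul, nobad _ (hmul _ (hmul _ hg _ hp) _ hg)] at hw
    exact absurd hw.2 (by decide)
  · simp only [Bool.and_eq_true, Nat.blt_eq] at hw
    obtain ⟨⟨h5a, h5b⟩, hb⟩ := hw
    obtain ⟨p, hp, hpe⟩ := pm _ h5a
    obtain ⟨q, hq, hqe⟩ := pm _ h5b
    rw [← hpe, ← hqe, ← encM_mul, ← encM_mul, ← encM_mul, ← encM_mul,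
      nobad _ (hmul _ (hmul _ (hmul _ (hmul _ hg _ hp) _ hg) _ hq) _ hg)] at hb
    exact absurd hb (by decide)
  · simp only [Bool.and_eq_true, Nat.blt_eq] at hw
    obtain ⟨⟨⟨h6a, h6b⟩, h6c⟩, hb⟩ := hw
    obtain ⟨p, hp, hpe⟩ := pm _ h6a
    obtain ⟨q, hq, hqe⟩ := pm _ h6b
    obtain ⟨r, hr, hre⟩ := pm _ h6c
    rw [← hpe, ← hqe, ← hre, ← encM_mul, ← encM_mul, ← encM_mul, ← encM_mul, ← encM_mul,
      ← encM_mul, nobad _ (hmul _ (hmul _ (hmul _ (hmul _ (hmul _ (hmul _ hg _ hp) _ hg) _ hq)
        _ hg) _ hr) _ hg)] at hb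
    exact absurd hb (by decide)

/-- a monomial invertible matrix is listed -/
theorem mono_listed {g : M3} (hg : g.det ≠ 0) (a : ZMod 3)
    (h : isMono a.val (encM g) = true) : encM g ∈ monos a.val := by
  have hl : ∀ i, encV (fun k => g k i) < 27 := fun i => (encV_digits _).2.2.2
  have h1 := List.all_eq_true.1 listed _ (List.mem_range.2 (hl 0))
  simp only [listedOK, List.all_eq_true, List.mem_range] at h1
  have h2 := h1 _ (hl 1) _ (hl 2) a.val (ZMod.val_lt a)
  change (!isMono a.val (encM g) || _) = true at h2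
  rw [h, Bool.not_true, Bool.false_or, Bool.or_eq_true, inList_iff, List.any_eq_true] at h2
  rcases h2 with h2 | ⟨v, hv, h2⟩
  · exact h2
  · simp only [Bool.and_eq_true, Nat.blt_eq, Nat.beq_eq] at h2
    exact absurd h2.2 (no_kernel hg h2.1 (List.mem_range.1 hv))

/-- The classification. -/
theorem classify : StmtClassify := by
  intro X hmul hperm hdet hfix
  suffices h : ∃ a : ZMod 3, ∀ g ∈ X, isMono a.val (encM g) = true by
    obtain ⟨a, ha⟩ := h
    exact ⟨a, fun g hg => isMono_of (hdet g hg) (ha g hg)⟩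
  by_cases h0 : ∀ g ∈ X, isMono (0 : ZMod 3).val (encM g) = true
  · exact ⟨0, h0⟩
  push_neg at h0
  obtain ⟨g, hg, hg0⟩ := h0
  obtain ⟨a, ha⟩ := mono_exists hmul hperm hdet hfix hg
  refine ⟨a, fun h hh => ?_⟩
  obtain ⟨b, hb⟩ := mono_exists hmul hperm hdet hfix hh
  by_contra hha
  have hab : a.val ≠ b.val := fun e => hha (e ▸ hb)
  have hp := pairs
  simp only [pairsOK, List.all_eq_true, List.mem_range, Bool.or_eq_true, Bool.and_eq_true,
    Nat.beq_eq, Bool.not_eq_true'] at hp
  obtain ⟨h1, h2⟩ := ((hp a.val (ZMod.val_lt a) b.val (ZMod.val_lt b)).resolve_left hab)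
    (encM g) (mono_listed (hdet g hg) a ha)
  have hgb : ¬ isMono b.val (encM g) = true := fun e => by
    rcases h1 with h1 | h1
    · rw [e] at h1; exact absurd h1 (by decide)
    · exact hg0 (h1 0 (by norm_num))
  rcases h2 with h2 | h2
  · exact hgb h2
  rcases h2 (encM h) (mono_listed (hdet h hh) b hb) with h3 | h3
  · exact hha h3
  obtain ⟨c, hc⟩ := mono_exists hmul hperm hdet hfix (hmul g hg h hh)
  rw [encM_mul, h3 c.val (ZMod.val_lt c)] at hc
  exact absurd hc (by decide)

end CfsgLib.SNineThree
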