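import Mathlib

/-!
The statement of the classification of the linear groups of the setup.
-/

set_option autoImplicit false

namespace CfsgLib.SNineThree

open Matrix

/-- Three by three matrices over the field of three elements. -/
abbrev M3 := Matrix (Fin 3) (Fin 3) (ZMod 3)

/-- The frame shifted by `a` times the all-one vector. -/
def frame (a : ZMod 3) (i : Fin 3) : Fin 3 → ZMod 3 := fun k => (if k = i then 1 else 0) + a

/-- The matrix is monomial in the shifted frame. -/
def IsMono (a : ZMod 3) (g : M3) : Prop :=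
  ∃ (π : Equiv.Perm (Fin 3)) (s : Fin 3 → ZMod 3),
    (∀ i, s i ≠ 0) ∧ ∀ i, g *ᵥ frame a i = s i • frame a (π i)

/-- The matrix permutes the coordinates. -/
def IsPermMat (g : M3) : Prop :=
  ∃ π : Equiv.Perm (Fin 3), ∀ i, g *ᵥ frame 0 i = frame 0 (π i)

/-- A multiplicatively closed set of invertible matrices containing the permutation matrices, in
which only these fix the all-one vector, is monomial in one shifted frame. -/
def StmtClassify : Prop := ∀ X : Set M3, (∀ a ∈ X, ∀ b ∈ X, a * b ∈ X) →
  (∀ g : M3, IsPermMat g → g ∈ X) → (∀ g ∈ X, g.det ≠ 0) →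
  (∀ g ∈ X, g *ᵥ (fun _ => 1) = (fun _ => 1) → IsPermMat g) →
  ∃ a : ZMod 3, ∀ g ∈ X, IsMono a g

end CfsgLib.SNineThree
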