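import Cfsg.Agent.Lib.SNineThree.EvenTable

/-!
Facts on the models without odd permutations of the blocks.
-/

set_option autoImplicit false
set_option maxRecDepth 100000
set_option synthInstance.maxSize 2000
set_option synthInstance.maxHeartbeats 200000

namespace CfsgLib.SNineThree.EvenAux

open Equiv Subgroup
open CfsgLib.ANineThree (P9 x p z z2 z3)
open CfsgLib.ANineThree.LocalAux (e9 Code mkB mkB_apply mkB_blocks jv)

/-- Every block-preserving permutation has a code. -/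
theorem exists_code {σ : P9} (h : σ ∈ B) : ∃ c, mkB c = σ := by
  obtain ⟨g, hg⟩ : ∃ g : Fin 3 → Fin 3 → Fin 3 × Fin 3,
      g = fun i j => e9.symm (σ (e9 (i, j))) := ⟨_, rfl⟩
  have hgσ : ∀ i j, e9 (g i j) = σ (e9 (i, j)) := fun i j => by
    rw [hg]; exact Equiv.apply_symm_apply _ _
  have key : ∀ u : Fin 3 × Fin 3, (e9 u : Fin 9).1 / 3 = u.1.1 := by decide +kernel
  have hblk : ∀ i j i' j', (g i j).1 = (g i' j').1 ↔ i = i' := fun i j i' j' => by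
    have := mem_B.1 h (e9 (i, j)) (e9 (i', j'))
    rw [← hgσ, ← hgσ, key, key, key, key, ← Fin.ext_iff, ← Fin.ext_iff] at this
    exact this
  have hπ : Function.Bijective fun i => (g i 0).1 :=
    (Finite.injective_iff_bijective).1 fun a b e => (hblk a 0 b 0).1 e
  have hf : ∀ i, Function.Bijective fun j => (g i j).2 := fun i =>
    (Finite.injective_iff_bijective).1 fun a b e => by
      have e' : g i a = g i b := Prod.ext ((hblk i a i b).2 rfl) e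
      have := congrArg e9 e'
      rw [hgσ, hgσ] at this
      exact congrArg Prod.snd (e9.injective (σ.injective this))
  refine ⟨(ofBijective _ hπ, ofBijective _ (hf 0), ofBijective _ (hf 1), ofBijective _ (hf 2)),
    Equiv.ext fun k => ?_⟩
  obtain ⟨⟨i, j⟩, rfl⟩ := e9.surjective k
  rw [mkB_apply, ← hgσ]
  refine congrArg _ (Prod.ext ((hblk i 0 i j).2 rfl) ?_)
  fin_cases i <;> rfl

theorem exists_shift : ∃ v, jv v * p = p * x * jv v ∧ jv v * x = x * jv v := by decide +kernel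

theorem xp_conj : ∀ i k : Fin 3, k ≠ 0 → ∃ v, jv v * p ^ k.1 = x ^ i.1 * p ^ k.1 * jv v := by
  decide +kernel

theorem exists_jv {σ : P9} (h : σ ∈ J0) : ∃ v, σ = jv v := by
  obtain ⟨c, rfl⟩ := exists_code (J0_le_B h)
  exact code_J0 c h

theorem cases_three : ∀ {g x : P9}, g ^ 3 = 1 → x ∈ zpowers g → x = 1 ∨ x = g ∨ x = g⁻¹ := by
  intro g x h3 hx
  obtain ⟨i, rfl⟩ := mem_zpowers_iff.1 hx
  have e : g ^ i = g ^ (i % 3) := by
    conv_lhs => rw [← Int.emod_add_mul_ediv i 3]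
    rw [zpow_add, zpow_mul, show g ^ (3 : ℤ) = g ^ (3 : ℕ) from zpow_natCast g 3, h3, one_zpow,
      mul_one]
  have h : i % 3 = 0 ∨ i % 3 = 1 ∨ i % 3 = 2 := by omega
  rw [e]
  rcases h with h | h | h <;> rw [h]
  · exact Or.inl (zpow_zero g)
  · exact Or.inr (Or.inl (zpow_one g))
  · refine Or.inr (Or.inr (eq_inv_of_mul_eq_one_left ?_))
    rw [show g ^ (2 : ℤ) = g ^ (2 : ℕ) from zpow_natCast g 2, ← pow_succ, h3]

/-- The three models. -/
def IsEven (S : Subgroup P9) : Prop := S = S1 ⊓ Bev ∨ S = S2 ⊓ Bev ∨ S = S4 ⊓ Bev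

/-- The block-fixing elements of the third model. -/
def Vgens : Set P9 :=
  {swap 0 1 * swap 1 2, swap 3 4 * swap 4 5, swap 6 7 * swap 7 8, swap 0 1 * swap 3 4,
    swap 0 1 * swap 6 7}

theorem Vgens_facts : (∀ v, jv v = (swap 0 1 * swap 1 2) ^ v.1.1 *
      (swap 3 4 * swap 4 5) ^ v.2.1.1 * (swap 6 7 * swap 7 8) ^ v.2.2.1) ∧
    ev 1 * ev 2 = ev 3 ∧ ∀ m, ev m * ev m = 1 := by decide +kernel

theorem jv_mem_closure (v : Fin 3 × Fin 3 × Fin 3) : jv v ∈ closure Vgens := by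
  rw [Vgens_facts.1]
  exact mul_mem (mul_mem (pow_mem (Subgroup.subset_closure (k := Vgens) (Or.inl rfl)) _)
    (pow_mem (Subgroup.subset_closure (k := Vgens) (Or.inr (Or.inl rfl))) _))
    (pow_mem (Subgroup.subset_closure (k := Vgens) (Or.inr (Or.inr (Or.inl rfl)))) _)

theorem ev_mem_closure (m : Fin 4) : ev m ∈ closure Vgens := by
  have h1 : ev 1 ∈ closure Vgens := Subgroup.subset_closure (k := Vgens) (Or.inr (Or.inr (Or.inr (Or.inl rfl))))
  have h2 : ev 2 ∈ closure Vgens := Subgroup.subset_closure (k := Vgens) (Or.inr (Or.inr (Or.inr (Or.inr rfl))))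
  fin_cases m
  · exact one_mem _
  · exact h1
  · exact h2
  · show ev 3 ∈ _
    rw [← Vgens_facts.2.1]; exact mul_mem h1 h2

/-- The generators, listed. -/
def vg (i : Fin 5) : P9 :=
  ![swap 0 1 * swap 1 2, swap 3 4 * swap 4 5, swap 6 7 * swap 7 8, swap 0 1 * swap 3 4,
    swap 0 1 * swap 6 7] i

theorem Vgens_sub : ∀ i, vg i ∈ S4 ∧ vg i ∈ Bev ∧ cv (vg i) = 1 := by decide +kernel

namespace IsEven

variable {S : Subgroup P9} (hS : IsEven S)
include hS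

theorem le_Bev : S ≤ Bev := by
  rcases hS with rfl | rfl | rfl <;> exact inf_le_right

theorem le_B : S ≤ B := hS.le_Bev.trans fun _ h => (mem_Bev.1 h).1

theorem bpar_eq {σ : P9} (h : σ ∈ S) : bpar σ = 1 := (mem_Bev.1 (hS.le_Bev h)).2

theorem mem_of_x {σ : P9} (h : σ ∈ Bev) (hx : σ * x = x * σ) (h4 : σ ∈ S4) : σ ∈ S := by
  rcases hS with rfl | rfl | rfl
  · exact ⟨⟨(mem_Bev.1 h).1, hx⟩, h⟩
  · refine ⟨⟨(mem_Bev.1 h).1, centralizer_le_normalizer _ (mem_centralizer_iff.2 ?_)⟩, h⟩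
    intro g hg
    obtain ⟨i, rfl⟩ := mem_zpowers_iff.1 hg
    exact ((show Commute σ x from hx).zpow_right i).eq.symm
  · exact ⟨h4, h⟩

theorem jv_mem (v : Fin 3 × Fin 3 × Fin 3) : jv v ∈ S :=
  hS.mem_of_x (gens_facts.2.2.2.2.1 v).1 (gens_facts.2.2.2.2.1 v).2.2.1 (gens_facts.2.2.2.2.1 v).2.1

theorem p_mem : p ∈ S :=
  hS.mem_of_x gens_facts.2.2.1.1 gens_facts.2.2.1.2.2 gens_facts.2.2.1.2.1

theorem cv_mul {a : P9} (ha : a ∈ S) (b : P9) : cv (a * b) = cv a * cv b :=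
  EvenAux.cv_mul (hS.le_Bev ha)

theorem not_invert {σ : P9} (h : σ ∈ S) : σ * p ≠ p ^ 2 * σ := by
  obtain ⟨c, rfl⟩ := exists_code (hS.le_B h)
  exact (code_cent c (hS.bpar_eq h)).1

theorem cent_x_pow {σ : P9} (h : σ ∈ S) (hx : σ * x = x * σ) :
    σ ^ 9 = 1 ∧ (σ * p = p * σ → ∃ i k : Fin 3, σ = x ^ i.1 * p ^ k.1) := by
  obtain ⟨c, rfl⟩ := exists_code (hS.le_B h)
  exact (code_cent c (hS.bpar_eq h)).2.1 hx

theorem sq_mem {σ : P9} (h : σ ∈ S) (hc : cv σ = 1) : σ * σ ∈ J0 := by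
  obtain ⟨c, rfl⟩ := exists_code (hS.le_B h)
  exact (code_fix c (hS.bpar_eq h) hc).1

theorem outside {σ : P9} (h : σ ∈ S) (hc : cv σ ≠ 1) (h3 : σ ^ 3 = 1) :
    ∃ w ∈ S, σ * w = w * p ∨ σ * w = w * p ^ 2 := by
  obtain ⟨c, rfl⟩ := exists_code (hS.le_B h)
  have hb := hS.bpar_eq h
  have hxcase : mkB c * x = x * mkB c → ∃ w ∈ S, mkB c * w = w * p ∨ mkB c * w = w * p ^ 2 := by
    intro hx
    obtain ⟨v, hv⟩ := code_outside_x c hb hc h3 hx
    exact ⟨jv v, hS.jv_mem v, hv⟩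
  rcases id hS with rfl | rfl | rfl
  · exact hxcase h.1.2
  · have hn := (mem_normalizer_iff.1 h.1.2 x).1 (mem_zpowers x)
    rcases cases_three gens_facts.2.2.2.2.2.2.1 hn with e | e | e
    · rw [conj_eq_one_iff] at e
      exact absurd e gens_facts.2.2.2.2.2.1
    · exact hxcase (mul_inv_eq_iff_eq_mul.1 e)
    · exact absurd h3 ((code_cent c hb).2.2 hc (mul_inv_eq_iff_eq_mul.1 e))
  · obtain ⟨m, v, hv⟩ := code_outside_ev c hb hc h3 ((mem_S4.1 h.1).2.trans hb)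
    exact ⟨ev m * jv v, mul_mem ⟨(gens_facts.1 m).2.1, (gens_facts.1 m).1⟩ (hS.jv_mem v), hv⟩

end IsEven

theorem fix_one {σ : P9} (h : σ ∈ S1 ⊓ Bev) (hc : cv σ = 1) : σ ∈ J0 := by
  obtain ⟨c, rfl⟩ := exists_code (mem_Bev.1 h.2).1
  exact (code_fix c (mem_Bev.1 h.2).2 hc).2.1 h.1.2

theorem fix_two {σ : P9} (h : σ ∈ S2 ⊓ Bev) (hc : cv σ = 1) : σ ∈ J0 ∨ iota * σ ∈ J0 := by
  obtain ⟨c, rfl⟩ := exists_code (mem_Bev.1 h.2).1
  have hn := (mem_normalizer_iff.1 h.1.2 x).1 (mem_zpowers x)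
  rcases cases_three gens_facts.2.2.2.2.2.2.1 hn with e | e | e
  · rw [conj_eq_one_iff] at e
    exact absurd e gens_facts.2.2.2.2.2.1
  · exact Or.inl ((code_fix c (mem_Bev.1 h.2).2 hc).2.1 (mul_inv_eq_iff_eq_mul.1 e))
  · exact Or.inr ((code_fix c (mem_Bev.1 h.2).2 hc).2.2.1 (mul_inv_eq_iff_eq_mul.1 e))

theorem iota_mem : iota ∈ S2 ⊓ Bev := by
  obtain ⟨hb, he, hii, -, -⟩ := gens_facts.2.2.2.1
  refine ⟨⟨(mem_Bev.1 hb).1, mem_normalizer_iff.2 fun g => ?_⟩, hb⟩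
  have hconj : iota * x * iota⁻¹ = x⁻¹ := by rw [he, mul_inv_cancel_right]
  have key : ∀ g ∈ zpowers x, iota * g * iota⁻¹ ∈ zpowers x := by
    intro g hg
    obtain ⟨i, rfl⟩ := mem_zpowers_iff.1 hg
    rw [← conj_zpow, hconj]
    exact zpow_mem (inv_mem (mem_zpowers x)) i
  refine ⟨key g, fun hg => ?_⟩
  have h2 := key _ hg
  rwa [show iota * (iota * g * iota⁻¹) * iota⁻¹ = (iota * iota) * g * (iota * iota)⁻¹ by group,
    hii, one_mul, inv_one, mul_one] at h2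

theorem fix_four {σ : P9} : σ ∈ closure Vgens ↔ σ ∈ S4 ⊓ Bev ∧ cv σ = 1 := by
  constructor
  · intro h
    induction h using closure_induction with
    | mem g hg =>
      have key : ∃ i, vg i = g := by
        rcases hg with rfl | rfl | rfl | rfl | rfl
        exacts [⟨0, rfl⟩, ⟨1, rfl⟩, ⟨2, rfl⟩, ⟨3, rfl⟩, ⟨4, rfl⟩]
      obtain ⟨i, rfl⟩ := key
      exact ⟨⟨(Vgens_sub i).1, (Vgens_sub i).2.1⟩, (Vgens_sub i).2.2⟩
    | one => exact ⟨one_mem _, cv_vals.1⟩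
    | mul a b _ _ ha hb => exact ⟨mul_mem ha.1 hb.1, by rw [cv_mul ha.1.2, ha.2, hb.2, one_mul]⟩
    | inv a _ ha => exact ⟨inv_mem ha.1, by
        have := cv_mul (b := a⁻¹) ha.1.2
        rwa [mul_inv_cancel, cv_vals.1, ha.2, one_mul, eq_comm] at this⟩
  · rintro ⟨⟨h4, hb⟩, hc⟩
    obtain ⟨c, rfl⟩ := exists_code (mem_Bev.1 hb).1
    obtain ⟨m, hm⟩ := (code_fix c (mem_Bev.1 hb).2 hc).2.2.2
      ((mem_S4.1 h4).2.trans (mem_Bev.1 hb).2)
    obtain ⟨v, hv⟩ := exists_jv hm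
    rw [show mkB c = ev m * jv v by rw [← hv, ← mul_assoc, Vgens_facts.2.2 m, one_mul]]
    exact mul_mem (ev_mem_closure m) (jv_mem_closure v)

end CfsgLib.SNineThree.EvenAux
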