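import Mathlib

/-!
The transfer value of an element as a product over its fixed cosets.
-/

set_option autoImplicit false
set_option linter.unusedSectionVars false

namespace CfsgLib.SNineThree.EvenAux

open Subgroup MulAction

universe u

variable {G : Type u} [Group G] [Finite G] {H : Subgroup G} {A : Type*} [CommGroup A]

/-- The term of a fixed coset. -/
noncomputable def fterm (φ : H →* A) (P : G) (q : G ⧸ H) : A :=
  open scoped Classical in if h : q.out⁻¹ * P * q.out ∈ H then φ ⟨_, h⟩ else 1

theorem mem_iff_fixed {P : G} {q : G ⧸ H} : q.out⁻¹ * P * q.out ∈ H ↔ P • q = q := by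
  conv_rhs => rw [← QuotientGroup.out_eq' q]
  rw [MulAction.Quotient.smul_mk, QuotientGroup.eq, smul_eq_mul, mul_inv_rev]
  constructor <;> intro h <;> simpa [mul_assoc] using H.inv_mem h

theorem fterm_eq (φ : H →* A) {P : G} {q : G ⧸ H} (g : G) (hg : (g : G ⧸ H) = q)
    (h : g⁻¹ * P * g ∈ H) : fterm φ P q = φ ⟨_, h⟩ := by
  classical
  obtain ⟨k, hk⟩ : ∃ k : H, q.out = g * k := by
    subst hg
    exact QuotientGroup.mk_out_eq_mul H g
  have h' : q.out⁻¹ * P * q.out ∈ H := by
    rw [hk, mul_inv_rev, show (k : G)⁻¹ * g⁻¹ * P * (g * k) = (k : G)⁻¹ * (g⁻¹ * P * g) * k by group]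
    exact mul_mem (mul_mem (inv_mem k.2) h) k.2
  rw [fterm, dif_pos h',
    show (⟨_, h'⟩ : H) = k⁻¹ * ⟨_, h⟩ * k from Subtype.ext (by
      simp only [hk, coe_mul, coe_inv]; group),
    map_mul, map_mul, map_inv, mul_comm, mul_inv_cancel_left]

theorem fterm_of_not_fixed (φ : H →* A) {P : G} {q : G ⧸ H} (h : P • q ≠ q) :
    fterm φ P q = 1 := by
  classical exact dif_neg (fun h' => h (mem_iff_fixed.1 h'))

/-- A product over an invariant function of period three is supported on the fixed points. -/
theorem prod_eq_single {X : Type*} [Fintype X] [DecidableEq X] (σ : Equiv.Perm X)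
    (hσ : σ ^ 3 = 1) (f : X → A) (hf : ∀ x, f (σ x) = f x) (hA : ∀ a : A, a ^ 3 = 1) (b : X)
    (hfix : ∀ x, σ x = x → f x ≠ 1 → x = b) (hb : σ b = b) : ∏ x, f x = f b := by
  classical
  set T : Finset X := Finset.univ.filter fun x => σ x ≠ x with hT
  have h1 : ∏ x ∈ T, f x = 1 := by
    rw [Finset.prod_partition (Equiv.Perm.SameCycle.setoid σ)]
    refine Finset.prod_eq_one fun q hq => ?_
    obtain ⟨x, hx, rfl⟩ := Finset.mem_image.1 hq
    have hx' : σ x ≠ x := (Finset.mem_filter.1 hx).2
    have h3 : σ (σ (σ x)) = x := by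
      have := congrArg (fun e : Equiv.Perm X => e x) hσ
      simpa [pow_succ] using this
    have hxx : σ (σ x) ≠ x := fun e => hx' (by
      have := congrArg σ e
      rw [h3] at this
      exact this.symm)
    have hset : (T.filter fun y => Quotient.mk (Equiv.Perm.SameCycle.setoid σ) y =
        Quotient.mk (Equiv.Perm.SameCycle.setoid σ) x) = {x, σ x, σ (σ x)} := by
      ext y
      simp only [Finset.mem_filter, Finset.mem_insert, Finset.mem_singleton, Quotient.eq]
      constructor
      · rintro ⟨-, h⟩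
        obtain ⟨i, hi⟩ := Equiv.Perm.SameCycle.symm h
        have e : σ ^ i = σ ^ (i % 3) := by
          conv_lhs => rw [← Int.emod_add_mul_ediv i 3]
          rw [zpow_add, zpow_mul, show σ ^ (3 : ℤ) = σ ^ (3 : ℕ) from zpow_natCast σ 3, hσ,
            one_zpow, mul_one]
        rw [← hi, e]
        rcases (by omega : i % 3 = 0 ∨ i % 3 = 1 ∨ i % 3 = 2) with h | h | h <;> rw [h]
        · simp
        · simp
        · right; right
          rw [show σ ^ (2 : ℤ) = σ ^ (2 : ℕ) from zpow_natCast σ 2, pow_two]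
          rfl
      · rintro (rfl | rfl | rfl)
        · exact ⟨hx, Equiv.Perm.SameCycle.refl _ _⟩
        · exact ⟨Finset.mem_filter.2 ⟨Finset.mem_univ _, fun e => hx' (σ.injective e)⟩,
            (show Equiv.Perm.SameCycle σ (σ x) x from
              Equiv.Perm.sameCycle_apply_left.2 (Equiv.Perm.SameCycle.refl _ _))⟩
        · exact ⟨Finset.mem_filter.2 ⟨Finset.mem_univ _, fun e =>
              hx' (σ.injective (σ.injective e))⟩,
            (show Equiv.Perm.SameCycle σ (σ (σ x)) x from Equiv.Perm.sameCycle_apply_left.2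
              (Equiv.Perm.sameCycle_apply_left.2 (Equiv.Perm.SameCycle.refl _ _)))⟩
    rw [hset, Finset.prod_insert, Finset.prod_pair]
    · rw [hf, hf, hf, show f x * (f x * f x) = f x ^ 3 by rw [pow_succ, sq, mul_assoc], hA]
    · exact fun e => hx' (σ.injective e.symm)
    · simp only [Finset.mem_insert, Finset.mem_singleton, not_or]
      exact ⟨fun e => hx' e.symm, fun e => hxx e.symm⟩
  rw [← Finset.prod_filter_mul_prod_filter_not Finset.univ (fun x => σ x ≠ x) f, ← hT, h1, one_mul]
  refine Finset.prod_eq_single b (fun x hx hxb => ?_) fun h => absurd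
    (Finset.mem_filter.2 ⟨Finset.mem_univ b, not_not.2 hb⟩) h
  by_contra h
  exact hxb (hfix x (not_not.1 (Finset.mem_filter.1 hx).2) h)

/-- The transfer of an element of order three is the product over the cosets. -/
theorem transfer_eq_prod (φ : H →* A) {P : G} (hP : P ^ 3 = 1) [Fintype (G ⧸ H)] :
    MonoidHom.transfer φ P = ∏ q : G ⧸ H, fterm φ P q := by
  classical
  letI := Fintype.ofFinite (Quotient (orbitRel (zpowers P) (G ⧸ H)))
  rw [MonoidHom.transfer_eq_prod_quotient_orbitRel_zpowers_quot]
  have hper : ∀ q : G ⧸ H, Function.minimalPeriod (P • ·) q = 1 ∨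
      Function.minimalPeriod (P • ·) q = 3 := fun q => by
    have h : Function.IsPeriodicPt (P • ·) 3 q := by
      show (P • ·)^[3] q = q
      rw [smul_iterate]
      show P ^ 3 • q = q
      rw [hP, one_smul]
    exact (Nat.dvd_prime Nat.prime_three).1 h.minimalPeriod_dvd
  have hfix : ∀ {q : G ⧸ H}, Function.minimalPeriod (P • ·) q = 1 ↔ P • q = q :=
    Function.minimalPeriod_eq_one_iff_isFixedPt
  have hinj : ∀ q ∈ (Finset.univ : Finset (Quotient (orbitRel (zpowers P) (G ⧸ H)))),
      ∀ q' ∈ (Finset.univ : Finset (Quotient (orbitRel (zpowers P) (G ⧸ H)))),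
      q.out = q'.out → q = q' := fun q _ q' _ e => by rw [← q.out_eq, e, q'.out_eq]
  rw [← Finset.prod_subset (Finset.subset_univ (Finset.univ.image
    fun q : Quotient (orbitRel (zpowers P) (G ⧸ H)) => q.out)), Finset.prod_image hinj]
  · refine Finset.prod_congr rfl fun q _ => ?_
    have hm := QuotientGroup.out_conj_pow_minimalPeriod_mem H P q.out
    rcases hper q.out with e | e
    · have h1 : q.out.out⁻¹ * P * q.out.out ∈ H := by rwa [e, pow_one] at hm
      rw [fterm_eq φ q.out.out q.out.out_eq h1]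
      exact congrArg φ (Subtype.ext (by simp [e]))
    · rw [fterm_of_not_fixed φ fun hf => by rw [hfix.2 hf] at e; omega]
      rw [← map_one φ]
      exact congrArg φ (Subtype.ext (by simp [e, hP]))
  · intro y _ hy
    refine fterm_of_not_fixed φ fun hf => hy (Finset.mem_image.2
      ⟨Quotient.mk'' y, Finset.mem_univ _, ?_⟩)
    have hrel : orbitRel (zpowers P) (G ⧸ H) (Quotient.mk'' y : Quotient (orbitRel _ _)).out y :=
      Quotient.exact (Quotient.out_eq _)
    rw [orbitRel_apply, mem_orbit_iff] at hrel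
    obtain ⟨⟨g, hg⟩, he⟩ := hrel
    obtain ⟨i, rfl⟩ := mem_zpowers_iff.1 hg
    rw [← he]
    show P ^ i • y = y
    exact MulAction.mem_stabilizer_iff.1
      ((stabilizer G y).zpow_mem (MulAction.mem_stabilizer_iff.2 hf) i)

end CfsgLib.SNineThree.EvenAux
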