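import Cfsg.Agent.Lib.SNineThree.Interface
import Cfsg.Agent.Lib.SNineThree.EvenModel
import Cfsg.Agent.Lib.SNineThree.EvenTransfer
import Cfsg.Agent.Lib.ANineThree.LocalThree
import Cfsg.Agent.Lib.OddOrder.PLengthOne
import Cfsg.Agent.S3347
import Cfsg.Agent.S3701

/-!
The models without odd permutations of the blocks.
-/

set_option autoImplicit false
set_option linter.unusedSectionVars false
set_option linter.style.haveILetI false

namespace CfsgLib.SNineThree

open Subgroup EvenAux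
open CfsgLib.ANineThree (P9 x p)
open CfsgLib.ANineThree.LocalAux (jv)

universe u

namespace EvenAux

variable {S : Subgroup P9} {G : Type u} [Group G] [Finite G] {L : Loc S G}

theorem conj_of_sconj {a b : P9} (ha : a ∈ S) (h : SConj S a b) : IsConj (L.el a) (L.el b) := by
  obtain ⟨s, hs, rfl⟩ := h
  exact isConj_iff.2 ⟨L.el s, (L.el_conj hs ha).symm⟩

theorem isConj_sq {a b : G} (h : IsConj a b) : IsConj (a ^ 2) (b ^ 2) := by
  obtain ⟨c, rfl⟩ := isConj_iff.1 h
  exact isConj_iff.2 ⟨c, (conj_pow : (c * a * c⁻¹) ^ 2 = c * a ^ 2 * c⁻¹).symm⟩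

variable (hS : IsEven S) (F : Facts L)
include hS

theorem el_p_cube : L.el p ^ 3 = 1 := by
  rw [← L.el_pow hS.p_mem, gens_facts.2.2.2.2.2.2.2.1, L.el_one]

theorem el_x_cube : L.el x ^ 3 = 1 := by
  rw [← L.el_pow L.x_mem, gens_facts.2.2.2.2.2.2.1, L.el_one]

theorem cent_x_mem {g : G} (hg : g ∈ centralizer ({L.el x} : Set G)) :
    ∃ σ ∈ S, σ * x = x * σ ∧ L.el σ = g := by
  obtain ⟨σ, hσ, rfl⟩ := L.mem_range.1 (L.cent_el_x hg)
  exact ⟨σ, hσ, (L.commute_el hσ L.x_mem).1 (mem_centralizer_singleton_iff.1 hg), rfl⟩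

theorem isPGroup_cent_x : IsPGroup 3 (centralizer ({L.el x} : Set G)) := fun g => by
  obtain ⟨σ, hσ, hx, e⟩ := cent_x_mem hS g.2
  refine ⟨2, Subtype.ext ?_⟩
  show (g : G) ^ 9 = 1
  rw [← e, ← L.el_pow hσ, (hS.cent_x_pow hσ hx).1, L.el_one]

theorem J_le_cent_x : L.J ≤ centralizer ({L.el x} : Set G) := by
  intro g hg
  obtain ⟨σ, hσ, rfl⟩ := L.mem_J.1 hg
  exact mem_centralizer_singleton_iff.2
    ((L.commute_el (L.J0_le hσ) L.x_mem).2 (mem_J0.1 hσ).1)

theorem J_comm {a b : G} (ha : a ∈ L.J) (hb : b ∈ L.J) : a * b = b * a := by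
  obtain ⟨σ, hσ, rfl⟩ := L.mem_J.1 ha
  obtain ⟨ρ, hρ, rfl⟩ := L.mem_J.1 hb
  obtain ⟨v, rfl⟩ := exists_jv hσ
  obtain ⟨w, rfl⟩ := exists_jv hρ
  refine (L.commute_el (hS.jv_mem v) (hS.jv_mem w)).2 ?_
  have key : ∀ v w : Fin 3 × Fin 3 × Fin 3, jv v * jv w = jv w * jv v := by
    intro v w
    have hz : Commute ANineThree.z ANineThree.z2 ∧ Commute ANineThree.z ANineThree.z3 ∧
        Commute ANineThree.z2 ANineThree.z3 := by
      refine ⟨?_, ?_, ?_⟩ <;> (show _ * _ = _ * _) <;> decide +kernel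
    obtain ⟨h1, h2, h3⟩ := hz
    refine ((Commute.mul_left ?_ ?_).mul_left ?_).eq <;>
      refine (Commute.mul_right ?_ ?_).mul_right ?_ <;>
      refine Commute.pow_pow ?_ _ _ <;>
      first | exact Commute.refl _ | assumption | (apply Commute.symm; assumption)
  exact key v w

theorem isPGroup_J : IsPGroup 3 L.J := (isPGroup_cent_x hS).to_le (J_le_cent_x hS)

theorem J_cube {a : G} (ha : a ∈ L.J) : a ^ 3 = 1 := by
  obtain ⟨σ, hσ, rfl⟩ := L.mem_J.1 ha
  obtain ⟨v, rfl⟩ := exists_jv hσ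
  rw [← L.el_pow (hS.jv_mem v), (gens_facts.2.2.2.2.1 v).2.2.2.2.1, L.el_one]

theorem range_of_conj {n : G} (h : L.J.map (MulAut.conj n).toMonoidHom = L.J) : n ∈ L.e.range := by
  rw [L.range_normalizer, mem_normalizer_iff]
  intro j
  constructor
  · intro hj
    rw [← h]
    exact ⟨j, hj, rfl⟩
  · intro hj
    rw [← h] at hj
    obtain ⟨i, hi, e⟩ := hj
    exact (MulAut.conj n).injective e ▸ hi

/-- The two subgroups of transvections of `⟨x, p⟩` give an element inverting both. -/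
theorem swap_invert {X P u s : G} (hXP : Commute X P) (hX : X ^ 3 = 1) (hP : P ^ 3 = 1)
    (hu : u * X * u⁻¹ = X) (hu' : u * P * u⁻¹ = P * X) (hs : s * P * s⁻¹ = P)
    (hs' : s * X * s⁻¹ = X * P ^ 2) :
    ∃ n, n * X * n⁻¹ = X ^ 2 ∧ n * P * n⁻¹ = P ^ 2 := by
  obtain ⟨w, hw⟩ : ∃ w, w = u * s * u := ⟨_, rfl⟩
  have hmul : ∀ g a b : G, g * (a * b) * g⁻¹ = g * a * g⁻¹ * (g * b * g⁻¹) := fun g a b => by group
  have hwc : ∀ a, w * a * w⁻¹ = u * (s * (u * a * u⁻¹) * s⁻¹) * u⁻¹ := fun a => by rw [hw]; group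
  have hP4 : P * P * P = 1 := by rw [← hP, pow_succ, pow_succ, pow_one]
  have wP : w * P * w⁻¹ = X := by
    rw [hwc, hu', hmul s P X, hs, hs']
    rw [show P * (X * P ^ 2) = X * (P * P * P) by
      rw [pow_two, ← mul_assoc, ← hXP.eq]; group]
    rw [hP4, mul_one, hu]
  have wX : w * X * w⁻¹ = P ^ 2 := by
    rw [hwc, hu, hs', hmul u X (P ^ 2), hu, ← conj_pow, hu', hXP.symm.mul_pow]
    rw [← mul_assoc, (hXP.pow_right 2).eq, mul_assoc, ← pow_succ', hX, mul_one]
  refine ⟨w * w, ?_, ?_⟩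
  · rw [show w * w * X * (w * w)⁻¹ = w * (w * X * w⁻¹) * w⁻¹ by group, wX, ← conj_pow, wP]
  · rw [show w * w * P * (w * w)⁻¹ = w * (w * P * w⁻¹) * w⁻¹ by group, wP, wX]

theorem exists_transvection {T' : Subgroup G} (hT' : IsPGroup 3 T')
    (hcard : Nat.card T' = Nat.card (centralizer ({L.el x} : Set G)))
    (hTP : T' = centralizer ({L.el p} : Set G)) :
    ∃ s : G, s * L.el p * s⁻¹ = L.el p ∧ s * L.el x * s⁻¹ = L.el x * L.el p ^ 2 := by
  haveI : Fact (Nat.Prime 3) := ⟨Nat.prime_three⟩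
  set T := centralizer ({L.el x} : Set G)
  set X := L.el x with hXd
  set P := L.el p with hPd
  have hX3 : X ^ 3 = 1 := el_x_cube hS
  have hP3 : P ^ 3 = 1 := el_p_cube hS
  have hXP : Commute X P := (L.commute_el L.x_mem hS.p_mem).2 gens_facts.2.2.1.2.2.symm
  have hA : ∀ g ∈ T ⊓ T', ∃ i k : Fin 3, g = X ^ i.1 * P ^ k.1 := by
    rintro g ⟨hg1, hg2⟩
    obtain ⟨σ, hσ, hx, rfl⟩ := cent_x_mem hS hg1
    rw [hTP] at hg2
    obtain ⟨i, k, rfl⟩ := (hS.cent_x_pow hσ hx).2
      ((L.commute_el hσ hS.p_mem).1 (mem_centralizer_singleton_iff.1 hg2))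
    exact ⟨i, k, by rw [L.el_mul (S.pow_mem L.x_mem _) (S.pow_mem hS.p_mem _),
      L.el_pow L.x_mem, L.el_pow hS.p_mem]⟩
  have hXA : X ∈ T ⊓ T' := ⟨mem_centralizer_singleton_iff.2 rfl,
    hTP ▸ mem_centralizer_singleton_iff.2 hXP.eq⟩
  have hne : ¬ T' ≤ T := fun h => by
    have e : T' = T := eq_of_le_of_card_ge h hcard.ge
    obtain ⟨-, -, -, -, -, -, -, -, hzp, hzx, hz, -⟩ := gens_facts
    have hzT : L.el ANineThree.z ∈ T :=
      mem_centralizer_singleton_iff.2 ((L.commute_el (L.J0_le hz) L.x_mem).2 hzx)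
    rw [← e, hTP] at hzT
    exact hzp ((L.commute_el (L.J0_le hz) hS.p_mem).1 (mem_centralizer_singleton_iff.1 hzT))
  haveI := hT'.isNilpotent
  have hlt : (T ⊓ T').subgroupOf T' < ⊤ :=
    lt_top_iff_ne_top.2 fun e => hne ((subgroupOf_eq_top.1 e).trans inf_le_left)
  obtain ⟨⟨q, hqT'⟩, hqn, hqA⟩ :=
    SetLike.exists_of_lt (Group.normalizerCondition_of_isNilpotent _ hlt)
  have hqT : q ∉ T := fun h => hqA (mem_subgroupOf.2 ⟨h, hqT'⟩)
  have hqP : Commute q P := mem_centralizer_singleton_iff.1 (hTP ▸ hqT')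
  obtain ⟨m, hm⟩ := hT' ⟨q, hqT'⟩
  have hm' : q ^ 3 ^ m = 1 := congrArg Subtype.val hm
  have hnotsq : ¬ Commute (q * q) X := fun h => hqT (mem_centralizer_singleton_iff.2 (by
    have hodd : Odd (3 ^ m) := (by decide : Odd 3).pow
    obtain ⟨a, ha⟩ := hodd
    have e : q = (q * q) ^ (a + 1) := by
      rw [← pow_two, ← pow_mul, show 2 * (a + 1) = 3 ^ m + 1 by omega, pow_succ, hm', one_mul]
    rw [e]
    exact (h.pow_left _).eq))
  obtain ⟨i, k, hik⟩ : ∃ i k : Fin 3, q * X * q⁻¹ = X ^ i.1 * P ^ k.1 := by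
    refine hA _ ?_
    have := (mem_normalizer_iff.1 hqn ⟨X, hXA.2⟩).1 (mem_subgroupOf.2 hXA)
    exact mem_subgroupOf.1 this
  have hPq : q * P * q⁻¹ = P := by rw [hqP.eq, mul_inv_cancel_right]
  have hXPk : ∀ k : ℕ, X ≠ P ^ k := fun k e => by
    obtain ⟨-, -, -, -, -, -, -, -, hzp, hzx, hz, -⟩ := gens_facts
    have hd : k % 3 = 0 ∨ k % 3 = 1 ∨ k % 3 = 2 := by omega
    rw [pow_eq_pow_mod k hP3] at e
    rcases hd with h | h | h <;> rw [h] at e
    · exact gens_facts.2.2.2.2.2.1 (L.el_inj L.x_mem S.one_mem (by rw [L.el_one]; simpa using e))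
    · rw [pow_one] at e
      exact hzp (L.el_inj L.x_mem hS.p_mem e ▸ hzx)
    · have hP2 : P = X ^ 2 := by
        rw [e, ← pow_mul, show 2 * 2 = 3 + 1 from rfl, pow_succ, hP3, one_mul]
      rw [hXd, hPd, ← L.el_pow L.x_mem] at hP2
      have := L.el_inj hS.p_mem (S.pow_mem L.x_mem 2) hP2
      exact hzp (this ▸ ((show Commute ANineThree.z x from hzx).pow_right 2).eq)
  have h2 : q * q * X * (q * q)⁻¹ = (X ^ i.1 * P ^ k.1) ^ i.1 * P ^ k.1 := by
    rw [show q * q * X * (q * q)⁻¹ = q * (q * X * q⁻¹) * q⁻¹ by group, hik,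
      show q * (X ^ i.1 * P ^ k.1) * q⁻¹ = q * X ^ i.1 * q⁻¹ * (q * P ^ k.1 * q⁻¹) by group,
      ← conj_pow, ← conj_pow, hPq, hik]
  have hi : i = 1 := by
    fin_cases i
    · exfalso
      simp only [pow_zero, one_mul] at hik
      refine hXPk k.1 ?_
      calc X = q⁻¹ * (q * X * q⁻¹) * q := by group
        _ = q⁻¹ * P ^ k.1 * q := by rw [hik]
        _ = P ^ k.1 := by rw [mul_assoc, ← (hqP.pow_right k.1).eq, inv_mul_cancel_left]
    · rfl
    · exfalso
      refine hnotsq (mul_inv_eq_iff_eq_mul.1 (h2.trans ?_))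
      simp only
      rw [(hXP.pow_pow 2 k.1).mul_pow, ← pow_mul, ← pow_mul, mul_assoc, ← pow_add,
        show (2 * 2 : ℕ) = 3 + 1 from rfl, pow_succ, hX3, one_mul,
        show k.1 * 2 + k.1 = 3 * k.1 by omega, pow_mul, hP3, one_pow, mul_one]
  subst hi
  simp only [Fin.val_one, pow_one] at hik h2
  fin_cases k
  · exfalso
    simp only [pow_zero, mul_one] at hik
    exact hqT (mem_centralizer_singleton_iff.2 (mul_inv_eq_iff_eq_mul.1 hik))
  · refine ⟨q * q, ?_, ?_⟩
    · rw [show q * q * P * (q * q)⁻¹ = q * (q * P * q⁻¹) * q⁻¹ by group, hPq, hPq]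
    · rw [h2]
      simp [pow_two, mul_assoc]
  · exact ⟨q, hPq, by simpa using hik⟩

include F

/-- `p` is not conjugate to `x` or its inverse. -/
theorem not_conj : ¬ IsConj (L.el p) (L.el x) ∧ ¬ IsConj (L.el p) (L.el x)⁻¹ := by
  have main : ∀ g : G, (g * L.el x * g⁻¹ = L.el p ∨ g * (L.el x)⁻¹ * g⁻¹ = L.el p) → False := by
    intro g hg
    set T := centralizer ({L.el x} : Set G) with hT
    have hTP : T.map (MulAut.conj g).toMonoidHom = centralizer ({L.el p} : Set G) := by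
      ext h
      rw [mem_centralizer_singleton_iff]
      constructor
      · rintro ⟨t, ht, rfl⟩
        have hc : Commute t (L.el x) := mem_centralizer_singleton_iff.1 ht
        show Commute (g * t * g⁻¹) (L.el p)
        rcases hg with e | e <;> rw [← e]
        · exact hc.map (MulAut.conj g).toMonoidHom
        · exact hc.inv_right.map (MulAut.conj g).toMonoidHom
      · intro hh
        have hh' : Commute h (L.el p) := hh
        refine ⟨g⁻¹ * h * g, ?_, by show g * (g⁻¹ * h * g) * g⁻¹ = h; group⟩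
        refine mem_centralizer_singleton_iff.2 ?_
        have h1 : Commute (g⁻¹ * h * g) (g⁻¹ * L.el p * g) := by
          simpa using hh'.map (MulAut.conj g⁻¹).toMonoidHom
        rcases hg with e | e <;> rw [← e] at h1
        · rwa [show g⁻¹ * (g * L.el x * g⁻¹) * g = L.el x by group] at h1
        · rw [show g⁻¹ * (g * (L.el x)⁻¹ * g⁻¹) * g = (L.el x)⁻¹ by group] at h1
          exact (show Commute (g⁻¹ * h * g) (L.el x) by simpa using h1.inv_right).eq
    obtain ⟨s, hs1, hs2⟩ := exists_transvection hS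
      (T' := T.map (MulAut.conj g).toMonoidHom) ((isPGroup_cent_x hS).map _)
      (by rw [card_map_of_injective (MulEquiv.injective _)]) hTP
    obtain ⟨v, hv1, hv2⟩ := exists_shift
    have hu1 : L.el (jv v) * L.el x * (L.el (jv v))⁻¹ = L.el x := by
      rw [← L.el_conj (hS.jv_mem v) L.x_mem, hv2, mul_inv_cancel_right]
    have hu2 : L.el (jv v) * L.el p * (L.el (jv v))⁻¹ = L.el p * L.el x := by
      rw [← L.el_conj (hS.jv_mem v) hS.p_mem, hv1, mul_inv_cancel_right,
        L.el_mul hS.p_mem L.x_mem]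
    obtain ⟨n, hnX, hnP⟩ := swap_invert hS
      ((L.commute_el L.x_mem hS.p_mem).2 gens_facts.2.2.1.2.2.symm) (el_x_cube hS)
      (el_p_cube hS) hu1 hu2 hs1 hs2
    have hnJ : L.J.map (MulAut.conj n).toMonoidHom = L.J := by
      refine F.weakly_closed n _ (isPGroup_cent_x hS) (J_le_cent_x hS) ?_
      rintro _ ⟨j, hj, rfl⟩
      refine mem_centralizer_singleton_iff.2 ?_
      have hx2 : (L.el x) = (L.el x ^ 2) ^ 2 := by
        rw [← pow_mul, show 2 * 2 = 3 + 1 from rfl, pow_succ, el_x_cube hS, one_mul]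
      show Commute (n * j * n⁻¹) (L.el x)
      rw [hx2]
      refine Commute.pow_right ?_ 2
      rw [← hnX]
      exact (show Commute j (L.el x) from
        mem_centralizer_singleton_iff.1 (J_le_cent_x hS hj)).map (MulAut.conj n).toMonoidHom
    obtain ⟨σ, hσ, rfl⟩ := L.mem_range.1 (range_of_conj hS hnJ)
    refine hS.not_invert hσ (mul_inv_eq_iff_eq_mul.1 (L.el_inj
      (S.mul_mem (S.mul_mem hσ hS.p_mem) (S.inv_mem hσ)) (S.pow_mem hS.p_mem 2) ?_))
    rw [L.el_conj hσ hS.p_mem, hnP, L.el_pow hS.p_mem]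
  constructor <;> intro h <;> obtain ⟨c, hc⟩ := isConj_iff.1 h.symm
  · exact main c (Or.inl hc)
  · exact main c (Or.inr hc)

theorem not_conj_J {k : ℕ} (hk : k = 1 ∨ k = 2) {j : G} (hj : j ∈ L.J)
    (h : IsConj (L.el p ^ k) j) : False := by
  have key : ∀ j ∈ L.J, ¬ IsConj (L.el p) j := by
    intro j hj h
    obtain ⟨σ, hσ, rfl⟩ := L.mem_J.1 hj
    rcases F.p_conj σ hσ h with e | e
    · exact (not_conj hS F).1 (h.trans (conj_of_sconj (L.J0_le hσ) e))
    · exact (not_conj hS F).2 (L.el_inv L.x_mem ▸ h.trans (conj_of_sconj (L.J0_le hσ) e))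
  rcases hk with rfl | rfl
  · exact key j hj (by rwa [pow_one] at h)
  · refine key (j ^ 2) (pow_mem hj 2) ?_
    have := isConj_sq h
    rwa [← pow_mul, show 2 * 2 = 3 + 1 from rfl, pow_succ, el_p_cube hS, one_mul] at this

theorem conj_outside {σ : P9} (hσ : σ ∈ S) (hc : cv σ ≠ 1) (h3 : σ ^ 3 = 1) {j : G}
    (hj : j ∈ L.J) (h : IsConj (L.el σ) j) : False := by
  obtain ⟨w, hw, e⟩ := hS.outside hσ hc h3
  have hk : ∃ k : ℕ, (k = 1 ∨ k = 2) ∧ σ * w = w * p ^ k := by
    rcases e with e | e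
    · exact ⟨1, Or.inl rfl, by rwa [pow_one]⟩
    · exact ⟨2, Or.inr rfl, e⟩
  obtain ⟨k, hk, e⟩ := hk
  refine not_conj_J hS F hk hj ((isConj_iff.2 ⟨L.el w, ?_⟩).trans h)
  rw [← L.el_pow hS.p_mem, ← L.el_conj hw (S.pow_mem hS.p_mem k), ← e, mul_inv_cancel_right]

omit F

/-- The block shift on the range. -/
noncomputable def φ : L.e.range →* Multiplicative (ZMod 3) where
  toFun h := cv ((MonoidHom.ofInjective L.inj).symm h : S)
  map_one' := by rw [map_one]; exact cv_vals.1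
  map_mul' a b := by
    rw [map_mul]
    exact hS.cv_mul ((MonoidHom.ofInjective L.inj).symm a).2 _

theorem φ_el {σ : P9} (hσ : σ ∈ S) (h : L.el σ ∈ L.e.range) : φ hS ⟨L.el σ, h⟩ = cv σ := by
  have e : (MonoidHom.ofInjective L.inj).symm ⟨L.el σ, h⟩ = (⟨σ, hσ⟩ : S) := by
    rw [MulEquiv.symm_apply_eq]
    exact Subtype.ext (L.el_eq hσ)
  show cv ((MonoidHom.ofInjective L.inj).symm ⟨L.el σ, h⟩ : S) = _
  rw [e]

include F

theorem fterm_J {j : G} (hj : j ∈ L.J) (q : G ⧸ L.e.range) : fterm (φ hS) j q = 1 := by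
  classical
  unfold fterm
  split_ifs with h
  · obtain ⟨σ, hσ, e⟩ := L.mem_range.1 h
    simp only [← e, φ_el hS hσ]
    by_contra hc
    refine conj_outside hS F hσ hc (L.el_inj (S.pow_mem hσ 3) S.one_mem ?_) hj
      (e ▸ isConj_iff.2 ⟨q.out, by group⟩)
    rw [L.el_pow hσ, e, L.el_one,
      show q.out⁻¹ * j * q.out = q.out⁻¹ * j * q.out⁻¹⁻¹ by rw [inv_inv], conj_pow, J_cube hS hj]
    group
  · rfl

theorem fixed_base {q : G ⧸ L.e.range} (hX : L.el x • q = q) (hP : L.el p • q = q) :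
    q = QuotientGroup.mk 1 := by
  haveI : Fact (Nat.Prime 3) := ⟨Nat.prime_three⟩
  set g := q.out with hg
  set J' := L.J.map (MulAut.conj g).toMonoidHom with hJ'
  have hq : q = QuotientGroup.mk g := (QuotientGroup.out_eq' q).symm
  suffices hgr : g ∈ L.e.range by
    rw [hq, QuotientGroup.eq]
    simpa using hgr
  have hn : ∀ a : G, a • q = q → a ∈ normalizer (J' : Set G) := fun a ha => by
    have h0 := mem_iff_fixed.2 ha
    have h1 : ∀ y, y ∈ L.J ↔ g⁻¹ * a * g * y * (g⁻¹ * a * g)⁻¹ ∈ L.J :=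
      mem_normalizer_iff.1 (L.range_normalizer.le h0)
    refine mem_normalizer_iff.2 fun y => ?_
    constructor
    · rintro ⟨j, hj, rfl⟩
      exact ⟨g⁻¹ * a * g * j * (g⁻¹ * a * g)⁻¹, (h1 j).1 hj, by
        show g * (g⁻¹ * a * g * j * (g⁻¹ * a * g)⁻¹) * g⁻¹ = a * (g * j * g⁻¹) * a⁻¹
        group⟩
    · rintro ⟨j, hj, e⟩
      refine ⟨g⁻¹ * y * g, (h1 _).2 ?_, by show g * (g⁻¹ * y * g) * g⁻¹ = y; group⟩
      rw [show g⁻¹ * a * g * (g⁻¹ * y * g) * (g⁻¹ * a * g)⁻¹ = g⁻¹ * (a * y * a⁻¹) * g by group,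
        ← e]
      show g⁻¹ * (g * j * g⁻¹) * g ∈ L.J
      rwa [show g⁻¹ * (g * j * g⁻¹) * g = j by group]
  set A := zpowers (L.el x) ⊔ zpowers (L.el p) with hA
  have hAn : A ≤ normalizer (J' : Set G) :=
    sup_le (zpowers_le.2 (hn _ hX)) (zpowers_le.2 (hn _ hP))
  have hAT : A ≤ centralizer ({L.el x} : Set G) :=
    sup_le (zpowers_le.2 (mem_centralizer_singleton_iff.2 rfl))
      (zpowers_le.2 (mem_centralizer_singleton_iff.2
        ((L.commute_el hS.p_mem L.x_mem).2 gens_facts.2.2.1.2.2)))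
  have hJ'p : IsPGroup 3 J' := (isPGroup_J hS).map _
  have hR : IsPGroup 3 (A ⊔ J' : Subgroup G) :=
    ((isPGroup_cent_x hS).to_le hAT).to_sup_of_normal_right' hJ'p hAn
  have hmem : ∀ i k : Fin 3, L.el x ^ i.1 * L.el p ^ k.1 ∈ A := fun i k =>
    mul_mem (pow_mem (mem_sup_left (mem_zpowers _)) _) (pow_mem (mem_sup_right (mem_zpowers _)) _)
  obtain ⟨i, k, hik, hne⟩ : ∃ i k : Fin 3, L.el x ^ i.1 * L.el p ^ k.1 ∈ J' ∧
      (i, k) ≠ (0, 0) := by
    by_contra hno
    push Not at hno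
    have hxp : Commute (L.el x) (L.el p) :=
      (L.commute_el L.x_mem hS.p_mem).2 gens_facts.2.2.1.2.2.symm
    have hinj : Function.Injective fun u : (Fin 3 × Fin 3) × J' =>
        (⟨L.el x ^ u.1.1.1 * L.el p ^ u.1.2.1 * u.2,
          mul_mem (mem_sup_left (hmem _ _)) (mem_sup_right u.2.2)⟩ : (A ⊔ J' : Subgroup G)) := by
      rintro ⟨⟨i, k⟩, a⟩ ⟨⟨i', k'⟩, a'⟩ e
      have e' : L.el x ^ i.1 * L.el p ^ k.1 * (a : G) =
        L.el x ^ i'.1 * L.el p ^ k'.1 * (a' : G) := congrArg Subtype.val e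
      have hd : L.el x ^ (i' - i : Fin 3).1 * L.el p ^ (k' - k : Fin 3).1 =
          (a : G) * (a' : G)⁻¹ := by
        have hsub : ∀ (g : G) (i i' : Fin 3), g ^ 3 = 1 →
            g ^ i.1 * g ^ (i' - i : Fin 3).1 = g ^ i'.1 := fun g i i' hg => by
          rw [← pow_add, pow_eq_pow_mod _ hg]
          congr 1
          have := congrArg Fin.val (add_sub_cancel i i')
          rwa [Fin.val_add] at this
        have h1 : L.el x ^ i.1 * L.el p ^ k.1 *
            (L.el x ^ (i' - i : Fin 3).1 * L.el p ^ (k' - k : Fin 3).1) =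
            L.el x ^ i'.1 * L.el p ^ k'.1 := by
          rw [mul_assoc, ← mul_assoc (L.el p ^ k.1), (hxp.symm.pow_pow _ _).eq,
            mul_assoc (L.el x ^ (i' - i : Fin 3).1), ← mul_assoc, hsub _ _ _ (el_x_cube hS),
            hsub _ _ _ (el_p_cube hS)]
        refine mul_left_cancel (a := L.el x ^ i.1 * L.el p ^ k.1) ?_
        rw [h1, ← mul_assoc, e', mul_inv_cancel_right]
      have hz := hno (i' - i) (k' - k) (hd ▸ mul_mem a.2 (inv_mem a'.2))
      simp only [Prod.mk.injEq, sub_eq_zero] at hz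
      obtain ⟨rfl, rfl⟩ := hz
      exact Prod.ext rfl (Subtype.ext (mul_left_cancel e'))
    have h243 : 243 ≤ Nat.card (A ⊔ J' : Subgroup G) := by
      refine le_trans ?_ (Nat.card_le_card_of_injective _ hinj)
      have h27 : 27 ≤ Nat.card J' := by
        rw [hJ', card_map_of_injective (MulEquiv.injective _)]
        refine le_trans (by simp) (Nat.card_le_card_of_injective
          (fun v : Fin 3 × Fin 3 × Fin 3 => (⟨L.el (jv v), L.mem_J.2 ⟨_, gens_facts.2.1 v, rfl⟩⟩ :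
            L.J)) fun v w e => ANineThree.LocalAux.jv_injective
              (L.el_inj (hS.jv_mem v) (hS.jv_mem w) (congrArg Subtype.val e)))
      rw [Nat.card_prod, Nat.card_prod, Nat.card_fin]
      omega
    obtain ⟨n, hn'⟩ := hR.exists_card_eq
    refine F.not_dvd ((pow_dvd_pow 3 (show 5 ≤ n from ?_)).trans
      (hn' ▸ card_subgroup_dvd_card _))
    by_contra h5
    have := Nat.pow_le_pow_right (show 0 < 3 by norm_num) (show n ≤ 4 by omega)
    omega
  obtain ⟨j, hj, ej⟩ := hik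
  have ej' : g * j * g⁻¹ = L.el x ^ i.1 * L.el p ^ k.1 := ej
  by_cases hk : k = 0
  · subst hk
    have hi0 : i ≠ 0 := fun e => hne (by rw [e])
    simp only [Fin.val_zero, pow_zero, mul_one] at ej'
    have hXJ : L.el x ∈ J' := by
      have hi' : i = 1 ∨ i = 2 := by omega
      rcases hi' with rfl | rfl
      · exact ⟨j, hj, by simpa using ej'⟩
      · refine ⟨j ^ 2, pow_mem hj 2, ?_⟩
        show g * j ^ 2 * g⁻¹ = _
        rw [← conj_pow, ej', ← pow_mul]
        show L.el x ^ (3 + 1) = _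
        rw [pow_succ, el_x_cube hS, one_mul]
    refine range_of_conj hS (F.weakly_closed g _ (isPGroup_cent_x hS) (J_le_cent_x hS) ?_)
    rintro _ ⟨a, ha, rfl⟩
    obtain ⟨b, hb, eb⟩ := hXJ
    refine mem_centralizer_singleton_iff.2 ?_
    rw [← eb]
    exact (show Commute a b from J_comm hS ha hb).map (MulAut.conj g).toMonoidHom
  · exfalso
    obtain ⟨v, hv⟩ := xp_conj i k hk
    have hk' : k.1 = 1 ∨ k.1 = 2 := by omega
    refine not_conj_J hS F hk' hj ?_
    refine (isConj_iff.2 ⟨L.el (jv v), ?_⟩ : IsConj _ (g * j * g⁻¹)).trans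
      (isConj_iff.2 ⟨g⁻¹, by group⟩)
    rw [ej', ← L.el_pow hS.p_mem, ← L.el_conj (hS.jv_mem v) (S.pow_mem hS.p_mem _), hv,
      mul_inv_cancel_right, L.el_mul (S.pow_mem L.x_mem _) (S.pow_mem hS.p_mem _),
      L.el_pow L.x_mem, L.el_pow hS.p_mem]

/-- The transfer extends the block shift. -/
theorem exists_shift_hom : ∃ U : G →* Multiplicative (ZMod 3),
    ∀ σ ∈ S, U (L.el σ) = cv σ := by
  classical
  letI := Fintype.ofFinite (G ⧸ L.e.range)
  refine ⟨MonoidHom.transfer (φ (L := L) hS), ?_⟩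
  set U := MonoidHom.transfer (φ (L := L) hS) with hU
  have hJ : ∀ j ∈ L.J, U j = 1 := fun j hj => by
    rw [hU, transfer_eq_prod _ (J_cube hS hj)]
    exact Finset.prod_eq_one fun q _ => fterm_J hS F hj q
  have hX : L.el x ∈ L.J := L.mem_J.2 ⟨x, gens_facts.2.2.2.2.2.2.2.2.2.2.2, rfl⟩
  have hXP : Commute (L.el x) (L.el p) :=
    (L.commute_el L.x_mem hS.p_mem).2 gens_facts.2.2.1.2.2.symm
  have hp : U (L.el p) = cv p := by
    rw [hU, transfer_eq_prod _ (el_p_cube hS)]
    rw [prod_eq_single (MulAction.toPermHom G (G ⧸ L.e.range) (L.el x)) (by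
        rw [← map_pow, el_x_cube hS, map_one]) (fterm (φ hS) (L.el p)) ?_
        (fun a => (cv_cube a).1) (QuotientGroup.mk 1) ?_ ?_]
    · have h1 : (1 : G)⁻¹ * L.el p * 1 ∈ L.e.range := by simpa using L.el_mem hS.p_mem
      rw [fterm_eq _ 1 rfl h1, ← φ_el hS hS.p_mem (L.el_mem hS.p_mem)]
      exact congrArg _ (Subtype.ext (by simp))
    · intro q
      show fterm (φ hS) (L.el p) (L.el x • q) = fterm (φ hS) (L.el p) q
      by_cases h : L.el p • q = q
      · have h' := mem_iff_fixed.2 h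
        have hg : (((L.el x * q.out : G)) : G ⧸ L.e.range) = L.el x • q := by
          conv_rhs => rw [← QuotientGroup.out_eq' q]
          rfl
        have e : (L.el x * q.out)⁻¹ * L.el p * (L.el x * q.out) = q.out⁻¹ * L.el p * q.out := by
          rw [mul_inv_rev, show q.out⁻¹ * (L.el x)⁻¹ * L.el p * (L.el x * q.out) =
            q.out⁻¹ * ((L.el x)⁻¹ * (L.el p * L.el x)) * q.out by group, ← hXP.eq,
            inv_mul_cancel_left]
        rw [fterm_eq _ (L.el x * q.out) hg (e ▸ h'), fterm_eq _ q.out (QuotientGroup.out_eq' q) h']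
        exact congrArg _ (Subtype.ext e)
      · rw [fterm_of_not_fixed _ h, fterm_of_not_fixed]
        rw [← mul_smul, ← hXP.eq, mul_smul]
        exact fun e => h ((MulAction.injective (L.el x)) e)
    · intro q hq hne
      refine fixed_base hS F hq ?_
      by_contra h
      exact hne (fterm_of_not_fixed _ h)
    · show L.el x • (QuotientGroup.mk 1 : G ⧸ L.e.range) = _
      rw [← mem_iff_fixed]
      obtain ⟨k, hk⟩ := QuotientGroup.mk_out_eq_mul L.e.range (1 : G)
      rw [hk, one_mul]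
      exact mul_mem (mul_mem (inv_mem k.2) (L.el_mem L.x_mem)) k.2
  intro σ hσ
  obtain ⟨n, hn⟩ : ∃ n : ℕ, cv (σ * p ^ n) = 1 := by
    obtain ⟨hc1, hc2, -⟩ := cv_vals
    have key : ∀ u w : Multiplicative (ZMod 3), w = Multiplicative.ofAdd 1 →
        u = 1 ∨ u * w = 1 ∨ u * (w * w) = 1 := by decide +kernel
    rcases key (cv σ) (cv p) hc2 with e | e | e
    · exact ⟨0, by rw [pow_zero, mul_one, e]⟩
    · exact ⟨1, by rw [hS.cv_mul hσ, pow_one, e]⟩
    · exact ⟨2, by rw [hS.cv_mul hσ, pow_two, hS.cv_mul hS.p_mem, e]⟩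
  have hm := S.mul_mem hσ (S.pow_mem hS.p_mem n)
  have h1 : U (L.el (σ * p ^ n)) = 1 := (cv_cube _).2 (by
    rw [← map_mul, ← L.el_mul hm hm]
    exact hJ _ (L.mem_J.2 ⟨_, hS.sq_mem hm hn, rfl⟩))
  rw [L.el_mul hσ (S.pow_mem hS.p_mem n), map_mul, L.el_pow hS.p_mem, map_pow, hp] at h1
  rw [hS.cv_mul hσ] at hn
  have hpn : ∀ n : ℕ, cv (p ^ n) = cv p ^ n := fun n => by
    induction n with
    | zero => rw [pow_zero, pow_zero, cv_vals.1]
    | succ m ih => rw [pow_succ', hS.cv_mul hS.p_mem, ih, pow_succ']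
  rw [hpn] at hn
  exact mul_right_cancel (h1.trans hn.symm)

end EvenAux

namespace EvenAux

variable {K : Type u} [Group K] [Finite K]

theorem residual_top {J : Subgroup K} (T : Sylow 3 K) (hTJ : (T : Subgroup K) = J) (i : K)
    (hi : i * i = 1) (hJ3 : ∀ j ∈ J, j ^ 3 = 1) (hinv : ∀ j ∈ J, i * j * i⁻¹ = j⁻¹) :
    Cfsg.pResidual 3 K = ⊤ := by
  haveI : Fact (Nat.Prime 3) := ⟨Nat.prime_three⟩
  set W := Cfsg.pResidual 3 K with hW
  have hWn : W.Normal := by
    refine ⟨fun a ha g => ?_⟩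
    have hle : W.map (MulAut.conj g).toMonoidHom ≤ W := by
      rw [hW, Cfsg.pResidual, MonoidHom.map_closure, closure_le]
      rintro _ ⟨b, hb, rfl⟩
      refine Subgroup.subset_closure ?_
      show Nat.Coprime (orderOf ((MulAut.conj g).toMonoidHom b)) 3
      rw [orderOf_injective _ (MulAut.conj g).injective b]
      exact hb
    exact hle ⟨a, ha, rfl⟩
  have hiW : i ∈ W := Subgroup.subset_closure (by
    show Nat.Coprime (orderOf i) 3
    exact Nat.Coprime.coprime_dvd_left (orderOf_dvd_of_pow_eq_one (by rw [pow_two, hi]))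
      (by norm_num))
  have hJW : J ≤ W := fun j hj => by
    have h1 : j * i * j⁻¹ * i⁻¹ ∈ W := mul_mem (hWn.conj_mem i hiW j) (inv_mem hiW)
    rw [show j * i * j⁻¹ * i⁻¹ = j * (i * j⁻¹ * i⁻¹) by group, hinv _ (inv_mem hj), inv_inv] at h1
    have e : j = (j * j) * (j * j) := by
      rw [show j * j * (j * j) = j ^ 3 * j by rw [pow_succ, pow_succ, pow_one]; group, hJ3 j hj,
        one_mul]
    exact e ▸ mul_mem h1 h1
  refine eq_top_iff.2 fun g _ => ?_
  set n := orderOf g with hn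
  set a := 3 ^ n.factorization 3 with ha
  have h1 : g ^ a ∈ W := Subgroup.subset_closure (by
    show Nat.Coprime (orderOf (g ^ a)) 3
    rw [orderOf_pow' g (by positivity), ← hn,
      Nat.gcd_eq_right (Nat.ordProj_dvd n 3)]
    exact (Nat.coprime_ordCompl Nat.prime_three (orderOf_pos g).ne').symm)
  have h2 : g ^ W.index ∈ W := haveI := hWn; Subgroup.pow_index_mem W g
  have hco : Nat.Coprime a W.index := by
    refine Nat.Coprime.pow_left _ ((Nat.prime_three.coprime_iff_not_dvd).2 fun h => ?_)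
    refine T.not_dvd_index (h.trans ?_)
    exact index_dvd_of_le (hTJ ▸ hJW)
  have h3 := Nat.gcd_eq_gcd_ab a W.index
  rw [hco.gcd_eq_one] at h3
  have : g = (g ^ a) ^ Nat.gcdA a W.index * (g ^ W.index) ^ Nat.gcdB a W.index := by
    rw [← zpow_natCast g a, ← zpow_natCast g W.index, ← zpow_mul, ← zpow_mul, ← zpow_add, ← h3,
      Nat.cast_one, zpow_one]
  rw [this]
  exact mul_mem (zpow_mem h1 _) (zpow_mem h2 _)

end EvenAux

open EvenAux in
/-- The models without odd permutations of the blocks. -/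
theorem even (hF : StmtFacts.{u}) : StmtEven.{u} := by
  intro S G _ _ L hS
  have hS' : IsEven S := hS
  haveI : Fact (Nat.Prime 3) := ⟨Nat.prime_three⟩
  have F := hF L hS'.le_B hS'.p_mem
  obtain ⟨U, hU⟩ := exists_shift_hom hS' F
  set K := U.ker with hK
  have hJK : L.J ≤ K := fun g hg => by
    obtain ⟨σ, hσ, rfl⟩ := L.mem_J.1 hg
    obtain ⟨v, rfl⟩ := exists_jv hσ
    rw [hK, MonoidHom.mem_ker, hU _ (hS'.jv_mem v)]
    exact (gens_facts.2.2.2.2.1 v).2.2.2.1
  have hKS : ∀ σ ∈ S, L.el σ ∈ K ↔ cv σ = 1 := fun σ hσ => by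
    rw [hK, MonoidHom.mem_ker, hU σ hσ]
  set T0 := L.J.subgroupOf K with hT0
  have hnorm : ∀ k : K, k ∈ normalizer (T0 : Set K) →
      ∃ σ ∈ S, cv σ = 1 ∧ L.el σ = k := by
    intro k hk
    have h : (k : G) ∈ L.e.range := by
      refine range_of_conj hS' (eq_of_le_of_card_ge ?_ (by
        rw [card_map_of_injective (MulEquiv.injective _)]))
      rintro _ ⟨j, hj, rfl⟩
      exact mem_subgroupOf.1
        ((mem_normalizer_iff.1 hk ⟨j, hJK hj⟩).1 (mem_subgroupOf.2 hj))
    obtain ⟨σ, hσ, e⟩ := L.mem_range.1 h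
    exact ⟨σ, hσ, (hKS σ hσ).1 (e ▸ k.2), e⟩
  -- `J` is a Sylow subgroup of the kernel
  obtain ⟨T, hT⟩ := ((isPGroup_J hS').comap_of_injective K.subtype
    K.subtype_injective).exists_le_sylow
  have hTT0 : (T : Subgroup K) = T0 := by
    refine le_antisymm ?_ hT
    by_contra hne
    haveI := T.isPGroup'.isNilpotent
    have hlt : T0.subgroupOf (T : Subgroup K) < ⊤ :=
      lt_top_iff_ne_top.2 fun e => hne (subgroupOf_eq_top.1 e)
    obtain ⟨q, hqn, hqA⟩ :=
      SetLike.exists_of_lt (Group.normalizerCondition_of_isNilpotent _ hlt)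
    have hqN : (q : K) ∈ normalizer (T0 : Set K) := by
      refine mem_normalizer_fintype fun a ha => ?_
      have := (mem_normalizer_iff.1 hqn ⟨a, hT ha⟩).1 (mem_subgroupOf.2 ha)
      exact mem_subgroupOf.1 this
    obtain ⟨σ, hσ, hc, e⟩ := hnorm q hqN
    refine hqA (mem_subgroupOf.2 (mem_subgroupOf.2 ?_))
    have h2 : ((q : K) : G) * (q : K) ∈ L.J := by
      rw [← e, ← L.el_mul hσ hσ]
      exact L.mem_J.2 ⟨_, hS'.sq_mem hσ hc, rfl⟩
    obtain ⟨m, hm⟩ := T.isPGroup' q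
    have hm' : ((q : K) : G) ^ 3 ^ m = 1 := congrArg (fun a : T => ((a : K) : G)) hm
    obtain ⟨a, ha⟩ := ((by decide : Odd 3).pow : Odd (3 ^ m))
    have e2 : ((q : K) : G) = (((q : K) : G) * (q : K)) ^ (a + 1) := by
      rw [← pow_two, ← pow_mul, show 2 * (a + 1) = 3 ^ m + 1 by omega, pow_succ, hm', one_mul]
    rw [e2]
    exact pow_mem h2 _
  have hTmem : ∀ k : K, k ∈ (T : Subgroup K) ↔ (k : G) ∈ L.J := fun k => by
    rw [hTT0]; exact mem_subgroupOf
  have hcent : centralizer ((T : Subgroup K) : Set K) = (T : Subgroup K) := by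
    refine le_antisymm (fun k hk => (hTmem k).2 ?_) fun k hk =>
      mem_centralizer_iff.2 fun a ha => Subtype.ext (J_comm hS' ((hTmem a).1 ha) ((hTmem k).1 hk))
    rw [← F.cent_J]
    exact mem_centralizer_iff.2 fun j hj => congrArg Subtype.val
      (mem_centralizer_iff.1 hk ⟨j, hJK hj⟩ ((hTmem _).2 hj))
  have hsig : ∀ W : Subgroup K, W.Normal → (Nat.card W).Coprime 3 → W = ⊥ := by
    intro W hWn hco
    have h : W.map K.subtype = ⊥ := by
      refine L.signalizer _ (by rwa [card_map_of_injective K.subtype_injective]) ?_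
      rintro j hj _ ⟨w, hw, rfl⟩
      exact ⟨_, hWn.conj_mem w hw ⟨j, hJK hj⟩, rfl⟩
    exact (map_eq_bot_iff_of_injective _ K.subtype_injective).1 h
  suffices htop : normalizer ((T : Subgroup K) : Set K) = ⊤ by
    refine F.normal_of_normal K inferInstance hJK fun k hk j hj => ?_
    have h := (mem_normalizer_iff.1 (htop ▸ mem_top (⟨k, hk⟩ : K)) ⟨j, hJK hj⟩).1 ((hTmem _).2 hj)
    exact (hTmem _).1 h
  rcases hS with rfl | rfl | rfl
  · -- the centralizer model
    have hN : ∀ k ∈ normalizer ((T : Subgroup K) : Set K), k ∈ (T : Subgroup K) := by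
      intro k hk
      obtain ⟨σ, hσ, hc, e⟩ := hnorm k (hTT0 ▸ hk)
      exact (hTmem k).2 (L.mem_J.2 ⟨σ, fix_one hσ hc, e⟩)
    have hP : normalizer ((T : Subgroup K) : Set K) ≤ centralizer ((T : Subgroup K) : Set K) :=
      fun k hk => hcent.symm ▸ hN k hk
    have hc := MonoidHom.ker_transferSylow_isComplement' T hP
    have hW := hsig (MonoidHom.transferSylow T hP).ker inferInstance (by
      refine Nat.Coprime.symm ((Nat.prime_three.coprime_iff_not_dvd).2 ?_)
      exact MonoidHom.not_dvd_card_ker_transferSylow T hP)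
    rw [hW] at hc
    rw [(isComplement'_bot_left.1 hc)]
    exact eq_top_iff.2 le_normalizer
  · -- the normalizer model
    have hiota : L.el iota ∈ K :=
      (hKS _ iota_mem).2 gens_facts.2.2.2.1.2.2.2.1
    set i : K := ⟨L.el iota, hiota⟩ with hi
    have hii : i * i = 1 := Subtype.ext (by
      show L.el iota * L.el iota = 1
      rw [← L.el_mul iota_mem iota_mem, gens_facts.2.2.2.1.2.2.1, L.el_one])
    have hinv : ∀ j ∈ (T : Subgroup K), i * j * i⁻¹ = j⁻¹ := by
      intro j hj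
      obtain ⟨σ, hσ, e⟩ := L.mem_J.1 ((hTmem j).1 hj)
      obtain ⟨v, rfl⟩ := exists_jv hσ
      refine Subtype.ext ?_
      show L.el iota * (j : G) * (L.el iota)⁻¹ = (j : G)⁻¹
      rw [← e, ← L.el_inv (hS'.jv_mem v), ← L.el_conj iota_mem (hS'.jv_mem v),
        (gens_facts.2.2.2.2.1 v).2.2.2.2.2.1, mul_inv_cancel_right]
      congr 1
      have key : ∀ v : Fin 3 × Fin 3 × Fin 3, jv (-v) * jv v = 1 := by decide +kernel
      exact eq_inv_of_mul_eq_one_left (key v)
    have hJ3 : ∀ j ∈ (T : Subgroup K), j ^ 3 = 1 := fun j hj =>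
      Subtype.ext (J_cube hS' ((hTmem j).1 hj))
    have hiN : i ∈ normalizer ((T : Subgroup K) : Set K) :=
      mem_normalizer_fintype fun j hj => (hinv j hj).symm ▸ inv_mem hj
    have hidx : ((centralizer ((T : Subgroup K) : Set K)).subgroupOf
        (normalizer ((T : Subgroup K) : Set K))).index = 2 := by
      rw [index_eq_two_iff']
      refine ⟨⟨i, hiN⟩, fun b => ?_⟩
      have hiT : i ∉ (T : Subgroup K) := fun h => by
        have h3 := hJ3 i h
        have hi1 : i = 1 := by rw [← h3, pow_succ, pow_two, hii, one_mul]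
        exact gens_facts.2.2.2.1.2.2.2.2
          (L.el_inj iota_mem (one_mem _) (by rw [L.el_one]; exact congrArg Subtype.val hi1))
      simp only [mem_subgroupOf, hcent, coe_mul]
      rw [xor_iff_iff_not]
      constructor
      · intro h1 h2
        exact hiT (by simpa using mul_mem h1 (inv_mem h2))
      · intro h2
        obtain ⟨σ, hσ, hc, e⟩ := hnorm b (hTT0 ▸ b.2)
        rcases fix_two hσ hc with h | h
        · exact absurd ((hTmem _).2 (L.mem_J.2 ⟨σ, h, e⟩)) h2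
        · have h3 : i * (b : K) ∈ (T : Subgroup K) := (hTmem _).2 (L.mem_J.2 ⟨_, h, by
            rw [L.el_mul iota_mem hσ, e]; rfl⟩)
          have h4 := (mem_normalizer_iff.1 hiN (i * (b : K))).1 h3
          rwa [← mul_assoc, hii, one_mul, show (i : K)⁻¹ = i from
            inv_eq_of_mul_eq_one_left hii] at h4
    have hTab : IsMulCommutative (T : Subgroup K) := ⟨⟨fun a b => Subtype.ext (Subtype.ext
      (J_comm hS' ((hTmem a).1 a.2) ((hTmem b).1 b.2)))⟩⟩
    have hTc : ¬ IsCyclic (T : Subgroup K) := by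
      intro hcyc
      obtain ⟨g, hg⟩ := IsCyclic.exists_generator (α := (T : Subgroup K))
      have h27 : 27 ≤ Nat.card (T : Subgroup K) := by
        refine le_trans (by simp) (Nat.card_le_card_of_injective
          (fun v : Fin 3 × Fin 3 × Fin 3 => (⟨⟨L.el (jv v), hJK (L.mem_J.2
            ⟨_, gens_facts.2.1 v, rfl⟩)⟩, (hTmem _).2 (L.mem_J.2 ⟨_, gens_facts.2.1 v, rfl⟩)⟩ :
            (T : Subgroup K))) fun v w e => ANineThree.LocalAux.jv_injective
              (L.el_inj (hS'.jv_mem v) (hS'.jv_mem w)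
                (congrArg (fun a : (T : Subgroup K) => ((a : K) : G)) e)))
      rw [← orderOf_eq_card_of_forall_mem_zpowers hg] at h27
      have := Nat.le_of_dvd (by norm_num)
        (orderOf_dvd_of_pow_eq_one (Subtype.ext (hJ3 g g.2) : g ^ 3 = 1))
      omega
    have hlen : Cfsg.PLengthLE 3 1 K :=
      (Cfsg.Agent.S3347.result 3 (by norm_num) T hTab hTc hidx).resolve_left fun h =>
        h (residual_top T rfl i hii hJ3 hinv)
    have h1 := CfsgLib.OddOrder.map_le_pCore_quotient hlen T.isPGroup'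
    set π := QuotientGroup.mk' (Cfsg.pPrimeCore 3 K)
    have hinj : Function.Injective π := (π.ker_eq_bot_iff).1 (by
      rw [QuotientGroup.ker_mk']
      exact hsig _ inferInstance (Base.pPrimeCore_coprime 3 K))
    set Q := (Cfsg.pCore 3 (K ⧸ Cfsg.pPrimeCore 3 K)).comap π with hQ
    have hTQ : (T : Subgroup K) ≤ Q := fun t ht => h1 ⟨t, ht, rfl⟩
    have hQT : Q = (T : Subgroup K) :=
      T.3 ((Base.isPGroup_pCore 3 _).comap_of_injective π hinj) hTQ
    haveI : (Cfsg.pCore 3 (K ⧸ Cfsg.pPrimeCore 3 K)).Normal := Cfsg.pCore_normal 3 _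
    have hQn : Q.Normal := inferInstance
    rw [← hQT]
    exact normalizer_eq_top_iff.2 hQn
  · -- the model with even sign changes
    set H := normalizer ((T : Subgroup K) : Set K) with hH
    have hmem : ∀ σ : closure (Vgens : Set P9), (σ : P9) ∈ S4 ⊓ Bev ∧ cv (σ : P9) = 1 :=
      fun σ => fix_four.1 σ.2
    let ψ : closure (Vgens : Set P9) →* K :=
      { toFun := fun σ => ⟨L.el σ, (hKS _ (hmem σ).1).2 (hmem σ).2⟩
        map_one' := Subtype.ext L.el_one
        map_mul' := fun a b => Subtype.ext (L.el_mul (hmem a).1 (hmem b).1) }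
    have hψi : Function.Injective ψ := fun a b e =>
      Subtype.ext (L.el_inj (hmem a).1 (hmem b).1 (congrArg Subtype.val e))
    have hψr : ψ.range = H := by
      apply le_antisymm
      · rintro _ ⟨σ, rfl⟩
        refine mem_normalizer_fintype fun j hj => (hTmem _).2 ?_
        have h : L.el σ ∈ normalizer (L.J : Set G) :=
          L.range_normalizer ▸ L.el_mem (hmem σ).1
        exact (mem_normalizer_iff.1 h _).1 ((hTmem j).1 hj)
      · intro k hk
        obtain ⟨σ, hσ, hc, e⟩ := hnorm k (hTT0 ▸ hk)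
        exact ⟨⟨σ, fix_four.2 ⟨hσ, hc⟩⟩, Subtype.ext e⟩
    have hiso : Nonempty (H ≃* closure (Vgens : Set P9)) :=
      ⟨((MonoidHom.ofInjective hψi).trans (MulEquiv.subgroupCongr hψr)).symm⟩
    have hTc : Nat.card (T : Subgroup K) = 27 := by
      rw [hTT0, hT0, Nat.card_congr (subgroupOfEquivOfLe hJK).toEquiv]
      refine le_antisymm ?_ ?_
      · refine le_trans (Nat.card_le_card_of_surjective
          (fun v : Fin 3 × Fin 3 × Fin 3 => (⟨L.el (jv v), L.mem_J.2
            ⟨_, gens_facts.2.1 v, rfl⟩⟩ : L.J)) ?_) (by simp)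
        rintro ⟨g, hg⟩
        obtain ⟨σ, hσ, rfl⟩ := L.mem_J.1 hg
        obtain ⟨v, rfl⟩ := exists_jv hσ
        exact ⟨v, rfl⟩
      · refine le_trans (by simp) (Nat.card_le_card_of_injective
          (fun v : Fin 3 × Fin 3 × Fin 3 => (⟨L.el (jv v), L.mem_J.2
            ⟨_, gens_facts.2.1 v, rfl⟩⟩ : L.J)) fun v w e => ANineThree.LocalAux.jv_injective
              (L.el_inj (hS'.jv_mem v) (hS'.jv_mem w) (congrArg Subtype.val e)))
    refine Cfsg.Agent.S3701.result H hiso T le_normalizer hTc rfl fun t ht ht1 => ?_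
    intro k hk
    have hk' : (k : G) ∈ centralizer ({(t : G)} : Set G) :=
      mem_centralizer_singleton_iff.2 (congrArg Subtype.val (mem_centralizer_singleton_iff.1 hk))
    obtain ⟨τ, hτ, e⟩ := L.mem_J.1 ((hTmem t).1 ht)
    obtain ⟨v, rfl⟩ := exists_jv hτ
    have hv0 : v ≠ 0 := fun h0 => ht1 (Subtype.ext (by
      rw [← e, h0, show jv 0 = 1 by decide +kernel, L.el_one]; rfl))
    have hrange : (k : G) ∈ L.e.range := by
      rcases jv_types v hv0 with ⟨m, hm⟩ | hstab
      · have hms : ev m ∈ S4 ⊓ Bev := ⟨(gens_facts.1 m).2.1, (gens_facts.1 m).1⟩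
        set w := L.el (ev m) with hw
        have hc : w * (k : G) * w⁻¹ ∈ centralizer ({L.el x} : Set G) := by
          refine mem_centralizer_singleton_iff.2 ?_
          have hcm : Commute (w * (k : G) * w⁻¹) (w * (t : G) * w⁻¹) :=
            (show Commute (k : G) t from mem_centralizer_singleton_iff.1 hk').map
              (MulAut.conj w).toMonoidHom
          rw [← e, hw, ← L.el_conj hms (hS'.jv_mem v)] at hcm
          rcases hm with hm | hm <;> rw [hm, mul_inv_cancel_right] at hcm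
          · exact hcm.eq
          · rw [L.el_inv L.x_mem] at hcm
            have := hcm.inv_right
            rw [inv_inv] at this
            exact this.eq
        have hwr : w ∈ L.e.range := L.el_mem hms
        simpa [mul_assoc] using mul_mem (mul_mem (inv_mem hwr) (L.cent_el_x hc)) hwr
      · rw [← e] at hk'
        refine F.cent_one _ hτ (fun h1 => hv0 (ANineThree.LocalAux.jv_injective
          (h1.trans (by decide +kernel : (1 : P9) = jv 0)))) (fun σ hσ hcm => ?_) hk'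
        obtain ⟨c, rfl⟩ := EvenAux.exists_code (hS'.le_B hσ)
        exact hS'.sq_mem hσ (hstab c (hS'.bpar_eq hσ)
          ((mem_S4.1 hσ.1).2.trans (hS'.bpar_eq hσ)) hcm)
    obtain ⟨σ, hσ, e2⟩ := L.mem_range.1 hrange
    rw [← hψr]
    exact ⟨⟨σ, fix_four.2 ⟨hσ, (hKS σ hσ).1 (e2 ▸ k.2)⟩⟩, Subtype.ext e2⟩

end CfsgLib.SNineThree
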