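import Cfsg.Agent.Lib.SNineThree.Basic
import Cfsg.Agent.Lib.ANineThree.LocalModel

/-!
Tables for the models without odd permutations of the blocks, checked over the block codes.
-/

set_option autoImplicit false
set_option maxRecDepth 100000
set_option synthInstance.maxSize 2000
set_option synthInstance.maxHeartbeats 200000

namespace CfsgLib.SNineThree.EvenAux

open Equiv Subgroup
open CfsgLib.ANineThree (P9 x p z z2 z3)
open CfsgLib.ANineThree.LocalAux (e9 Code mkB mkB_apply mkB_blocks jv)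

/-- The cyclic shift of the blocks. -/
def cv (σ : P9) : Multiplicative (ZMod 3) := Multiplicative.ofAdd (bfun σ 0 : ZMod 3)

theorem even_add : ∀ f : Fin 3 → Fin 3, (∀ a b, f a = f b → a = b) → par3 f = 1 →
    ∀ i, f i = f 0 + i := by decide +kernel

theorem cv_mul {a b : P9} (ha : a ∈ Bev) : cv (a * b) = cv a * cv b := by
  rw [cv, bfun_mul (mem_Bev.1 ha).1]
  exact congrArg Multiplicative.ofAdd
    (even_add (bfun a) (bfun_inj (mem_Bev.1 ha).1) (mem_Bev.1 ha).2 (bfun b 0))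

theorem cv_vals : cv 1 = 1 ∧ cv p = Multiplicative.ofAdd 1 ∧ cv p ≠ 1 := by decide +kernel

theorem cv_cases : ∀ u : Multiplicative (ZMod 3), u = 1 ∨ u = cv p ∨ u = cv p * cv p := by
  decide +kernel

theorem cv_cube : ∀ u : Multiplicative (ZMod 3), u ^ 3 = 1 ∧ (u * u = 1 → u = 1) := by
  decide +kernel

/-- The even sign changes. -/
def ev (m : Fin 4) : P9 :=
  ![1, swap 0 1 * swap 3 4, swap 0 1 * swap 6 7, swap 3 4 * swap 6 7] m

theorem gens_facts : (∀ m, ev m ∈ Bev ∧ ev m ∈ S4 ∧ cv (ev m) = 1) ∧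
    (∀ v, jv v ∈ J0) ∧ (p ∈ Bev ∧ p ∈ S4 ∧ p * x = x * p) ∧
    (iota ∈ Bev ∧ iota * x = x⁻¹ * iota ∧ iota * iota = 1 ∧ cv iota = 1 ∧ iota ≠ 1) ∧
    (∀ v, jv v ∈ Bev ∧ jv v ∈ S4 ∧ jv v * x = x * jv v ∧ cv (jv v) = 1 ∧ jv v ^ 3 = 1 ∧
      iota * jv v = jv (-v) * iota ∧ jv v * jv v = jv (v + v)) ∧
    x ≠ 1 ∧ x ^ 3 = 1 ∧ p ^ 3 = 1 ∧ z * p ≠ p * z ∧ z * x = x * z ∧ z ∈ J0 ∧ x ∈ J0 := by
  decide +kernel

theorem code_J0 : ∀ c : Code, mkB c ∈ J0 → ∃ v, mkB c = jv v := by decide +kernel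

theorem code_fix : ∀ c : Code, bpar (mkB c) = 1 → cv (mkB c) = 1 →
    (mkB c * mkB c ∈ J0) ∧
    (mkB c * x = x * mkB c → mkB c ∈ J0) ∧
    (mkB c * x = x⁻¹ * mkB c → iota * mkB c ∈ J0) ∧
    (Perm.sign (mkB c) = 1 → ∃ m, ev m * mkB c ∈ J0) := by decide +kernel

theorem code_cent : ∀ c : Code, bpar (mkB c) = 1 →
    mkB c * p ≠ p ^ 2 * mkB c ∧
    (mkB c * x = x * mkB c → mkB c ^ 9 = 1 ∧
      (mkB c * p = p * mkB c → ∃ i k : Fin 3, mkB c = x ^ i.1 * p ^ k.1)) ∧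
    (cv (mkB c) ≠ 1 → mkB c * x = x⁻¹ * mkB c → mkB c ^ 3 ≠ 1) := by decide +kernel

theorem code_outside_x : ∀ c : Code, bpar (mkB c) = 1 → cv (mkB c) ≠ 1 → mkB c ^ 3 = 1 →
    mkB c * x = x * mkB c →
    ∃ v, mkB c * jv v = jv v * p ∨ mkB c * jv v = jv v * p ^ 2 := by decide +kernel

theorem code_outside_ev : ∀ c : Code, bpar (mkB c) = 1 → cv (mkB c) ≠ 1 → mkB c ^ 3 = 1 →
    Perm.sign (mkB c) = 1 →
    ∃ m v, mkB c * (ev m * jv v) = ev m * jv v * p ∨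
      mkB c * (ev m * jv v) = ev m * jv v * p ^ 2 := by decide +kernel

theorem jv_types : ∀ v, v ≠ 0 →
    (∃ m, ev m * jv v = x * ev m ∨ ev m * jv v = x⁻¹ * ev m) ∨
    ∀ c : Code, bpar (mkB c) = 1 → Perm.sign (mkB c) = 1 → mkB c * jv v = jv v * mkB c →
      cv (mkB c) = 1 := by decide +kernel

end CfsgLib.SNineThree.EvenAux
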