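import Cfsg.Agent.Lib.SNineThree.FactsTwo

/-!
Fusion in `J` and of the element permuting the three lines.
-/

set_option autoImplicit false
set_option linter.unusedSectionVars false
set_option linter.style.haveILetI false

namespace CfsgLib.SNineThree.FactsAux

open Equiv Subgroup
open CfsgLib.ANineThree (P9 x p)
open CfsgLib.ANineThree.LocalAux

universe u

variable {S : Subgroup P9} {G : Type u} [Group G] [Finite G] (L : Loc S G)

theorem fusion (hS : S ≤ B) {a b : P9} (ha : a ∈ J0) (hb : b ∈ J0)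
    (h : IsConj (L.el a) (L.el b)) : SConj S a b := by
  haveI : Fact (Nat.Prime 3) := ⟨Nat.prime_three⟩
  obtain ⟨g, hg⟩ := isConj_iff.1 h
  have haJ : L.el a ∈ L.J := L.mem_J.2 ⟨a, ha, rfl⟩
  have hbJ : L.el b ∈ L.J := L.mem_J.2 ⟨b, hb, rfl⟩
  set C := centralizer ({L.el b} : Set G) with hC
  set A := L.J.map (MulAut.conj g).toMonoidHom with hA
  have hJC : L.J ≤ C := fun j hj => mem_centralizer_singleton_iff.2 (J_comm L hj hbJ)
  have hAC : A ≤ C := by
    rintro _ ⟨j, hj, rfl⟩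
    refine mem_centralizer_singleton_iff.2 ?_
    show g * j * g⁻¹ * L.el b = L.el b * (g * j * g⁻¹)
    rw [← hg, show g * j * g⁻¹ * (g * L.el a * g⁻¹) = g * (j * L.el a) * g⁻¹ by group,
      J_comm L hj haJ]
    group
  obtain ⟨T, hT⟩ :=
    ((isPGroup_J L).comap_of_injective C.subtype C.subtype_injective).exists_le_sylow
  obtain ⟨U, hU⟩ := (((isPGroup_J L).map (MulAut.conj g).toMonoidHom).comap_of_injective C.subtype
    C.subtype_injective).exists_le_sylow
  obtain ⟨c, hc⟩ := MulAction.exists_smul_eq C U T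
  have hJT : L.J ≤ (T : Subgroup C).map C.subtype := fun j hj =>
    ⟨⟨j, hJC hj⟩, hT hj, rfl⟩
  have hle : L.J.map (MulAut.conj ((c : G) * g)).toMonoidHom ≤ (T : Subgroup C).map C.subtype := by
    rintro _ ⟨j, hj, rfl⟩
    have hjA : g * j * g⁻¹ ∈ A := ⟨j, hj, rfl⟩
    refine ⟨c * ⟨g * j * g⁻¹, hAC hjA⟩ * c⁻¹, ?_, ?_⟩
    · show c * ⟨g * j * g⁻¹, hAC hjA⟩ * c⁻¹ ∈ T
      rw [← hc, Sylow.smul_def]
      exact ⟨_, hU hjA, rfl⟩
    · show (c : G) * (g * j * g⁻¹) * (c : G)⁻¹ = (c : G) * g * j * ((c : G) * g)⁻¹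
      group
  have e := weakly_closed L hS _ _ (T.isPGroup'.map C.subtype) hJT hle
  obtain ⟨n, hn, en⟩ := L.mem_range.1
    (mem_range_of_conj L (n := (c : G) * g) fun j hj => e.le ⟨j, hj, rfl⟩)
  refine ⟨n, hn, L.el_inj (S.mul_mem (S.mul_mem hn (L.J0_le ha)) (S.inv_mem hn)) (L.J0_le hb) ?_⟩
  rw [L.el_conj hn (L.J0_le ha), en]
  calc (c : G) * g * L.el a * ((c : G) * g)⁻¹ = c * (g * L.el a * g⁻¹) * (c : G)⁻¹ := by group
    _ = L.el b := by rw [hg, mem_centralizer_singleton_iff.1 c.2, mul_inv_cancel_right]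

include L in
/-- A three-element outside `J₀` centralizes only conjugates of powers of `x` in it. -/
theorem outside_cent (hS : S ≤ B) (hp : p ∈ S) {q j : P9} {k : ℕ} (hq : q ∈ S)
    (hqk : q ^ 3 ^ k = 1) (hqJ : q ∉ J0) (hj : j ∈ J0) (hj1 : j ≠ 1) (hc : q * j = j * q) :
    SConj S j x ∨ SConj S j x⁻¹ := by
  haveI : Fact (Nat.Prime 3) := ⟨Nat.prime_three⟩
  set pS : S := ⟨p, hp⟩ with hpS
  set JS := J0.subgroupOf S with hJS
  haveI hJn : JS.Normal := ⟨fun a ha g => mem_subgroupOf.2 (conj_mem_J0 (hS g.2) ha)⟩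
  have hcJS : Nat.card JS = 27 := by
    rw [hJS, Nat.card_congr (subgroupOfEquivOfLe L.J0_le).toEquiv, card_J0]
  have hJp : IsPGroup 3 JS := IsPGroup.of_card (n := 3) (by rw [hcJS]; norm_num)
  have hpp : IsPGroup 3 (zpowers pS) := by
    refine IsPGroup.of_card (n := 1) ?_
    rw [Nat.card_zpowers, pow_one]
    refine orderOf_eq_prime (Subtype.ext ?_) fun e => p_facts.2.1 (congrArg Subtype.val e)
    rw [SubmonoidClass.coe_pow]
    exact p_facts.1
  set R0 := JS ⊔ zpowers pS with hR0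
  have hR0p : IsPGroup 3 R0 := IsPGroup.to_sup_of_normal_left hJp hpp
  obtain ⟨P, hP⟩ := hR0p.exists_le_sylow
  have hPR : (P : Subgroup S) = R0 := by
    refine (eq_of_le_of_card_ge hP ?_).symm
    obtain ⟨n, hn⟩ := P.isPGroup'.exists_card_eq
    have h1 : Nat.card (P : Subgroup S) ∣ 1296 := by
      rw [← card_B]
      exact (P : Subgroup S).card_subgroup_dvd_card.trans (card_dvd_of_le hS)
    rw [hn] at h1
    have hn4 : n ≤ 4 := by
      by_contra h5
      exact absurd ((pow_dvd_pow 3 (show 5 ≤ n by omega)).trans h1) (by norm_num)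
    obtain ⟨m, hm⟩ := hR0p.exists_card_eq
    rw [hn, hm]
    refine Nat.pow_le_pow_right (by norm_num) (hn4.trans ?_)
    by_contra h4
    have hle : Nat.card R0 ≤ Nat.card JS := by
      rw [hm, hcJS, show (27 : ℕ) = 3 ^ 3 from rfl]
      exact Nat.pow_le_pow_right (by norm_num) (by omega)
    have e := eq_of_le_of_card_ge (le_sup_left : JS ≤ R0) hle
    exact p_notMem (mem_subgroupOf.1 (e.ge (mem_sup_right (mem_zpowers pS))))
  set qS : S := ⟨q, hq⟩ with hqS
  have hqp : IsPGroup 3 (zpowers qS) := by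
    have hd : orderOf qS ∣ 3 ^ k := orderOf_dvd_of_pow_eq_one (Subtype.ext (by
      rw [SubmonoidClass.coe_pow]; exact hqk))
    obtain ⟨n, -, hn⟩ := (Nat.dvd_prime_pow Nat.prime_three).1 hd
    exact IsPGroup.of_card (n := n) (by rw [Nat.card_zpowers, hn])
  obtain ⟨U, hU⟩ := hqp.exists_le_sylow
  obtain ⟨s, hs⟩ := MulAction.exists_smul_eq S U P
  have hmem : s * qS * s⁻¹ ∈ (s • U : Sylow 3 S) := by
    rw [Sylow.smul_def]; exact ⟨_, hU (mem_zpowers qS), rfl⟩
  rw [hs] at hmem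
  obtain ⟨a, ha, b, hb, eab⟩ := mem_sup_of_normal_left.1 (hPR.le hmem)
  obtain ⟨v, hv⟩ := mem_J0_iff.1 (mem_subgroupOf.1 ha)
  obtain ⟨i, rfl⟩ := mem_zpowers_iff.1 hb
  have hp3 : pS ^ 3 = 1 := Subtype.ext (by rw [SubmonoidClass.coe_pow]; exact p_facts.1)
  obtain ⟨k3, hk3⟩ : ∃ k3 : Fin 3, pS ^ i = pS ^ k3.1 :=
    ⟨⟨(i % 3).toNat, by omega⟩, by
      rw [zpow_eq_zpow_emod' (n := 3) i hp3, ← zpow_natCast]
      congr 1
      show i % ((3 : ℕ) : ℤ) = ((i % 3).toNat : ℤ)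
      omega⟩
  have eq' : (s : P9) * q * (s : P9)⁻¹ = jv v * p ^ k3.1 := by
    have := congrArg Subtype.val eab
    rw [hk3] at this
    push_cast at this
    rw [← this, hv]
  have hk0 : k3 ≠ 0 := by
    intro e
    rw [e, Fin.val_zero, pow_zero, mul_one] at eq'
    refine hqJ ?_
    have h := conj_mem_J0 (B.inv_mem (hS s.2)) (eq' ▸ jv_mem v : (s : P9) * q * (s : P9)⁻¹ ∈ J0)
    rwa [inv_inv, show (s : P9)⁻¹ * (s * q * (s : P9)⁻¹) * s = q by group] at h
  obtain ⟨w, hw⟩ := mem_J0_iff.1 (conj_mem_J0 (hS s.2) hj)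
  rcases p_cent v k3 hk0 w (by
    rw [hw, ← eq']
    calc (s : P9) * q * (s : P9)⁻¹ * (s * j * (s : P9)⁻¹) = s * (q * j) * (s : P9)⁻¹ := by group
      _ = _ := by rw [hc]; group) with e | e | e
  · rw [e, jv_zero] at hw
    exact absurd (conj_eq_one_iff.1 hw.symm) hj1
  · exact Or.inl ⟨s, s.2, hw.symm.trans e⟩
  · exact Or.inr ⟨s, s.2, hw.symm.trans e⟩

theorem p_conj (hS : S ≤ B) (hp : p ∈ S) {j : P9} (hj : j ∈ J0)
    (h : IsConj (L.el p) (L.el j)) : SConj S j x ∨ SConj S j x⁻¹ := by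
  haveI : Fact (Nat.Prime 3) := ⟨Nat.prime_three⟩
  have hj1 : j ≠ 1 := by
    intro e
    rw [e, L.el_one, isConj_one_left] at h
    exact p_facts.2.1 (L.el_inj hp S.one_mem (h.trans L.el_one.symm))
  have hjJ : L.el j ∈ L.J := L.mem_J.2 ⟨j, hj, rfl⟩
  have hxJ : L.el x ∈ L.J := L.mem_J.2 ⟨x, x_mem_J0, rfl⟩
  set C := centralizer ({L.el j} : Set G) with hC
  have hJC : L.J ≤ C := fun i hi => mem_centralizer_singleton_iff.2 (J_comm L hi hjJ)
  by_cases h3 : ∀ σ ∈ S, L.el σ ∈ C → (∃ k, σ ^ 3 ^ k = 1) → σ ∈ J0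
  · exfalso
    obtain ⟨P, hP⟩ := range_sylow L hS hJC h3
    obtain ⟨g, hg⟩ := isConj_iff.1 h
    have hpx : L.el p * L.el x = L.el x * L.el p :=
      (L.commute_el hp L.x_mem).2 p_facts.2.2.2.1
    have hop : L.el p ^ 3 = 1 := by rw [← L.el_pow hp, p_facts.1, L.el_one]
    have hzp : ∀ w : G, w ^ 3 = 1 → IsPGroup 3 (zpowers w) := fun w hw => by
      obtain ⟨n, -, hn⟩ :=
        (Nat.dvd_prime_pow Nat.prime_three).1 (show orderOf w ∣ 3 ^ 1 from
          orderOf_dvd_of_pow_eq_one (by rw [pow_one]; exact hw))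
      exact IsPGroup.of_card (n := n) (by rw [Nat.card_zpowers, hn])
    have hcj : g * L.el x * g⁻¹ * L.el j = L.el j * (g * L.el x * g⁻¹) := by
      rw [← hg]
      calc g * L.el x * g⁻¹ * (g * L.el p * g⁻¹) = g * (L.el x * L.el p) * g⁻¹ := by group
        _ = _ := by rw [← hpx]; group
    have hle : zpowers (L.el j) ≤ normalizer (zpowers (g * L.el x * g⁻¹) : Set G) := by
      refine zpowers_le.2 (centralizer_le_normalizer _ (mem_centralizer_iff.2 fun w hw => ?_))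
      obtain ⟨i, rfl⟩ := mem_zpowers_iff.1 hw
      exact ((show Commute (g * L.el x * g⁻¹) (L.el j) from hcj).zpow_left i).eq
    have hT : IsPGroup 3 ↥(zpowers (g * L.el x * g⁻¹) ⊔ zpowers (L.el j)) :=
      (hzp _ (by rw [conj_pow, J_cube L hxJ, mul_one, mul_inv_cancel])).to_sup_of_normal_left'
        (hzp _ (J_cube L hjJ)) hle
    obtain ⟨c, hc, hct⟩ := conj_into L hP hT (sup_le
      (zpowers_le.2 (mem_centralizer_singleton_iff.2 hcj))
      (zpowers_le.2 (mem_centralizer_singleton_iff.2 rfl)))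
    set m := c * g with hm
    set J' := L.J.map (MulAut.conj m⁻¹).toMonoidHom with hJ'
    have hmem : ∀ w : G, m * w * m⁻¹ ∈ L.J → w ∈ J' := fun w hw => ⟨_, hw, by
      show m⁻¹ * (m * w * m⁻¹) * m⁻¹⁻¹ = w
      group⟩
    have hxJ' : L.el x ∈ J' := hmem _ (by
      have := hct _ (mem_sup_left (mem_zpowers _))
      rwa [hm, show c * g * L.el x * (c * g)⁻¹ = c * (g * L.el x * g⁻¹) * c⁻¹ by group])
    have hpJ' : L.el p ∈ J' := hmem _ (by
      have := hct _ (mem_sup_right (mem_zpowers (L.el j)))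
      rw [hm, show c * g * L.el p * (c * g)⁻¹ = c * (g * L.el p * g⁻¹) * c⁻¹ by group, hg]
      exact this)
    have hJ'r : J' ≤ L.e.range := by
      refine fun w hw => L.cent_el_x (mem_centralizer_singleton_iff.2 ?_)
      obtain ⟨i, hi, rfl⟩ := hw
      obtain ⟨l, hl, el⟩ := hxJ'
      rw [← el, ← map_mul, ← map_mul, J_comm L hi hl]
    have hp' : IsPGroup 3 ↥(L.J ⊔ J') :=
      (isPGroup_J L).to_sup_of_normal_left' ((isPGroup_J L).map _)
        (L.range_normalizer ▸ hJ'r)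
    have e : J' = L.J := conj_eq_of_le L hS hp' le_sup_left (sup_le L.J_le hJ'r) le_sup_right
    exact p_notMem ((el_mem_J L hp).1 (e ▸ hpJ'))
  · push Not at h3
    obtain ⟨q, hq, hqC, ⟨k, hk⟩, hqJ⟩ := h3
    exact outside_cent L hS hp hq hk hqJ hj hj1
      ((L.commute_el hq (L.J0_le hj)).1 (mem_centralizer_singleton_iff.1 hqC))

/-- The group of the products `xⁱ pᵏ`. -/
def A9 : Subgroup P9 where
  carrier := {σ | ∃ i k : Fin 3, σ = x ^ i.1 * p ^ k.1}
  one_mem' := ⟨0, 0, by simp⟩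
  mul_mem' := by
    have h : ∀ i k i' k' : Fin 3, ∃ a b : Fin 3,
        x ^ i.1 * p ^ k.1 * (x ^ i'.1 * p ^ k'.1) = x ^ a.1 * p ^ b.1 := by decide +kernel
    rintro _ _ ⟨i, k, rfl⟩ ⟨i', k', rfl⟩
    exact h i k i' k'
  inv_mem' := by
    have h : ∀ i k : Fin 3, ∃ a b : Fin 3,
        (x ^ i.1 * p ^ k.1)⁻¹ = x ^ a.1 * p ^ b.1 := by decide +kernel
    rintro _ ⟨i, k, rfl⟩
    exact h i k

theorem p_inv (hS : S ≤ B) (hp : p ∈ S) (h1 : ¬ IsConj (L.el p) (L.el x))
    (h2 : ¬ IsConj (L.el p) (L.el x)⁻¹) (σ : G) (hσ1 : σ ≠ 1) (hσ2 : σ * σ = 1)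
    (hσp : σ * L.el p = L.el p * σ) :
    ¬ 9 ∣ Nat.card (centralizer ({σ} : Set G)) := by
  haveI : Fact (Nat.Prime 3) := ⟨Nat.prime_three⟩
  intro h9
  set Cp := centralizer ({L.el p} : Set G) with hCp
  have hA9S : A9 ≤ S := by
    rintro _ ⟨i, k, rfl⟩
    exact S.mul_mem (S.pow_mem L.x_mem _) (S.pow_mem hp _)
  set A := (A9.subgroupOf S).map L.e with hA
  have hmemA : ∀ {g : G}, g ∈ A ↔ ∃ i k : Fin 3, L.el (x ^ i.1 * p ^ k.1) = g := fun {g} => by
    constructor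
    · rintro ⟨s, ⟨i, k, e⟩, rfl⟩
      exact ⟨i, k, (L.el_eq (hA9S ⟨i, k, rfl⟩)).trans (congrArg L.e (Subtype.ext e.symm))⟩
    · rintro ⟨i, k, rfl⟩
      exact ⟨⟨_, hA9S ⟨i, k, rfl⟩⟩, ⟨i, k, rfl⟩, (L.el_eq _).symm⟩
  have hxA : L.el x ∈ A := hmemA.2 ⟨1, 0, by simp⟩
  have hpA : L.el p ∈ A := hmemA.2 ⟨0, 1, by simp⟩
  have hcA : Nat.card A = 9 := by
    rw [hA, card_map_of_injective L.inj, Nat.card_congr (subgroupOfEquivOfLe hA9S).toEquiv]
    refine (Nat.card_congr (Equiv.ofBijective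
      (fun q : Fin 3 × Fin 3 => (⟨x ^ q.1.1 * p ^ q.2.1, q.1, q.2, rfl⟩ : A9))
      ⟨?_, fun s => ?_⟩)).symm.trans (by rw [Nat.card_eq_fintype_card]; rfl)
    · have h : ∀ i k i' k' : Fin 3, x ^ i.1 * p ^ k.1 = x ^ i'.1 * p ^ k'.1 →
          i = i' ∧ k = k' := by decide +kernel
      intro q q' e
      obtain ⟨e1, e2⟩ := h _ _ _ _ (congrArg Subtype.val e)
      exact Prod.ext e1 e2
    · obtain ⟨i, k, e⟩ := s.2
      exact ⟨(i, k), Subtype.ext e.symm⟩
  have hAC : A ≤ Cp := by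
    intro g hg
    obtain ⟨i, k, rfl⟩ := hmemA.1 hg
    refine mem_centralizer_singleton_iff.2 ((L.commute_el (hA9S ⟨i, k, rfl⟩) hp).2 ?_)
    have hxp : Commute x p := p_facts.2.2.2.1.symm
    exact ((hxp.pow_left i.1).mul_left ((Commute.refl p).pow_left k.1)).eq
  have hcent : ∀ n : G, n * L.el x = L.el x * n → n * L.el p = L.el p * n → n ∈ A := by
    intro n hx hp'
    obtain ⟨τ, hτ, rfl⟩ := L.mem_range.1 (L.cent_el_x (mem_centralizer_singleton_iff.2 hx))
    obtain ⟨c, hc⟩ := exists_codeB (hS hτ)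
    obtain ⟨i, k, e⟩ := code_cent_xp c (by rw [hc]; exact (L.commute_el hτ L.x_mem).1 hx)
      (by rw [hc]; exact (L.commute_el hτ hp).1 hp')
    exact hmemA.2 ⟨i, k, by rw [← e, hc]⟩
  have hAp : IsPGroup 3 A := IsPGroup.of_card (n := 2) (by rw [hcA]; norm_num)
  -- `A` is a Sylow subgroup of the centralizer of `p`
  have hsyl : ∀ T : Subgroup G, IsPGroup 3 T → A ≤ T → T ≤ Cp → T ≤ A := by
    intro T hT hAT hTC
    by_contra hne
    haveI := hT.isNilpotent
    set A1 : Subgroup T := A.subgroupOf T with hA1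
    have hlt : A1 < ⊤ := lt_top_iff_ne_top.2 fun e => hne (subgroupOf_eq_top.1 e)
    obtain ⟨n, hn, hn1⟩ := SetLike.exists_of_lt (Group.normalizerCondition_of_isNilpotent A1 hlt)
    refine hn1 (mem_subgroupOf.2 ?_)
    have hnp : (n : G) * L.el p = L.el p * n := mem_centralizer_singleton_iff.1 (hTC n.2)
    have hmem := (mem_normalizer_iff.1 hn ⟨L.el x, hAT hxA⟩).1 (mem_subgroupOf.2 hxA)
    obtain ⟨i, k, e⟩ := hmemA.1 (mem_subgroupOf.1 hmem)
    change L.el (x ^ i.1 * p ^ k.1) = (n : G) * L.el x * (n : G)⁻¹ at e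
    by_cases hk : k = 0
    · rw [hk] at e
      simp only [Fin.val_zero, pow_zero, mul_one] at e
      rcases ((show ∀ a : Fin 3, a = 0 ∨ a = 1 ∨ a = 2 by decide) i) with rfl | rfl | rfl
      · simp only [Fin.val_zero, pow_zero, L.el_one] at e
        refine absurd (conj_eq_one_iff.1 e.symm) fun e' => p_facts.2.2.2.2.2.2.1 ?_
        exact L.el_inj L.x_mem S.one_mem (e'.trans L.el_one.symm)
      · simp only [Fin.val_one, pow_one] at e
        exact hcent n (eq_mul_inv_iff_mul_eq.1 e).symm hnp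
      · exfalso
        rw [show ((2 : Fin 3) : ℕ) = 2 from rfl, L.el_pow L.x_mem] at e
        obtain ⟨m, hm⟩ := hT n
        have hm' : (n : G) ^ 3 ^ m = 1 := congrArg Subtype.val hm
        have hx3 : L.el x ^ 3 = 1 := J_cube L (L.mem_J.2 ⟨x, x_mem_J0, rfl⟩)
        have hconj : ∀ l : ℕ, (n : G) ^ l * L.el x * ((n : G) ^ l)⁻¹ = L.el x ^ 2 ^ l := by
          intro l
          induction l with
          | zero => simp
          | succ l ih =>
            calc (n : G) ^ (l + 1) * L.el x * ((n : G) ^ (l + 1))⁻¹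
                = (n : G) * ((n : G) ^ l * L.el x * ((n : G) ^ l)⁻¹) * (n : G)⁻¹ := by
                  rw [pow_succ']; group
              _ = L.el x ^ 2 ^ (l + 1) := by
                  rw [ih, ← conj_pow, ← e, ← pow_mul, ← pow_succ']
        have h' := hconj (3 ^ m)
        rw [hm', inv_one, one_mul, mul_one] at h'
        have hmod : 2 ^ 3 ^ m % 3 = 2 := by
          obtain ⟨l, hl⟩ := (show Odd (3 ^ m) from Odd.pow (by decide))
          rw [hl, pow_succ, pow_mul, Nat.mul_mod, Nat.pow_mod]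
          norm_num
        rw [← Nat.div_add_mod (2 ^ 3 ^ m) 3, hmod, pow_add, pow_mul, hx3, one_pow, one_mul,
          pow_two, left_eq_mul] at h'
        exact p_facts.2.2.2.2.2.2.1 (L.el_inj L.x_mem S.one_mem (h'.trans L.el_one.symm))
    · exfalso
      obtain ⟨w, hw⟩ := xp_conj i k hk
      have hxy : IsConj (L.el x) (L.el (p ^ k.1)) := by
        refine (isConj_iff.2 ⟨(n : G), e.symm⟩).trans (isConj_iff.2 ⟨L.el (jv w), ?_⟩)
        rw [← L.el_conj (L.J0_le (jv_mem w)) (hA9S ⟨i, k, rfl⟩), hw]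
      rcases ((show ∀ a : Fin 3, a ≠ 0 → a = 1 ∨ a = 2 by decide) k hk) with rfl | rfl
      · simp only [Fin.val_one, pow_one] at hxy
        exact h1 hxy.symm
      · rw [show ((2 : Fin 3) : ℕ) = 2 from rfl, L.el_pow hp] at hxy
        obtain ⟨d, hd⟩ := isConj_iff.1 hxy
        refine h2 (isConj_iff.2 ⟨d⁻¹, ?_⟩)
        have hp3 : L.el p ^ 3 = 1 := by rw [← L.el_pow hp, p_facts.1, L.el_one]
        have hp2 : L.el p ^ 2 = (L.el p)⁻¹ :=
          eq_inv_of_mul_eq_one_left (by rw [← pow_succ]; exact hp3)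
        rw [hp2] at hd
        have hd' : L.el p = d * (L.el x)⁻¹ * d⁻¹ := by rw [← inv_inj, ← hd]; group
        rw [hd']
        group
  obtain ⟨P, hP⟩ := (hAp.comap_of_injective Cp.subtype Cp.subtype_injective).exists_le_sylow
  have hPA : (P : Subgroup Cp).map Cp.subtype ≤ A :=
    hsyl _ (P.isPGroup'.map Cp.subtype) (fun a ha => ⟨⟨a, hAC ha⟩, hP ha, rfl⟩) (map_subtype_le _)
  -- a three-subgroup of order at least nine
  set Cs := centralizer ({σ} : Set G) with hCs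
  have hpCs : L.el p ∈ Cs := mem_centralizer_singleton_iff.2 hσp.symm
  set pc : Cs := ⟨L.el p, hpCs⟩ with hpc
  have hcpc : Nat.card (zpowers pc) = 3 := by
    rw [Nat.card_zpowers, ← Subgroup.orderOf_coe]
    refine orderOf_eq_prime (by rw [← L.el_pow hp, p_facts.1, L.el_one]) fun e => p_facts.2.1 ?_
    exact L.el_inj hp S.one_mem (e.trans L.el_one.symm)
  have hpP : IsPGroup 3 (zpowers pc) := IsPGroup.of_card (n := 1) (by rw [hcpc, pow_one])
  obtain ⟨T, hT⟩ := hpP.exists_le_sylow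
  haveI := T.isPGroup'.isNilpotent
  have h9T : 9 ∣ Nat.card T := by
    have hcop : Nat.Coprime 9 (T : Subgroup Cs).index := by
      rw [show (9 : ℕ) = 3 ^ 2 from rfl]
      exact ((Nat.prime_three.coprime_iff_not_dvd).2 T.not_dvd_index).pow_left 2
    exact hcop.dvd_of_dvd_mul_right (by rwa [card_mul_index])
  set Z1 := (zpowers pc).subgroupOf (T : Subgroup Cs) with hZ1
  have hlt : Z1 < ⊤ := lt_top_iff_ne_top.2 fun e => by
    have hle := subgroupOf_eq_top.1 e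
    have := Nat.le_of_dvd Nat.card_pos (h9T.trans (card_dvd_of_le hle))
    rw [hcpc] at this
    omega
  obtain ⟨n, hn, hn1⟩ := SetLike.exists_of_lt (Group.normalizerCondition_of_isNilpotent Z1 hlt)
  set ng : G := ((n : Cs) : G) with hng
  have hnp : ng * L.el p = L.el p * ng := by
    obtain ⟨i, hi⟩ := mem_zpowers_iff.1 (mem_subgroupOf.1
      ((mem_normalizer_iff.1 hn ⟨pc, hT (mem_zpowers pc)⟩).1 (mem_subgroupOf.2 (mem_zpowers pc))))
    have hi' : ng * L.el p * ng⁻¹ = L.el p ^ i := by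
      have := congrArg Subtype.val hi
      rw [SubgroupClass.coe_zpow] at this
      exact this.symm
    have hp3 : L.el p ^ 3 = 1 := by rw [← L.el_pow hp, p_facts.1, L.el_one]
    rw [zpow_eq_zpow_emod' (n := 3) i hp3, Nat.cast_ofNat] at hi'
    have hpne : L.el p ≠ 1 := fun e =>
      p_facts.2.1 (L.el_inj hp S.one_mem (e.trans L.el_one.symm))
    rcases (by omega : i % 3 = 0 ∨ i % 3 = 1 ∨ i % 3 = 2) with h | h | h
    · rw [h, zpow_zero] at hi'
      exact absurd (conj_eq_one_iff.1 hi') hpne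
    · rw [h, zpow_one] at hi'
      exact mul_inv_eq_iff_eq_mul.1 hi'
    · exfalso
      rw [h, show (2 : ℤ) = ((2 : ℕ) : ℤ) from rfl, zpow_natCast] at hi'
      obtain ⟨m, hm⟩ := T.isPGroup' n
      have hm' : ng ^ 3 ^ m = 1 := congrArg (fun w : Cs => (w : G)) (congrArg Subtype.val hm)
      have hconj : ∀ l : ℕ, ng ^ l * L.el p * (ng ^ l)⁻¹ = L.el p ^ 2 ^ l := by
        intro l
        induction l with
        | zero => simp
        | succ l ih =>
          calc ng ^ (l + 1) * L.el p * (ng ^ (l + 1))⁻¹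
              = ng * (ng ^ l * L.el p * (ng ^ l)⁻¹) * ng⁻¹ := by rw [pow_succ']; group
            _ = L.el p ^ 2 ^ (l + 1) := by rw [ih, ← conj_pow, hi', ← pow_mul, ← pow_succ']
      have h' := hconj (3 ^ m)
      rw [hm', inv_one, one_mul, mul_one] at h'
      have hmod : 2 ^ 3 ^ m % 3 = 2 := by
        obtain ⟨l, hl⟩ := (show Odd (3 ^ m) from Odd.pow (by decide))
        rw [hl, pow_succ, pow_mul, Nat.mul_mod, Nat.pow_mod]
        norm_num
      rw [← Nat.div_add_mod (2 ^ 3 ^ m) 3, hmod, pow_add, pow_mul, hp3, one_pow, one_mul,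
        pow_two, left_eq_mul] at h'
      exact hpne h'
  have hnout : ng ∉ zpowers (L.el p) := by
    intro h
    obtain ⟨i, hi⟩ := mem_zpowers_iff.1 h
    exact hn1 (mem_subgroupOf.2 (mem_zpowers_iff.2 ⟨i, Subtype.ext (by
      rw [SubgroupClass.coe_zpow]; exact hi)⟩))
  set U := zpowers ng ⊔ zpowers (L.el p) with hU
  have hngp : IsPGroup 3 (zpowers ng) := by
    obtain ⟨m, hm⟩ := T.isPGroup' n
    have hd : orderOf ng ∣ 3 ^ m := orderOf_dvd_of_pow_eq_one
      (congrArg (fun w : Cs => (w : G)) (congrArg Subtype.val hm))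
    obtain ⟨l, -, hl⟩ := (Nat.dvd_prime_pow Nat.prime_three).1 hd
    exact IsPGroup.of_card (n := l) (by rw [Nat.card_zpowers, hl])
  have hzp3 : IsPGroup 3 (zpowers (L.el p)) := IsPGroup.of_card (n := 1) (by
    rw [Nat.card_zpowers, pow_one, ← hcpc, Nat.card_zpowers, ← Subgroup.orderOf_coe])
  have hUp : IsPGroup 3 U := hngp.to_sup_of_normal_left' hzp3 (zpowers_le.2
    (centralizer_le_normalizer _ (mem_centralizer_iff.2 fun w hw => by
      obtain ⟨i, rfl⟩ := mem_zpowers_iff.1 hw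
      exact ((show Commute ng (L.el p) from hnp).zpow_left i).eq)))
  have hUC : U ≤ Cp := sup_le (zpowers_le.2 (mem_centralizer_singleton_iff.2 hnp))
    (zpowers_le.2 (mem_centralizer_singleton_iff.2 rfl))
  have hUs : U ≤ Cs := sup_le (zpowers_le.2 (n : Cs).2) (zpowers_le.2 hpCs)
  obtain ⟨V, hV⟩ := (hUp.comap_of_injective Cp.subtype Cp.subtype_injective).exists_le_sylow
  obtain ⟨d, hd⟩ := MulAction.exists_smul_eq Cp V P
  have hmem : ∀ u : U, (d : G) * u * (d : G)⁻¹ ∈ A := fun u => by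
    refine hPA ⟨d * ⟨u, hUC u.2⟩ * d⁻¹, ?_, rfl⟩
    show d * ⟨u, hUC u.2⟩ * d⁻¹ ∈ P
    rw [← hd, Sylow.smul_def]
    exact ⟨_, hV u.2, rfl⟩
  set U' := U.map (MulAut.conj (d : G)).toMonoidHom with hU'
  have hU'A : U' ≤ A := by
    rintro _ ⟨u, hu, rfl⟩
    exact hmem ⟨u, hu⟩
  have hU'eq : U' = A := by
    refine eq_of_le_of_card_ge hU'A ?_
    obtain ⟨m, hm⟩ := hUp.exists_card_eq
    rw [hcA, hU', card_map_of_injective (MulEquiv.injective _), hm]
    refine le_trans (by norm_num) (Nat.pow_le_pow_right (by norm_num) (show 2 ≤ m from ?_))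
    by_contra hlt
    refine hnout ((eq_of_le_of_card_ge (le_sup_right : zpowers (L.el p) ≤ U) ?_).ge
      (mem_sup_left (mem_zpowers ng)))
    rw [Nat.card_zpowers, hm]
    refine (Nat.pow_le_pow_right (by norm_num) (show m ≤ 1 by omega)).trans (le_of_eq ?_)
    rw [pow_one, ← hcpc, Nat.card_zpowers, ← Subgroup.orderOf_coe]
  -- the involution lies in the centralizer of `A`, which is `A`
  have hcomm : ∀ a ∈ A, (d : G) * σ * (d : G)⁻¹ * a = a * ((d : G) * σ * (d : G)⁻¹) := by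
    intro a ha
    rw [← hU'eq] at ha
    obtain ⟨u, hu, rfl⟩ := ha
    have hc : u * σ = σ * u := mem_centralizer_singleton_iff.1 (hUs hu)
    show (d : G) * σ * (d : G)⁻¹ * ((d : G) * u * (d : G)⁻¹) =
      (d : G) * u * (d : G)⁻¹ * ((d : G) * σ * (d : G)⁻¹)
    calc (d : G) * σ * (d : G)⁻¹ * ((d : G) * u * (d : G)⁻¹)
        = (d : G) * (σ * u) * (d : G)⁻¹ := by group
      _ = _ := by rw [← hc]; group
  obtain ⟨i, k, e⟩ := hmemA.1 (hcent _ (hcomm _ hxA) (hcomm _ hpA))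
  have hm : x ^ i.1 * p ^ k.1 ∈ S := hA9S ⟨i, k, rfl⟩
  have hsq : (x ^ i.1 * p ^ k.1) ^ 2 = 1 := by
    refine L.el_inj (S.pow_mem hm _) S.one_mem ?_
    rw [L.el_pow hm, e, L.el_one, conj_pow, pow_two, hσ2, mul_one, mul_inv_cancel]
  rw [p_facts.2.2.2.2.2.2.2.2.1 i k hsq, L.el_one] at e
  exact hσ1 (conj_eq_one_iff.1 e.symm)

end CfsgLib.SNineThree.FactsAux
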