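import Cfsg.Agent.Lib.SNineThree.FactsOne
import Cfsg.Agent.Lib.SNineThree.FactsP

/-!
The local facts of the configuration of the symmetric group of degree nine.
-/

set_option autoImplicit false
set_option linter.unusedSectionVars false

namespace CfsgLib.SNineThree

open Subgroup
open CfsgLib.ANineThree (P9)

universe u

theorem FactsAux.normal_of_normal {S : Subgroup P9} {G : Type u} [Group G] [Finite G]
    (L : Loc S G) (hS : S ≤ B) (K : Subgroup G) (hKn : K.Normal) (hJK : L.J ≤ K)
    (hK : ∀ k ∈ K, ∀ j ∈ L.J, k * j * k⁻¹ ∈ L.J) : L.J.Normal := by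
  refine ⟨fun j hj g => ?_⟩
  set A := L.J.map (MulAut.conj g).toMonoidHom with hA
  have hAK : A ≤ K := by
    rintro _ ⟨i, hi, rfl⟩
    exact hKn.conj_mem i (hJK hi) g
  have hAn : A ≤ normalizer (L.J : Set G) := fun a ha => by
    rw [← L.range_normalizer]
    exact FactsAux.mem_range_of_conj L (hK a (hAK ha))
  have hp : IsPGroup 3 ↥(L.J ⊔ A) := (FactsAux.isPGroup_J L).to_sup_of_normal_left'
    ((FactsAux.isPGroup_J L).map _) hAn
  have e := FactsAux.weakly_closed L hS g _ hp le_sup_left (le_sup_right : A ≤ L.J ⊔ A)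
  exact e.le ⟨j, hj, rfl⟩

/-- The local facts. -/
theorem facts (hT : StmtSelfThree.{u}) (hA : StmtAxis.{u}) : StmtFacts.{u} :=
  fun L hS hp => {
    not_dvd := FactsAux.not_dvd L hS
    cent_J := FactsAux.cent_J L hS
    weakly_closed := FactsAux.weakly_closed L hS
    normal_of_normal := FactsAux.normal_of_normal L hS
    fusion := fun _ ha _ hb => FactsAux.fusion L hS ha hb
    cent_two := fun _ ha _ hb => FactsAux.cent_two L hS hT ha hb
    cent_one := fun _ hj => FactsAux.cent_one L hS hT hA hj
    p_conj := fun _ hj => FactsAux.p_conj L hS hp hj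
    p_inv := FactsAux.p_inv L hS hp }

end CfsgLib.SNineThree
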