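import Cfsg.Agent.Lib.ANineThree.LocalModel
import Cfsg.Agent.Lib.SNineThree.Basic

/-!
Facts on the stabilizer of the blocks, checked over its 1296 elements.
-/

set_option autoImplicit false
set_option maxRecDepth 100000
set_option synthInstance.maxSize 2000
set_option synthInstance.maxHeartbeats 200000

namespace CfsgLib.SNineThree.FactsAux

open Equiv
open CfsgLib.ANineThree (P9 x p z z2 z3)
open CfsgLib.ANineThree.LocalAux

theorem exists_codeB {σ : P9} (h : σ ∈ B) : ∃ c, mkB c = σ := by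
  obtain ⟨g, hg⟩ : ∃ g : Fin 3 → Fin 3 → Fin 3 × Fin 3,
      g = fun i j => e9.symm (σ (e9 (i, j))) := ⟨_, rfl⟩
  have hgσ : ∀ i j, e9 (g i j) = σ (e9 (i, j)) := fun i j => by
    rw [hg]; exact Equiv.apply_symm_apply _ _
  have key : ∀ u : Fin 3 × Fin 3, (e9 u : Fin 9).1 / 3 = u.1.1 := by decide +kernel
  have hblk : ∀ i j i' j', (g i j).1 = (g i' j').1 ↔ i = i' := fun i j i' j' => by
    have := (mem_B.1 h) (e9 (i, j)) (e9 (i', j'))
    rw [← hgσ, ← hgσ, key, key, key, key, ← Fin.ext_iff, ← Fin.ext_iff] at this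
    exact this
  have hπ : Function.Bijective fun i => (g i 0).1 :=
    (Finite.injective_iff_bijective).1 fun a b e => (hblk a 0 b 0).1 e
  have hf : ∀ i, Function.Bijective fun j => (g i j).2 := fun i =>
    (Finite.injective_iff_bijective).1 fun a b e => by
      have e' : g i a = g i b := Prod.ext ((hblk i a i b).2 rfl) e
      have := congrArg e9 e'
      rw [hgσ, hgσ] at this
      exact congrArg Prod.snd (e9.injective (σ.injective this))
  refine ⟨(ofBijective _ hπ, ofBijective _ (hf 0), ofBijective _ (hf 1), ofBijective _ (hf 2)),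
    Equiv.ext fun k => ?_⟩
  obtain ⟨⟨i, j⟩, rfl⟩ := e9.surjective k
  rw [mkB_apply, ← hgσ]
  refine congrArg _ (Prod.ext ((hblk i 0 i j).2 rfl) ?_)
  fin_cases i <;> rfl

theorem mkB_mem (c : Code) : mkB c ∈ B := mem_B.2 (mkB_blocks c)

theorem code_J0 : ∀ c : Code, mkB c * x = x * mkB c →
    (∀ i : Fin 9, (mkB c i).1 / 3 = i.1 / 3) → ∃ v, mkB c = jv v := by decide +kernel

theorem code_cent_all : ∀ c : Code, mkB c * z = z * mkB c → mkB c * z2 = z2 * mkB c →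
    mkB c * z3 = z3 * mkB c → ∃ v, mkB c = jv v := by decide +kernel

theorem code_plane : ∀ c : Code, Perm.sign (mkB c) = 1 →
    9 ≤ (Finset.univ.filter fun v => mkB c * jv v = jv v * mkB c).card →
    ∃ v, mkB c = jv v := by decide +kernel

theorem code_cent_xp : ∀ c : Code, mkB c * x = x * mkB c → mkB c * p = p * mkB c →
    ∃ i k : Fin 3, mkB c = x ^ i.1 * p ^ k.1 := by decide +kernel

theorem p_cent : ∀ v : Fin 3 × Fin 3 × Fin 3, ∀ k : Fin 3, k ≠ 0 → ∀ w : Fin 3 × Fin 3 × Fin 3,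
    jv v * p ^ k.1 * jv w = jv w * (jv v * p ^ k.1) → w = 0 ∨ jv w = x ∨ jv w = x⁻¹ := by
  decide +kernel

theorem xp_conj : ∀ i k : Fin 3, k ≠ 0 →
    ∃ w : Fin 3 × Fin 3 × Fin 3, jv w * (x ^ i.1 * p ^ k.1) * (jv w)⁻¹ = p ^ k.1 := by
  decide +kernel

theorem p_facts : p ^ 3 = 1 ∧ p ≠ 1 ∧ p ∈ CfsgLib.ANineThree.Hm ∧ p * x = x * p ∧
    (∃ i : Fin 9, (p i).1 / 3 ≠ i.1 / 3) ∧ x ^ 3 = 1 ∧ x ≠ 1 ∧ jv (1, 1, 1) = x ∧
    (∀ i k : Fin 3, (x ^ i.1 * p ^ k.1) ^ 2 = 1 → x ^ i.1 * p ^ k.1 = 1) ∧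
    (∀ i k : Fin 3, x ^ i.1 * p ^ k.1 = 1 → i = 0 ∧ k = 0) := by
  decide +kernel

end CfsgLib.SNineThree.FactsAux
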