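import Cfsg.Agent.Lib.ANineThree.LocalModel
import Cfsg.Agent.Lib.SNineThree.Basic

/-!
The orders of the stabilizers in the blocks' stabilizer of the elements of order three of the base
group.
-/

set_option autoImplicit false
set_option maxRecDepth 100000
set_option Elab.async false
set_option synthInstance.maxSize 2000
set_option synthInstance.maxHeartbeats 200000

namespace CfsgLib.SNineThree.FactsAux

open Equiv
open CfsgLib.ANineThree (P9 x p z z2 z3)
open CfsgLib.ANineThree.LocalAux

/-- The alternatives for one element of the base group. -/
abbrev StabProp (v : Fin 3 × Fin 3 × Fin 3) : Prop :=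
    (Finset.univ.filter fun c : Code => mkB c * jv v = jv v * mkB c).card ≤ 108 ∨
    ((Finset.univ.filter fun c : Code => mkB c * jv v = jv v * mkB c).card ≤ 216 ∧
      ∃ c : Code, mkB c * jv v = jv v * mkB c ∧
        (mkB c * mkB c * x ≠ x * (mkB c * mkB c) ∨
          ∃ i : Fin 9, ((mkB c * mkB c) i).1 / 3 ≠ i.1 / 3))

theorem code_stab_001 : StabProp (0, 0, 1) := by decide +kernel
theorem code_stab_002 : StabProp (0, 0, 2) := by decide +kernel
theorem code_stab_010 : StabProp (0, 1, 0) := by decide +kernel
theorem code_stab_011 : StabProp (0, 1, 1) := by decide +kernel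
theorem code_stab_012 : StabProp (0, 1, 2) := by decide +kernel
theorem code_stab_020 : StabProp (0, 2, 0) := by decide +kernel
theorem code_stab_021 : StabProp (0, 2, 1) := by decide +kernel
theorem code_stab_022 : StabProp (0, 2, 2) := by decide +kernel
theorem code_stab_100 : StabProp (1, 0, 0) := by decide +kernel
theorem code_stab_101 : StabProp (1, 0, 1) := by decide +kernel
theorem code_stab_102 : StabProp (1, 0, 2) := by decide +kernel
theorem code_stab_110 : StabProp (1, 1, 0) := by decide +kernel
theorem code_stab_111 : StabProp (1, 1, 1) := by decide +kernel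
theorem code_stab_112 : StabProp (1, 1, 2) := by decide +kernel
theorem code_stab_120 : StabProp (1, 2, 0) := by decide +kernel
theorem code_stab_121 : StabProp (1, 2, 1) := by decide +kernel
theorem code_stab_122 : StabProp (1, 2, 2) := by decide +kernel
theorem code_stab_200 : StabProp (2, 0, 0) := by decide +kernel
theorem code_stab_201 : StabProp (2, 0, 1) := by decide +kernel
theorem code_stab_202 : StabProp (2, 0, 2) := by decide +kernel
theorem code_stab_210 : StabProp (2, 1, 0) := by decide +kernel
theorem code_stab_211 : StabProp (2, 1, 1) := by decide +kernel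
theorem code_stab_212 : StabProp (2, 1, 2) := by decide +kernel
theorem code_stab_220 : StabProp (2, 2, 0) := by decide +kernel
theorem code_stab_221 : StabProp (2, 2, 1) := by decide +kernel
theorem code_stab_222 : StabProp (2, 2, 2) := by decide +kernel

theorem code_stab : ∀ v : Fin 3 × Fin 3 × Fin 3, v ≠ 0 →
    (Finset.univ.filter fun c : Code => mkB c * jv v = jv v * mkB c).card ≤ 108 ∨
    ((Finset.univ.filter fun c : Code => mkB c * jv v = jv v * mkB c).card ≤ 216 ∧
      ∃ c : Code, mkB c * jv v = jv v * mkB c ∧
        (mkB c * mkB c * x ≠ x * (mkB c * mkB c) ∨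
          ∃ i : Fin 9, ((mkB c * mkB c) i).1 / 3 ≠ i.1 / 3)) := by
  rintro ⟨a, b, c⟩ hv
  fin_cases a <;> fin_cases b <;> fin_cases c
  · exact absurd rfl hv
  · exact code_stab_001
  · exact code_stab_002
  · exact code_stab_010
  · exact code_stab_011
  · exact code_stab_012
  · exact code_stab_020
  · exact code_stab_021
  · exact code_stab_022
  · exact code_stab_100
  · exact code_stab_101
  · exact code_stab_102
  · exact code_stab_110
  · exact code_stab_111
  · exact code_stab_112
  · exact code_stab_120
  · exact code_stab_121
  · exact code_stab_122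
  · exact code_stab_200
  · exact code_stab_201
  · exact code_stab_202
  · exact code_stab_210
  · exact code_stab_211
  · exact code_stab_212
  · exact code_stab_220
  · exact code_stab_221
  · exact code_stab_222

end CfsgLib.SNineThree.FactsAux
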