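import Cfsg.Agent.Lib.SNineThree.FactsTwo
import Cfsg.Agent.Lib.SNineThree.FactsModelStab

/-!
The centralizer of an element of `J` with automizer of exponent two lies in the normalizer of `J`.
-/

set_option autoImplicit false
set_option linter.unusedSectionVars false
set_option linter.style.haveILetI false

namespace CfsgLib.SNineThree.FactsAux

open Equiv Subgroup
open CfsgLib.ANineThree (P9)
open CfsgLib.ANineThree.LocalAux

universe u

variable {S : Subgroup P9} {G : Type u} [Group G] [Finite G] (L : Loc S G)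

/-- A subgroup of index three avoiding a nontrivial element of an elementary abelian group. -/
theorem exists_avoid {A : Type u} [CommGroup A] [Finite A] (hA : ∀ a : A, a ^ 3 = 1) {w : A}
    (hw : w ≠ 1) : ∃ E : Subgroup A, w ∉ E ∧ ∀ u : A, ∃ k : ℕ, u * (w ^ k)⁻¹ ∈ E := by
  obtain ⟨E, -, hE⟩ := Finite.exists_le_maximal (p := fun K : Subgroup A => w ∉ K)
    (show w ∉ (⊥ : Subgroup A) from fun h => hw (mem_bot.1 h))
  refine ⟨E, hE.prop, fun u => ?_⟩
  by_cases hu : u ∈ E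
  · exact ⟨0, by simpa using hu⟩
  have hwK : w ∈ E ⊔ zpowers u := by
    by_contra hwK
    exact hu (hE.2 hwK le_sup_left (mem_sup_right (mem_zpowers u)))
  obtain ⟨y, hy, q, hq, e⟩ := mem_sup.1 hwK
  obtain ⟨i, rfl⟩ := mem_zpowers_iff.1 hq
  have hi3 : u ^ i = u ^ (i % 3) :=
    zpow_eq_zpow_emod' (n := 3) i (hA u)
  rcases (by omega : i % 3 = 0 ∨ i % 3 = 1 ∨ i % 3 = 2) with h | h | h
  · rw [hi3, h, zpow_zero, mul_one] at e
    exact absurd (e ▸ hy) hE.prop
  · rw [hi3, h, zpow_one] at e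
    refine ⟨1, ?_⟩
    rw [pow_one, show u = y⁻¹ * w by rw [← e, inv_mul_cancel_left], mul_inv_cancel_right]
    exact E.inv_mem hy
  · rw [hi3, h, show (2 : ℤ) = ((2 : ℕ) : ℤ) from rfl, zpow_natCast] at e
    refine ⟨2, ?_⟩
    have hu2 : u ^ 2 = y⁻¹ * w := by rw [← e, inv_mul_cancel_left]
    have hu' : u = (y⁻¹ * w) ^ 2 := by
      rw [← hu2, ← pow_mul, show 2 * 2 = 3 + 1 from rfl, pow_succ, hA, one_mul]
    rw [hu', mul_pow, mul_inv_cancel_right]
    exact E.pow_mem (E.inv_mem hy) 2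

/-- The stabilizer of such an element has order at most `108`. -/
theorem card_stab_le (hS : S ≤ B) {j : P9} (hj : j ∈ J0) (hj1 : j ≠ 1)
    (hsq : ∀ σ ∈ S, σ * j = j * σ → σ * σ ∈ J0) :
    Nat.card ↥(centralizer ({L.el j} : Set G) ⊓ L.e.range) ≤ 108 := by
  rw [← card_pre L inf_le_right]
  set A := pre L (centralizer ({L.el j} : Set G) ⊓ L.e.range) with hAd
  set D := B ⊓ centralizer ({j} : Set P9) with hD
  have hAD : A ≤ D := fun σ hσ => by
    obtain ⟨hσS, hσC, -⟩ := (mem_pre L).1 hσ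
    exact ⟨hS hσS, mem_centralizer_singleton_iff.2
      ((L.commute_el hσS (L.J0_le hj)).1 (mem_centralizer_singleton_iff.1 hσC))⟩
  obtain ⟨v, rfl⟩ := mem_J0_iff.1 hj
  have hv : v ≠ 0 := fun e => hj1 (by rw [e, jv_zero])
  have hcD : Nat.card D = (Finset.univ.filter fun c : Code =>
      mkB c * jv v = jv v * mkB c).card := by
    rw [← Fintype.card_subtype, ← Nat.card_eq_fintype_card]
    refine (Nat.card_congr (Equiv.ofBijective
      (fun c : {c : Code // mkB c * jv v = jv v * mkB c} =>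
        (⟨mkB c.1, mkB_mem c.1, mem_centralizer_singleton_iff.2 c.2⟩ : D))
      ⟨fun a b e => Subtype.ext (mkB_injective (congrArg (fun q : D => (q : P9)) e)),
        fun σ => ?_⟩)).symm
    obtain ⟨c, hc⟩ := exists_codeB σ.2.1
    exact ⟨⟨c, by rw [hc]; exact mem_centralizer_singleton_iff.1 σ.2.2⟩, Subtype.ext hc⟩
  rcases code_stab v hv with h | ⟨h, c, hc, hbad⟩
  · exact (Nat.le_of_dvd Nat.card_pos (card_dvd_of_le hAD)).trans (hcD ▸ h)
  · have hne : A ≠ D := by
      intro e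
      have hm : mkB c ∈ A := e ▸ ⟨mkB_mem c, mem_centralizer_singleton_iff.2 hc⟩
      have h0 := hsq _ ((mem_pre L).1 hm).1 hc
      rcases hbad with hx | ⟨i, hi⟩
      exacts [hx (mem_J0.1 h0).1, hi ((mem_J0.1 h0).2 i)]
    obtain ⟨m, hm⟩ := card_dvd_of_le hAD
    have hD0 : 0 < Nat.card D := Nat.card_pos
    have hm1 : 2 ≤ m := by
      by_contra hlt
      rcases (show m = 0 ∨ m = 1 by omega) with rfl | rfl
      · omega
      · exact hne (eq_of_le_of_card_ge hAD (by omega))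
    have : Nat.card A * 2 ≤ Nat.card D := hm ▸ Nat.mul_le_mul_left _ hm1
    omega

/-- A normal subgroup of index three avoiding the central element. -/
theorem exists_index_three {C : Subgroup G} {P : Sylow 3 C}
    (hP : (P : Subgroup C) = L.J.subgroupOf C) {jc : C} (hjJ : (jc : G) ∈ L.J) (hj1 : jc ≠ 1)
    (hcj : ∀ c : C, Commute c jc) :
    ∃ M : Subgroup C, M.Normal ∧ jc ∉ M ∧ ∀ c : C, ∃ k : ℕ, c * (jc ^ k)⁻¹ ∈ M := by
  haveI : Fact (Nat.Prime 3) := ⟨Nat.prime_three⟩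
  -- the transfer
  haveI hab : IsMulCommutative (P : Subgroup C) := ⟨⟨fun g h => Subtype.ext (Subtype.ext
    (J_comm L (mem_subgroupOf.1 (hP.le g.2)) (mem_subgroupOf.1 (hP.le h.2))))⟩⟩
  letI : CommGroup (P : Subgroup C) :=
    { (inferInstance : Group (P : Subgroup C)) with mul_comm := fun a b => hab.is_comm.comm a b }
  have hjP : jc ∈ (P : Subgroup C) := hP.ge (mem_subgroupOf.2 hjJ)
  have hP3 : ∀ a : (P : Subgroup C), a ^ 3 = 1 := fun a => Subtype.ext (Subtype.ext (by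
    rw [SubmonoidClass.coe_pow, SubmonoidClass.coe_pow]
    exact J_cube L (mem_subgroupOf.1 (hP.le a.2))))
  have hcent : ∀ (k : ℕ) (g₀ : C), g₀⁻¹ * jc ^ k * g₀ ∈ (P : Subgroup C) →
      g₀⁻¹ * jc ^ k * g₀ = jc ^ k := by
    intro k g₀ _
    rw [mul_assoc, ← ((hcj g₀).pow_right k).eq, inv_mul_cancel_left]
  set ψ := MonoidHom.transfer (MonoidHom.id (P : Subgroup C)) with hψ
  have hψj : ((ψ jc : (P : Subgroup C)) : C) = jc ^ (P : Subgroup C).index := by
    rw [hψ, MonoidHom.transfer_eq_pow _ _ hcent]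
    rfl
  have hψne : ψ jc ≠ 1 := by
    intro e
    rw [e] at hψj
    refine hj1 ?_
    have h1 : orderOf jc ∣ (P : Subgroup C).index := orderOf_dvd_of_pow_eq_one hψj.symm
    have h2 : orderOf jc ∣ 3 := orderOf_dvd_of_pow_eq_one (Subtype.ext (by
      rw [SubmonoidClass.coe_pow]; exact J_cube L hjJ))
    have h3' : orderOf jc = 1 := Nat.eq_one_of_dvd_coprimes
      ((Nat.prime_three.coprime_iff_not_dvd).2 P.not_dvd_index) h2 h1
    exact orderOf_eq_one_iff.1 h3'
  obtain ⟨E', hwE, hE'⟩ := exists_avoid hP3 hψne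
  refine ⟨E'.comap ψ, inferInstance, hwE, fun c => ?_⟩
  obtain ⟨k, hk⟩ := hE' (ψ c)
  exact ⟨k, mem_comap.2 (by rw [map_mul, map_inv, map_pow]; exact hk)⟩

set_option maxHeartbeats 1200000 in
/-- The normal subgroup of index three normalizes `J`. -/
theorem index_three_le (hS : S ≤ B) (hT : StmtSelfThree.{u}) (hA : StmtAxis.{u}) {j : P9}
    (hj : j ∈ J0) (hj1 : j ≠ 1) (hsq : ∀ σ ∈ S, σ * j = j * σ → σ * σ ∈ J0)
    {C : Subgroup G} (hC : C = centralizer ({L.el j} : Set G)) {P : Sylow 3 C}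
    (hP : (P : Subgroup C) = L.J.subgroupOf C) {jc : C} (hjc : (jc : G) = L.el j)
    (M : Subgroup C) (hMn : M.Normal) (hjM : jc ∉ M)
    (hdecC : ∀ c : C, ∃ k : ℕ, c * (jc ^ k)⁻¹ ∈ M) : C ≤ L.e.range := by
  haveI : Fact (Nat.Prime 3) := ⟨Nat.prime_three⟩
  have hjJ : L.el j ∈ L.J := L.mem_J.2 ⟨j, hj, rfl⟩
  have hJC : L.J ≤ C := fun i hi => hC ▸ mem_centralizer_singleton_iff.2 (J_comm L hi hjJ)
  have hjC : L.el j ∈ C := hJC hjJ
  have hcj : ∀ c : C, (c : G) * L.el j = L.el j * c := fun c =>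
    mem_centralizer_singleton_iff.1 (hC ▸ c.2 : (c : G) ∈ centralizer ({L.el j} : Set G))
  obtain rfl : jc = ⟨L.el j, hjC⟩ := Subtype.ext hjc
  set M' := M.map C.subtype with hM'
  have hM'C : M' ≤ C := map_subtype_le _
  set E := L.J ⊓ M' with hEd
  have hjE : L.el j ∉ E := by
    rintro ⟨-, m, hm, e⟩
    exact hjM ((show m = (⟨L.el j, hjC⟩ : C) from Subtype.ext e) ▸ hm)
  have hdecJ : ∀ i ∈ L.J, ∃ k : ℕ, i * (L.el j ^ k)⁻¹ ∈ E := by
    intro i hi
    obtain ⟨k, hk⟩ := hdecC ⟨i, hJC hi⟩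
    exact ⟨k, mem_inf.2 ⟨mul_mem hi (inv_mem (pow_mem hjJ _)), ⟨_, hk, rfl⟩⟩⟩
  have hj3 : ∀ k : ℕ, L.el j ^ k = L.el j ^ (k % 3) := fun k => by
    conv_lhs => rw [← Nat.div_add_mod k 3, pow_add, pow_mul, J_cube L hjJ, one_pow, one_mul]
  have hjk : ∀ k : ℕ, k < 3 → L.el j ^ k ∈ E → k = 0 := by
    intro k hk h
    interval_cases k
    · rfl
    · exact absurd (by simpa using h) hjE
    · refine absurd ?_ hjE
      have := mul_mem h h
      rwa [← pow_add, show 2 + 2 = 3 + 1 from rfl, pow_succ, J_cube L hjJ, one_mul] at this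
  have hcE : Nat.card E = 9 := by
    have hbij : Function.Bijective fun q : E × Fin 3 =>
        (⟨(q.1 : G) * L.el j ^ q.2.1, mul_mem q.1.2.1 (pow_mem hjJ _)⟩ : L.J) := by
      refine ⟨fun q q' h => ?_, fun i => ?_⟩
      · have h' : (q.1 : G) * L.el j ^ q.2.1 = q'.1 * L.el j ^ q'.2.1 := congrArg Subtype.val h
        have hk : q.2 = q'.2 := by
          have key : ∀ a b : E × Fin 3, (a.1 : G) * L.el j ^ a.2.1 = b.1 * L.el j ^ b.2.1 →
              b.2.1 ≤ a.2.1 → a.2 = b.2 := by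
            intro a b e hle
            have h0 := hjk (a.2.1 - b.2.1) (by omega) (by
              have e2 : L.el j ^ (a.2.1 - b.2.1) = (a.1 : G)⁻¹ * b.1 := by
                have e3 : L.el j ^ a.2.1 = (a.1 : G)⁻¹ * b.1 * L.el j ^ b.2.1 := by
                  rw [mul_assoc, ← e, inv_mul_cancel_left]
                rw [← Nat.sub_add_cancel hle, pow_add] at e3
                exact mul_right_cancel e3
              rw [e2]; exact mul_mem (inv_mem a.1.2) b.1.2)
            exact Fin.ext (by omega)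
          rcases Nat.le_total q'.2.1 q.2.1 with hle | hle
          exacts [key q q' h' hle, (key q' q h'.symm hle).symm]
        rw [hk] at h'
        exact Prod.ext (Subtype.ext (mul_right_cancel h')) hk
      · obtain ⟨k, hk⟩ := hdecJ i i.2
        refine ⟨(⟨_, hk⟩, ⟨k % 3, Nat.mod_lt _ (by norm_num)⟩), Subtype.ext ?_⟩
        show (i : G) * (L.el j ^ k)⁻¹ * L.el j ^ (k % 3) = i
        rw [← hj3, inv_mul_cancel_right]
    have h := Nat.card_congr (Equiv.ofBijective _ hbij)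
    rw [Nat.card_prod, Nat.card_fin, card_J L] at h
    omega
  set E1 := E.subgroupOf M' with hE1
  have hcE1 : Nat.card E1 = 9 := by
    rw [hE1, Nat.card_congr (subgroupOfEquivOfLe inf_le_right).toEquiv, hcE]
  have hmemE1 : ∀ a : M', a ∈ E1 ↔ (a : G) ∈ L.J := fun a =>
    ⟨fun h => (mem_subgroupOf.1 h).1, fun h => mem_subgroupOf.2 ⟨h, a.2⟩⟩
  -- `E` is a Sylow subgroup of `M`
  obtain ⟨T, hT'⟩ := (IsPGroup.of_card (n := 2) (by rw [hcE1]; norm_num) :
    IsPGroup 3 E1).exists_le_sylow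
  have hTE : (T : Subgroup M') = E1 := by
    refine (eq_of_le_of_card_ge hT' ?_).symm
    obtain ⟨c, hc, hct⟩ := conj_into L hP (T.isPGroup'.map M'.subtype)
      ((map_subtype_le _).trans hM'C)
    have hmem : ∀ t : (T : Subgroup M'), c * ((t : M') : G) * c⁻¹ ∈ E := fun t => by
      refine ⟨hct _ ⟨t, t.2, rfl⟩, ?_⟩
      obtain ⟨m, hm, e⟩ := (t : M').2
      exact ⟨⟨c, hc⟩ * m * ⟨c, hc⟩⁻¹, hMn.conj_mem m hm _, by
        show c * (m : G) * c⁻¹ = _; rw [show (m : G) = (t : M') from e]⟩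
    rw [hcE1, ← hcE]
    exact Nat.card_le_card_of_injective (fun t => (⟨_, hmem t⟩ : E)) fun s t e =>
      Subtype.ext (Subtype.ext (mul_left_cancel (mul_right_cancel (congrArg Subtype.val e))))
  have hM'j : ∀ m : M', (m : G) * L.el j = L.el j * m := fun m => hcj ⟨m, hM'C m.2⟩
  have hnorm : ∀ m : M', (m : G) ∈ L.e.range → m ∈ normalizer (E1 : Set M') := fun m hm => by
    refine mem_normalizer_iff.2 fun a => ?_
    rw [hmemE1, hmemE1]
    exact mem_normalizer_iff.1 (show (m : G) ∈ normalizer (L.J : Set G) from L.range_normalizer ▸ hm) a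
  have hNr : ∀ m ∈ normalizer (E1 : Set M'), (m : G) ∈ L.e.range := by
    intro m hm
    refine mem_range_of_conj L fun i hi => ?_
    obtain ⟨k, hk⟩ := hdecJ i hi
    have h1 := (hmemE1 _).1 ((mem_normalizer_iff.1 hm ⟨_, hk.2⟩).1 ((hmemE1 _).2 hk.1))
    have e : (m : G) * L.el j ^ k * (m : G)⁻¹ = L.el j ^ k := by
      rw [((show Commute (m : G) (L.el j) from hM'j m).pow_right k).eq, mul_inv_cancel_right]
    have e' : (m : G) * i * (m : G)⁻¹ =
        (m : G) * (i * (L.el j ^ k)⁻¹) * (m : G)⁻¹ * ((m : G) * L.el j ^ k * (m : G)⁻¹) := by group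
    rw [e', e]
    exact mul_mem h1 (pow_mem hjJ _)
  have hcentE : centralizer (E1 : Set M') = E1 ⊔ ⊥ := by
    rw [sup_bot_eq]
    refine le_antisymm (fun m hm => (hmemE1 m).2 ?_) fun a ha => mem_centralizer_iff.2 fun b hb =>
      Subtype.ext (J_comm L ((hmemE1 b).1 hb) ((hmemE1 a).1 ha))
    rw [← cent_J L hS]
    refine mem_centralizer_iff.2 fun i hi => ?_
    obtain ⟨k, hk⟩ := hdecJ i hi
    have h1 : Commute (m : G) (i * (L.el j ^ k)⁻¹) := (congrArg Subtype.val
      (mem_centralizer_iff.1 hm ⟨_, hk.2⟩ ((hmemE1 _).2 hk.1))).symm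
    have h2 := h1.mul_right ((show Commute (m : G) (L.el j) from hM'j m).pow_right k)
    rw [inv_mul_cancel_right] at h2
    exact h2.symm.eq
  have htop : normalizer (E1 : Set M') = ⊤ := by
    refine hA T E1 ⊥ hTE.symm hcE1 (fun e he => Subtype.ext ?_) bot_le (by simp) hcentE ?_ ?_ ?_ ?_
    · rw [SubmonoidClass.coe_pow]; exact J_cube L ((hmemE1 e).1 he)
    · intro e he he1 m hm
      refine hnorm m ?_
      obtain ⟨b, hb, hbe⟩ := L.mem_J.1 ((hmemE1 e).1 he)
      refine cent_two L hS hT hj hb hj1 ?_ (mem_centralizer_iff.2 ?_)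
      · intro hbz
        obtain ⟨i, hi⟩ := mem_zpowers_iff.1 hbz
        have e1 : L.el b = L.el j ^ i := by
          rw [← hi, L.el_eq (S.zpow_mem (L.J0_le hj) i), L.el_eq (L.J0_le hj), ← map_zpow]; rfl
        obtain ⟨k, hk⟩ : ∃ k : ℕ, k < 3 ∧ L.el j ^ i = L.el j ^ k :=
          ⟨(i % 3).toNat, by omega, by
            rw [zpow_eq_zpow_emod' (n := 3) i (J_cube L hjJ), ← zpow_natCast]
            congr 1
            omega⟩
        have hmem : L.el j ^ k ∈ E := hk.2 ▸ e1 ▸ hbe ▸ mem_subgroupOf.1 he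
        have hk0 := hjk k hk.1 hmem
        refine he1 (Subtype.ext ?_)
        rw [← hbe, e1, hk.2, hk0, pow_zero]
        rfl
      · rintro g (rfl | rfl)
        · exact (hM'j m).symm
        · rw [hbe]; exact (congrArg Subtype.val (mem_centralizer_singleton_iff.1 hm)).symm
    · intro W hW hWn
      refine le_bot_iff.2 ((map_eq_bot_iff_of_injective _ M'.subtype_injective).1 ?_)
      refine L.signalizer _ (by rwa [card_map_of_injective M'.subtype_injective]) ?_
      rintro i hi _ ⟨w, hw, rfl⟩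
      obtain ⟨k, hk⟩ := hdecJ i hi
      refine ⟨_, (mem_normalizer_iff.1 (hWn ((hmemE1 ⟨_, hk.2⟩).2 hk.1)) w).1 hw, ?_⟩
      show i * (L.el j ^ k)⁻¹ * (w : G) * (i * (L.el j ^ k)⁻¹)⁻¹ = i * w * i⁻¹
      have hcw : Commute ((L.el j ^ k)⁻¹) (w : G) :=
        ((show Commute (w : G) (L.el j) from hM'j w).pow_right k).symm.inv_left
      rw [mul_assoc i, hcw.eq]
      group
    · intro g hg
      rw [hcentE, sup_bot_eq, hmemE1]
      obtain ⟨σ, hσ, e⟩ := L.mem_range.1 (hNr g hg)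
      rw [Subgroup.coe_mul, ← e, ← L.el_mul hσ hσ, el_mem_J L (S.mul_mem hσ hσ)]
      exact hsq σ hσ ((L.commute_el hσ (L.J0_le hj)).1 (e.symm ▸ hM'j g))
    · have hN36 : Nat.card (normalizer (E1 : Set M')) * 3 ≤ 108 := by
        refine le_trans (le_of_eq ?_) ((Nat.card_le_card_of_injective
          (fun q : normalizer (E1 : Set M') × Fin 3 =>
            (⟨((q.1 : M') : G) * L.el j ^ q.2.1, mul_mem (hM'C (q.1 : M').2) (pow_mem hjC _),
              mul_mem (hNr _ q.1.2) (pow_mem (L.el_mem (L.J0_le hj)) _)⟩ :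
              ↥(C ⊓ L.e.range))) ?_).trans (hC ▸ card_stab_le L hS hj hj1 hsq))
        · rw [Nat.card_prod, Nat.card_fin]
        · intro q q' h
          have h' : ((q.1 : M') : G) * L.el j ^ q.2.1 = (q'.1 : M') * L.el j ^ q'.2.1 :=
            congrArg Subtype.val h
          have key : ∀ (a b : M') (k l : Fin 3), (a : G) * L.el j ^ k.1 = b * L.el j ^ l.1 →
              l.1 ≤ k.1 → k = l := by
            intro a b k l e hle
            have e3 : L.el j ^ k.1 = (a : G)⁻¹ * b * L.el j ^ l.1 := by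
              rw [mul_assoc, ← e, inv_mul_cancel_left]
            rw [← Nat.sub_add_cancel hle, pow_add] at e3
            have h0 := hjk (k.1 - l.1) (by omega) (mem_inf.2 ⟨pow_mem hjJ _,
              (mul_right_cancel e3) ▸ mul_mem (inv_mem a.2) b.2⟩)
            exact Fin.ext (by omega)
          have hk : q.2 = q'.2 := by
            rcases Nat.le_total q'.2.1 q.2.1 with hle | hle
            exacts [key _ _ _ _ h' hle, (key _ _ _ _ h'.symm hle).symm]
          rw [hk] at h'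
          exact Prod.ext (Subtype.ext (Subtype.ext (mul_right_cancel h'))) hk
      rw [hcentE, sup_bot_eq]
      have h := card_mul_index (E1.subgroupOf (normalizer (E1 : Set M')))
      rw [Nat.card_congr (subgroupOfEquivOfLe le_normalizer).toEquiv, hcE1] at h
      omega
  intro c hc
  obtain ⟨k, hk⟩ := hdecC ⟨c, hc⟩
  have hm := hNr ⟨_, _, hk, rfl⟩ (htop.ge (mem_top _))
  have := mul_mem hm (pow_mem (L.el_mem (L.J0_le hj)) k)
  change c * (L.el j ^ k)⁻¹ * L.el j ^ k ∈ L.e.range at this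
  rwa [inv_mul_cancel_right] at this

theorem cent_one (hS : S ≤ B) (hT : StmtSelfThree.{u}) (hA : StmtAxis.{u}) {j : P9}
    (hj : j ∈ J0) (hj1 : j ≠ 1) (hsq : ∀ σ ∈ S, σ * j = j * σ → σ * σ ∈ J0) :
    centralizer ({L.el j} : Set G) ≤ L.e.range := by
  haveI : Fact (Nat.Prime 3) := ⟨Nat.prime_three⟩
  set C := centralizer ({L.el j} : Set G) with hC
  have hjJ : L.el j ∈ L.J := L.mem_J.2 ⟨j, hj, rfl⟩
  have hj1' : L.el j ≠ 1 := fun e =>
    hj1 (L.el_inj (L.J0_le hj) S.one_mem (e.trans L.el_one.symm))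
  have hJC : L.J ≤ C := fun i hi => mem_centralizer_singleton_iff.2 (J_comm L hi hjJ)
  have hjC : L.el j ∈ C := hJC hjJ
  have hcj : ∀ c : C, (c : G) * L.el j = L.el j * c := fun c =>
    mem_centralizer_singleton_iff.1 c.2
  have h3 : ∀ σ ∈ S, L.el σ ∈ C → (∃ k, σ ^ 3 ^ k = 1) → σ ∈ J0 := by
    rintro σ hσ hσC ⟨k, hk⟩
    have h2 := hsq σ hσ ((L.commute_el hσ (L.J0_le hj)).1 (mem_centralizer_singleton_iff.1 hσC))
    have h6 : σ ^ 6 = 1 := by rw [show 6 = 2 * 3 from rfl, pow_mul, pow_two, J0_cube h2]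
    have h33 : σ ^ 3 = 1 := by
      have hd : orderOf σ ∣ Nat.gcd 6 (3 ^ k) :=
        Nat.dvd_gcd (orderOf_dvd_of_pow_eq_one h6) (orderOf_dvd_of_pow_eq_one hk)
      have hg : Nat.gcd 6 (3 ^ k) ∣ 3 := by
        rw [show (6 : ℕ) = 2 * 3 from rfl,
          Nat.Coprime.gcd_mul_left_cancel 3 ((Nat.Coprime.pow_right k (by norm_num)))]
        exact Nat.gcd_dvd_left _ _
      exact orderOf_dvd_iff_pow_eq_one.1 (hd.trans hg)
    have e : σ = (σ * σ) * (σ * σ) := by
      calc σ = σ * σ ^ 3 := by rw [h33, mul_one]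
        _ = (σ * σ) * (σ * σ) := by rw [pow_succ, pow_two]; simp only [mul_assoc]
    rw [e]
    exact J0.mul_mem h2 h2
  obtain ⟨P, hP⟩ := range_sylow L hS hJC h3
  obtain ⟨M, hMn, hjM, hdecC⟩ := exists_index_three L hP (jc := ⟨L.el j, hjC⟩) hjJ
    (fun e => hj1' (congrArg Subtype.val e)) fun c => Subtype.ext (hcj c)
  exact index_three_le L hS hT hA hj hj1 hsq rfl hP (jc := ⟨L.el j, hjC⟩) rfl M hMn hjM hdecC

end CfsgLib.SNineThree.FactsAux
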