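import Cfsg.Agent.Lib.SNineThree.Basic

/-!
The typed pieces of the recognition of the symmetric group of degree nine.
-/

set_option autoImplicit false

namespace CfsgLib.SNineThree

open Subgroup Equiv
open CfsgLib.ANineThree (P9)

universe u

/-- The hypotheses give local data over one of the four models. -/
def StmtSetup : Prop := ∀ {G : Type u} [Group G] [Finite G] (x : G), orderOf x = 3 →
  ∀ (_ : Subgroup.centralizer ({x} : Set G) ≃*
    Subgroup.centralizer ({Equiv.swap (0 : Fin 9) 1 * Equiv.swap 1 2 * Equiv.swap 3 4 *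
      Equiv.swap 4 5 * Equiv.swap 6 7 * Equiv.swap 7 8} : Set (Equiv.Perm (Fin 9))))
    (J : Subgroup G), J ≤ Subgroup.centralizer ({x} : Set G) → IsMulCommutative J →
    (∀ j ∈ J, j ^ 3 = 1) → Nat.card J = 27 →
    (∀ K : Subgroup G, (Nat.card K).Coprime 3 →
      (∀ j ∈ J, K.map (MulAut.conj j).toMonoidHom = K) → K = ⊥) →
    ∃ S : Subgroup P9, (S = S1 ∨ S = S2 ∨ S = S4 ∨ S = B) ∧ ∃ L : Loc S G, L.J = J

/-- A normal subgroup with a self-centralizing subgroup of order three, under a three-group whose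
invariant three-prime subgroups lie in one of them. -/
def StmtSelfThree : Prop := ∀ {G : Type u} [Group G] [Finite G] (M E X W0 : Subgroup G),
  IsPGroup 3 E → E ≤ normalizer (M : Set G) → X ≤ M → Nat.card X = 3 →
  centralizer (X : Set G) ⊓ M = X → (Nat.card W0).Coprime 3 →
  (∀ W : Subgroup G, W ≤ M → (Nat.card W).Coprime 3 → E ≤ normalizer (W : Set G) → W ≤ W0) →
  ∃ O : Subgroup G, O ≤ M ∧ O ≤ W0 ∧ (Nat.card O).Coprime 3 ∧
    E ≤ normalizer (O : Set G) ∧ M ≤ normalizer (O : Set G) ∧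
    M ≤ normalizer ((X ⊔ O : Subgroup G) : Set G)

/-- Sylow three-subgroups of order nine with small automizer and local centralizers are normal. -/
def StmtAxis : Prop := ∀ {G : Type u} [Group G] [Finite G] (P : Sylow 3 G) (E Z : Subgroup G),
  E = (P : Subgroup G) → Nat.card E = 9 → (∀ e ∈ E, e ^ 3 = 1) →
  Z ≤ Subgroup.center G → (Nat.card Z).Coprime 3 → centralizer (E : Set G) = E ⊔ Z →
  (∀ e ∈ E, e ≠ 1 → centralizer ({e} : Set G) ≤ normalizer (E : Set G)) →
  (∀ W : Subgroup G, (Nat.card W).Coprime 3 → E ≤ normalizer (W : Set G) → W ≤ Z) →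
  (∀ g ∈ normalizer (E : Set G), g * g ∈ centralizer (E : Set G)) →
  ((centralizer (E : Set G)).subgroupOf (normalizer (E : Set G))).index ≤ 4 →
  normalizer (E : Set G) = ⊤

/-- The local facts. -/
structure Facts {S : Subgroup P9} {G : Type u} [Group G] (L : Loc S G) : Prop where
  not_dvd : ¬ 243 ∣ Nat.card G
  cent_J : centralizer (L.J : Set G) = L.J
  weakly_closed : ∀ g : G, ∀ T : Subgroup G, IsPGroup 3 T → L.J ≤ T →
    L.J.map (MulAut.conj g).toMonoidHom ≤ T → L.J.map (MulAut.conj g).toMonoidHom = L.J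
  normal_of_normal : ∀ K : Subgroup G, K.Normal → L.J ≤ K →
    (∀ k ∈ K, ∀ j ∈ L.J, k * j * k⁻¹ ∈ L.J) → L.J.Normal
  fusion : ∀ a ∈ J0, ∀ b ∈ J0, IsConj (L.el a) (L.el b) → SConj S a b
  cent_two : ∀ a ∈ J0, ∀ b ∈ J0, a ≠ 1 → b ∉ zpowers a →
    centralizer ({L.el a, L.el b} : Set G) ≤ L.e.range
  cent_one : ∀ j ∈ J0, j ≠ 1 → (∀ σ ∈ S, σ * j = j * σ → σ * σ ∈ J0) →
    centralizer ({L.el j} : Set G) ≤ L.e.range
  p_conj : ∀ j ∈ J0, IsConj (L.el ANineThree.p) (L.el j) →
    SConj S j ANineThree.x ∨ SConj S j ANineThree.x⁻¹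
  p_inv : ¬ IsConj (L.el ANineThree.p) (L.el ANineThree.x) →
    ¬ IsConj (L.el ANineThree.p) (L.el ANineThree.x)⁻¹ →
    ∀ σ : G, σ ≠ 1 → σ * σ = 1 → σ * L.el ANineThree.p = L.el ANineThree.p * σ →
      ¬ 9 ∣ Nat.card (centralizer ({σ} : Set G))

/-- The local facts hold. -/
def StmtFacts : Prop := ∀ {S : Subgroup P9} {G : Type u} [Group G] [Finite G] (L : Loc S G),
  S ≤ B → ANineThree.p ∈ S → Facts L

/-- The twisted case of the normalizer of `⟨x⟩`. -/
def StmtTwist : Prop := ∀ {G : Type u} [Group G] [Finite G] (L : Loc S2 G),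
  IsConj (L.el iota) (L.el τ0) → L.J.Normal

/-- The models without odd permutations of the blocks. -/
def StmtEven : Prop := ∀ {S : Subgroup P9} {G : Type u} [Group G] [Finite G] (L : Loc S G),
  (S = S1 ⊓ Bev ∨ S = S2 ⊓ Bev ∨ S = S4 ⊓ Bev) → L.J.Normal

/-- The three small models. -/
def StmtSmall : Prop := ∀ {S : Subgroup P9} {G : Type u} [Group G] [Finite G] (L : Loc S G),
  (S = S1 ∨ S = S2 ∨ S = S4) → L.J.Normal

/-- The centralizer of `(0 3)(1 4)(2 5)` in the large model. -/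
def StmtCentTau : Prop := ∀ {G : Type u} [Group G] [Finite G] (L : Loc B G),
  centralizer ({L.el τ0} : Set G) ≤ normalizer (zpowers (L.el ANineThree.z3) : Set G)

/-- A homomorphism onto the group of order two in the large model. -/
def StmtHom : Prop := ∀ {G : Type u} [Group G] [Finite G] (L : Loc B G), ∃ V : G →* ℤˣ,
  (∀ σ ∈ B, V (L.el σ) = Perm.sign σ * bpar σ) ∨
    ((∀ σ ∈ B, V (L.el σ) = Perm.sign σ) ∧
      IsConj (L.el ANineThree.p) (L.el ANineThree.x))

end CfsgLib.SNineThree
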