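import Cfsg.Agent.Lib.ANineThree.LocalThree
import Cfsg.Agent.Lib.SNineThree.Interface
import Cfsg.Agent.Lib.SNineThree.FactsModel

/-!
Three-subgroups of the models and of the group: `J` is weakly closed.
-/

set_option autoImplicit false
set_option linter.unusedSectionVars false
set_option linter.style.haveILetI false

namespace CfsgLib.SNineThree.FactsAux

open Equiv Subgroup
open CfsgLib.ANineThree (P9 Hm)
open CfsgLib.ANineThree.LocalAux

universe u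

theorem mem_J0_iff {σ : P9} : σ ∈ J0 ↔ ∃ v, jv v = σ := by
  constructor
  · intro h
    obtain ⟨c, hc⟩ := exists_codeB (J0_le_B h)
    obtain ⟨v, hv⟩ := code_J0 c (by rw [hc]; exact (mem_J0.1 h).1)
      (fun i => by rw [hc]; exact (mem_J0.1 h).2 i)
    exact ⟨v, hv.symm.trans hc⟩
  · rintro ⟨v, rfl⟩
    refine mem_J0.2 ⟨?_, (jv_inJ v).2.2⟩
    rw [← p_facts.2.2.2.2.2.2.2.1, jv_mul, jv_mul, add_comm]

theorem jv_mem (v : Fin 3 × Fin 3 × Fin 3) : jv v ∈ J0 := mem_J0_iff.2 ⟨v, rfl⟩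

theorem map_JH_J0 : JH.map Hm.subtype = J0 := by
  ext σ
  constructor
  · rintro ⟨h, hh, rfl⟩
    obtain ⟨v, rfl⟩ := mem_JH.1 hh
    exact jv_mem v
  · intro h
    obtain ⟨v, rfl⟩ := mem_J0_iff.1 h
    exact ⟨jH v, jH_mem v, rfl⟩

theorem card_J0 : Nat.card J0 = 27 := by
  rw [← map_JH_J0, card_map_of_injective Hm.subtype_injective, card_JH]

theorem J0_comm {a b : P9} (ha : a ∈ J0) (hb : b ∈ J0) : a * b = b * a := by
  obtain ⟨v, rfl⟩ := mem_J0_iff.1 ha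
  obtain ⟨w, rfl⟩ := mem_J0_iff.1 hb
  rw [jv_mul, jv_mul, add_comm]

theorem J0_cube {a : P9} (ha : a ∈ J0) : a ^ 3 = 1 := by
  obtain ⟨v, rfl⟩ := mem_J0_iff.1 ha
  exact (jv_inJ v).2.1

theorem p_notMem : CfsgLib.ANineThree.p ∉ J0 := fun h => by
  obtain ⟨i, hi⟩ := p_facts.2.2.2.2.1
  exact hi ((mem_J0.1 h).2 i)

theorem x_mem_J0 : CfsgLib.ANineThree.x ∈ J0 :=
  p_facts.2.2.2.2.2.2.2.1 ▸ jv_mem (1, 1, 1)

theorem conj_mem_J0 {a g : P9} (hg : g ∈ B) (ha : a ∈ J0) : g * a * g⁻¹ ∈ J0 := by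
  obtain ⟨c, hc⟩ := exists_codeB (B.mul_mem (B.mul_mem hg (J0_le_B ha)) (B.inv_mem hg))
  have hb : ∀ i : Fin 9, ((g * a * g⁻¹) i).1 / 3 = i.1 / 3 := fun i => by
    have h1 := (mem_B.1 hg (a (g⁻¹ i)) (g⁻¹ i)).2 ((mem_J0.1 ha).2 _)
    simpa [Perm.mul_apply] using h1
  have h9 : (g * a * g⁻¹) ^ 9 = 1 := by
    rw [conj_pow, show a ^ 9 = (a ^ 3) ^ 3 from pow_mul a 3 3, J0_cube ha, one_pow, mul_one,
      mul_inv_cancel]
  obtain ⟨v, hv⟩ := code_inJ c (by rw [hc]; exact ⟨h9, hb⟩)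
  rw [← hc, hv]
  exact jv_mem v

theorem card_B : Nat.card B = 1296 := by
  rw [← Nat.card_congr (Equiv.ofBijective (fun c : Code => (⟨mkB c, mkB_mem c⟩ : B))
    ⟨fun a b e => mkB_injective (congrArg Subtype.val e), fun σ => by
      obtain ⟨c, hc⟩ := exists_codeB σ.2
      exact ⟨c, Subtype.ext hc⟩⟩), Nat.card_eq_fintype_card]
  simp [Fintype.card_prod, Fintype.card_perm, Nat.factorial]

theorem sign_eq_one {σ : P9} {k : ℕ} (h : σ ^ 3 ^ k = 1) : Perm.sign σ = 1 := by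
  have h1 : Perm.sign σ ^ 3 ^ k = 1 := by rw [← map_pow, h, map_one]
  rcases Int.units_eq_one_or (Perm.sign σ) with e | e
  · exact e
  · rw [e, Odd.neg_one_pow (Odd.pow (by decide))] at h1
    exact absurd h1 (by decide)

theorem le_Hm {R : Subgroup P9} (hB : R ≤ B) (hR : IsPGroup 3 R) : R ≤ Hm := fun σ hσ => by
  obtain ⟨k, hk⟩ := hR ⟨σ, hσ⟩
  exact CfsgLib.ANineThree.mem_Hm.2 ⟨sign_eq_one (k := k) (congrArg Subtype.val hk),
    mem_B.1 (hB hσ)⟩

/-- Only `J₀` is abelian of order divisible by `27` in a three-subgroup containing it. -/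
theorem abelian_eq9 {R A : Subgroup P9} (hB : R ≤ B) (hR : IsPGroup 3 R) (hJ : J0 ≤ R)
    (hA : A ≤ R) (hc : ∀ a ∈ A, ∀ b ∈ A, a * b = b * a) (h27 : 27 ∣ Nat.card A) : A = J0 := by
  have hRH := le_Hm hB hR
  have hAH : A ≤ Hm := hA.trans hRH
  have e := abelian_eq (R := R.subgroupOf Hm) (A := A.subgroupOf Hm)
    (hR.comap_of_injective Hm.subtype Hm.subtype_injective)
    (fun h hh => hJ (map_JH_J0 ▸ ⟨h, hh, rfl⟩)) (comap_mono hA)
    (fun a ha b hb => Subtype.ext (hc a ha b hb))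
    (by rwa [Nat.card_congr (subgroupOfEquivOfLe hAH).toEquiv])
  rw [← map_JH_J0, ← e, subgroupOf_map_subtype, inf_eq_left.2 hAH]

variable {S : Subgroup P9} {G : Type u} [Group G] [Finite G] (L : Loc S G)

/-- The preimage in the model. -/
def pre (X : Subgroup G) : Subgroup P9 := (X.comap L.e).map S.subtype

theorem mem_pre {X : Subgroup G} {σ : P9} : σ ∈ pre L X ↔ σ ∈ S ∧ L.el σ ∈ X := by
  constructor
  · rintro ⟨s, hs, rfl⟩
    exact ⟨s.2, (L.el_eq s.2) ▸ hs⟩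
  · rintro ⟨hσ, h⟩
    exact ⟨⟨σ, hσ⟩, mem_comap.2 (L.el_eq hσ ▸ h), rfl⟩

theorem pre_le (X : Subgroup G) : pre L X ≤ S := map_subtype_le _

theorem pre_mono {X Y : Subgroup G} (h : X ≤ Y) : pre L X ≤ pre L Y := map_mono (comap_mono h)

theorem card_pre {X : Subgroup G} (h : X ≤ L.e.range) : Nat.card (pre L X) = Nat.card X := by
  rw [pre, card_map_of_injective S.subtype_injective,
    ← card_map_of_injective L.inj (K := X.comap L.e), map_comap_eq_self h]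

theorem isPGroup_pre {X : Subgroup G} (hX : IsPGroup 3 X) : IsPGroup 3 (pre L X) :=
  (hX.comap_of_injective L.e L.inj).map _

theorem J0_le_pre {X : Subgroup G} (h : L.J ≤ X) : J0 ≤ pre L X := fun σ hσ =>
  (mem_pre L).2 ⟨L.J0_le hσ, h (L.mem_J.2 ⟨σ, hσ, rfl⟩)⟩

theorem card_J : Nat.card L.J = 27 := by
  rw [Loc.J, card_map_of_injective L.inj, Nat.card_congr (subgroupOfEquivOfLe L.J0_le).toEquiv,
    card_J0]

theorem isPGroup_J : IsPGroup 3 L.J := IsPGroup.of_card (n := 3) (by rw [card_J L]; norm_num)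

theorem J_comm {a b : G} (ha : a ∈ L.J) (hb : b ∈ L.J) : a * b = b * a := by
  obtain ⟨σ, hσ, rfl⟩ := L.mem_J.1 ha
  obtain ⟨τ, hτ, rfl⟩ := L.mem_J.1 hb
  exact (L.commute_el (L.J0_le hσ) (L.J0_le hτ)).2 (J0_comm hσ hτ)

theorem J_cube {a : G} (ha : a ∈ L.J) : a ^ 3 = 1 := by
  obtain ⟨σ, hσ, rfl⟩ := L.mem_J.1 ha
  rw [← L.el_pow (L.J0_le hσ), J0_cube hσ, L.el_one]

theorem el_mem_J {σ : P9} (hσ : σ ∈ S) : L.el σ ∈ L.J ↔ σ ∈ J0 := by
  refine ⟨fun h => ?_, fun h => L.mem_J.2 ⟨σ, h, rfl⟩⟩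
  obtain ⟨τ, hτ, e⟩ := L.mem_J.1 h
  exact L.el_inj (L.J0_le hτ) hσ e ▸ hτ

theorem mem_range_of_conj {n : G} (h : ∀ j ∈ L.J, n * j * n⁻¹ ∈ L.J) : n ∈ L.e.range := by
  rw [L.range_normalizer]
  have e : L.J.map (MulAut.conj n).toMonoidHom = L.J := by
    refine eq_of_le_of_card_ge ?_ (by rw [card_map_of_injective (MulEquiv.injective _)])
    rintro _ ⟨j, hj, rfl⟩
    exact h j hj
  refine mem_normalizer_iff.2 fun j => ⟨fun hj => h j hj, fun hj => ?_⟩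
  rw [← e] at hj
  obtain ⟨j', hj', e'⟩ := hj
  exact (MulEquiv.injective (MulAut.conj n) e') ▸ hj'

/-- Conjugates of `J` inside a three-subgroup of the normalizer containing `J` are `J`. -/
theorem conj_eq_of_le (hS : S ≤ B) {R : Subgroup G} (hR : IsPGroup 3 R) (hJ : L.J ≤ R)
    (hle : R ≤ L.e.range) {g : G} (hg : L.J.map (MulAut.conj g).toMonoidHom ≤ R) :
    L.J.map (MulAut.conj g).toMonoidHom = L.J := by
  set A := L.J.map (MulAut.conj g).toMonoidHom with hA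
  have hAr : A ≤ L.e.range := hg.trans hle
  have hcard : Nat.card A = 27 := by
    rw [hA, card_map_of_injective (MulEquiv.injective _), card_J L]
  have e := abelian_eq9 (R := pre L R) (A := pre L A) ((pre_le L R).trans hS) (isPGroup_pre L hR)
    (J0_le_pre L hJ) (pre_mono L hg) (fun a ha b hb => by
      obtain ⟨haS, haA⟩ := (mem_pre L).1 ha
      obtain ⟨hbS, hbA⟩ := (mem_pre L).1 hb
      obtain ⟨i, hi, ei⟩ := haA
      obtain ⟨k, hk, ek⟩ := hbA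
      refine (L.commute_el haS hbS).1 ?_
      rw [← ei, ← ek, ← map_mul, ← map_mul, J_comm L hi hk])
    (by rw [card_pre L hAr, hcard])
  refine (eq_of_le_of_card_ge ?_ (by rw [hcard, card_J L])).symm
  intro j hj
  obtain ⟨σ, hσ, rfl⟩ := L.mem_J.1 hj
  exact ((mem_pre L).1 (e.symm ▸ hσ : σ ∈ pre L A)).2

theorem three_le_range (hS : S ≤ B) {R : Subgroup G} (hR : IsPGroup 3 R) (hJ : L.J ≤ R) :
    R ≤ L.e.range := by
  haveI : Fact (Nat.Prime 3) := ⟨Nat.prime_three⟩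
  by_contra hne
  haveI := hR.isNilpotent
  set R1 : Subgroup R := L.e.range.subgroupOf R with hR1
  have hlt : R1 < ⊤ := lt_top_iff_ne_top.2 fun e => hne (subgroupOf_eq_top.1 e)
  obtain ⟨n, hn, hn1⟩ := SetLike.exists_of_lt (Group.normalizerCondition_of_isNilpotent R1 hlt)
  refine hn1 (mem_subgroupOf.2 (mem_range_of_conj L fun j hj => ?_))
  have hle : L.J.map (MulAut.conj (n : G)).toMonoidHom ≤ R ⊓ L.e.range := by
    rintro _ ⟨k, hk, rfl⟩
    have hm := (mem_normalizer_iff.1 hn ⟨k, hJ hk⟩).1 (mem_subgroupOf.2 (L.J_le hk))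
    refine mem_inf.2 ⟨?_, mem_subgroupOf.1 hm⟩
    show (n : G) * k * (n : G)⁻¹ ∈ R
    exact mul_mem (mul_mem n.2 (hJ hk)) (inv_mem n.2)
  rw [← conj_eq_of_le L hS (hR.to_le inf_le_left) (le_inf hJ L.J_le) inf_le_right hle]
  exact ⟨j, hj, rfl⟩

theorem weakly_closed (hS : S ≤ B) (g : G) (T : Subgroup G) (hT : IsPGroup 3 T) (hJ : L.J ≤ T)
    (h : L.J.map (MulAut.conj g).toMonoidHom ≤ T) :
    L.J.map (MulAut.conj g).toMonoidHom = L.J :=
  conj_eq_of_le L hS hT hJ (three_le_range L hS hT hJ) h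

include L in
theorem not_dvd (hS : S ≤ B) : ¬ 243 ∣ Nat.card G := by
  intro hd
  haveI : Fact (Nat.Prime 3) := ⟨Nat.prime_three⟩
  obtain ⟨P, hP⟩ := (isPGroup_J L).exists_le_sylow
  have hle := three_le_range L hS P.isPGroup' hP
  have hcop : Nat.Coprime 243 (P : Subgroup G).index := by
    rw [show (243 : ℕ) = 3 ^ 5 from rfl]
    exact ((Nat.prime_three.coprime_iff_not_dvd).2 P.not_dvd_index).pow_left 5
  have h1 : 243 ∣ Nat.card P := hcop.dvd_of_dvd_mul_right (by rwa [card_mul_index])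
  have h2 := h1.trans (card_dvd_of_le hle)
  rw [← Nat.card_congr (MonoidHom.ofInjective L.inj).toEquiv] at h2
  have h3 := h2.trans (card_dvd_of_le hS)
  rw [card_B] at h3
  norm_num at h3

theorem range_sylow {C : Subgroup G} (hS : S ≤ B) (hJC : L.J ≤ C)
    (h3 : ∀ σ ∈ S, L.el σ ∈ C → (∃ k, σ ^ 3 ^ k = 1) → σ ∈ J0) :
    ∃ P : Sylow 3 C, (P : Subgroup C) = L.J.subgroupOf C := by
  obtain ⟨P, hP⟩ :=
    ((isPGroup_J L).comap_of_injective C.subtype C.subtype_injective).exists_le_sylow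
  refine ⟨P, le_antisymm (fun c hc => ?_) hP⟩
  have hJP : L.J ≤ (P : Subgroup C).map C.subtype := fun j hj => ⟨⟨j, hJC hj⟩, hP hj, rfl⟩
  obtain ⟨σ, hσ, e⟩ := L.mem_range.1
    (three_le_range L hS (P.isPGroup'.map C.subtype) hJP ⟨c, hc, rfl⟩)
  obtain ⟨k, hk⟩ := P.isPGroup' ⟨c, hc⟩
  have hk' : (c : G) ^ 3 ^ k = 1 := congrArg (fun w : C => (w : G)) (congrArg Subtype.val hk)
  refine mem_subgroupOf.2 ?_
  change L.el σ = (c : G) at e
  rw [← e, el_mem_J L hσ]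
  refine h3 σ hσ (e ▸ c.2) ⟨k, L.el_inj (S.pow_mem hσ _) S.one_mem ?_⟩
  rw [L.el_pow hσ, e, hk', L.el_one]

/-- Three-subgroups of a subgroup with Sylow subgroup `J` move into `J`. -/
theorem conj_into {C T : Subgroup G} {P : Sylow 3 C} (hP : (P : Subgroup C) = L.J.subgroupOf C)
    (hT : IsPGroup 3 T) (hTC : T ≤ C) : ∃ c ∈ C, ∀ t ∈ T, c * t * c⁻¹ ∈ L.J := by
  haveI : Fact (Nat.Prime 3) := ⟨Nat.prime_three⟩
  obtain ⟨U, hU⟩ := (hT.comap_of_injective C.subtype C.subtype_injective).exists_le_sylow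
  obtain ⟨c, hc⟩ := MulAction.exists_smul_eq C U P
  refine ⟨c, c.2, fun t ht => ?_⟩
  have h : c * ⟨t, hTC ht⟩ * c⁻¹ ∈ (c • U : Sylow 3 C) := by
    rw [Sylow.smul_def]; exact ⟨_, hU ht, rfl⟩
  rw [hc] at h
  exact mem_subgroupOf.1 (hP.le h)

theorem cent_J (hS : S ≤ B) : centralizer (L.J : Set G) = L.J := by
  refine le_antisymm (fun c hc => ?_) fun j hj =>
    mem_centralizer_iff.2 fun k hk => J_comm L hk hj
  obtain ⟨σ, hσ, rfl⟩ := L.mem_range.1 (L.range_normalizer ▸ centralizer_le_normalizer _ hc)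
  obtain ⟨d, hd⟩ := exists_codeB (hS hσ)
  have key : ∀ v, mkB d * jv v = jv v * mkB d := fun v => by
    rw [hd]
    exact (L.commute_el hσ (L.J0_le (jv_mem v))).1
      (mem_centralizer_iff.1 hc _ (L.mem_J.2 ⟨_, jv_mem v, rfl⟩)).symm
  obtain ⟨v, hv⟩ := code_cent_all d
    (by simpa [jv] using key (1, 0, 0)) (by simpa [jv] using key (0, 1, 0))
    (by simpa [jv] using key (0, 0, 1))
  refine (el_mem_J L hσ).2 ?_
  rw [← hd, hv]
  exact jv_mem v

end CfsgLib.SNineThree.FactsAux
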