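import Cfsg.Agent.Lib.SNineThree.FactsThree
import Cfsg.Agent.Lib.Techniques.Residual
import Cfsg.Agent.S0075

/-!
The centralizer of two independent elements of `J` lies in the normalizer of `J`.
-/

set_option autoImplicit false
set_option linter.unusedSectionVars false
set_option linter.style.haveILetI false
set_option maxHeartbeats 800000

namespace CfsgLib.SNineThree.FactsAux

open Equiv Subgroup
open CfsgLib.ANineThree (P9)
open CfsgLib.ANineThree.LocalAux

universe u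

variable {S : Subgroup P9} {G : Type u} [Group G] [Finite G] (L : Loc S G)

/-- The subgroup generated by two independent elements of `J`. -/
theorem card_pair {a b : P9} (ha : a ∈ J0) (hb : b ∈ J0) (ha1 : a ≠ 1) (hab : b ∉ zpowers a) :
    9 ≤ Nat.card (Subgroup.closure ({L.el a, L.el b} : Set G)) ∧
      Subgroup.closure ({L.el a, L.el b} : Set G) ≤ L.J := by
  haveI : Fact (Nat.Prime 3) := ⟨Nat.prime_three⟩
  set AB := Subgroup.closure ({L.el a, L.el b} : Set G)
  have hle : AB ≤ L.J := by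
    refine (closure_le _).2 ?_
    rintro _ (rfl | rfl)
    exacts [L.mem_J.2 ⟨a, ha, rfl⟩, L.mem_J.2 ⟨b, hb, rfl⟩]
  refine ⟨?_, hle⟩
  obtain ⟨n, hn⟩ := ((isPGroup_J L).to_le hle).exists_card_eq
  have hla : zpowers (L.el a) ≤ AB := zpowers_le.2 (subset_closure (by simp))
  have hca : Nat.card (zpowers (L.el a)) = 3 := by
    rw [Nat.card_zpowers]
    refine orderOf_eq_prime (J_cube L (L.mem_J.2 ⟨a, ha, rfl⟩)) fun e => ha1 ?_
    exact L.el_inj (L.J0_le ha) S.one_mem (e.trans L.el_one.symm)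
  rw [hn]
  by_contra h9
  have hn1 : n ≤ 1 := by
    by_contra h2
    have := Nat.pow_le_pow_right (show 0 < 3 by norm_num) (show 2 ≤ n by omega)
    omega
  have heq : zpowers (L.el a) = AB := eq_of_le_of_card_ge hla (by
    rw [hn, hca]; exact (Nat.pow_le_pow_right (by norm_num) hn1).trans (by norm_num))
  obtain ⟨i, hi⟩ := mem_zpowers_iff.1 (heq.ge (subset_closure (by simp) : L.el b ∈ AB))
  refine hab (mem_zpowers_iff.2 ⟨i, ?_⟩)
  have e : L.el (a ^ i) = L.el a ^ i := by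
    rw [L.el_eq (S.zpow_mem (L.J0_le ha) i), L.el_eq (L.J0_le ha), ← map_zpow]; rfl
  exact L.el_inj (S.zpow_mem (L.J0_le ha) i) (L.J0_le hb) (e.trans hi)

/-- An even element centralizing two independent elements of `J₀` lies in it. -/
theorem plane_even (hS : S ≤ B) {a b : P9} (ha : a ∈ J0) (hb : b ∈ J0) (ha1 : a ≠ 1)
    (hab : b ∉ zpowers a) {σ : P9} (hσ : σ ∈ S)
    (hc : L.el σ ∈ centralizer ({L.el a, L.el b} : Set G)) (hs : Perm.sign σ = 1) : σ ∈ J0 := by
  obtain ⟨c, hc'⟩ := exists_codeB (hS hσ)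
  set AB := Subgroup.closure ({L.el a, L.el b} : Set G) with hAB
  obtain ⟨h9, hle⟩ := card_pair L ha hb ha1 hab
  have hcomm : AB ≤ centralizer ({L.el σ} : Set G) :=
    (closure_le _).2 fun g hg => mem_centralizer_singleton_iff.2 (mem_centralizer_iff.1 hc g hg)
  have hcount : 9 ≤ (Finset.univ.filter fun v => mkB c * jv v = jv v * mkB c).card := by
    refine le_trans h9 ?_
    rw [← Fintype.card_subtype, ← Nat.card_eq_fintype_card]
    have hex : ∀ g : AB, ∃ v : {v // mkB c * jv v = jv v * mkB c}, L.el (jv v.1) = g.1 := by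
      intro g
      obtain ⟨τ, hτ, e⟩ := L.mem_J.1 (hle g.2)
      obtain ⟨v, rfl⟩ := mem_J0_iff.1 hτ
      refine ⟨⟨v, ?_⟩, e⟩
      rw [hc']
      refine (L.commute_el hσ (L.J0_le hτ)).1 ?_
      rw [e]
      exact (mem_centralizer_singleton_iff.1 (hcomm g.2)).symm
    choose f hf using hex
    exact Nat.card_le_card_of_injective f fun g g' e => Subtype.ext (by rw [← hf g, ← hf g', e])
  obtain ⟨v, hv⟩ := code_plane c (hc'.symm ▸ hs) hcount
  rw [← hc', hv]
  exact jv_mem v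

theorem cent_two (hS : S ≤ B) (hT : StmtSelfThree.{u}) {a b : P9} (ha : a ∈ J0) (hb : b ∈ J0)
    (ha1 : a ≠ 1) (hab : b ∉ zpowers a) :
    centralizer ({L.el a, L.el b} : Set G) ≤ L.e.range := by
  haveI : Fact (Nat.Prime 3) := ⟨Nat.prime_three⟩
  set C := centralizer ({L.el a, L.el b} : Set G) with hC
  have haJ : L.el a ∈ L.J := L.mem_J.2 ⟨a, ha, rfl⟩
  have hbJ : L.el b ∈ L.J := L.mem_J.2 ⟨b, hb, rfl⟩
  have hJC : L.J ≤ C := fun j hj => mem_centralizer_iff.2 (by
    rintro g (rfl | rfl)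
    exacts [J_comm L haJ hj, J_comm L hbJ hj])
  have h3 : ∀ σ ∈ S, L.el σ ∈ C → (∃ k, σ ^ 3 ^ k = 1) → σ ∈ J0 := fun σ hσ hσC ⟨k, hk⟩ =>
    plane_even L hS ha hb ha1 hab hσ hσC (sign_eq_one hk)
  obtain ⟨P, hP⟩ := range_sylow L hS hJC h3
  have hab' : IsMulCommutative (P : Subgroup C) := ⟨⟨fun g h => Subtype.ext (Subtype.ext
    (J_comm L (mem_subgroupOf.1 (hP.le g.2)) (mem_subgroupOf.1 (hP.le h.2))))⟩⟩
  have hnorm : ∀ n ∈ normalizer ((P : Subgroup C) : Set C), (n : G) ∈ L.e.range := by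
    intro n hn
    refine mem_range_of_conj L fun k hk => ?_
    have := (mem_normalizer_iff.1 hn ⟨k, hJC hk⟩).1 (by rw [hP]; exact mem_subgroupOf.2 hk)
    rw [hP] at this
    exact mem_subgroupOf.1 this
  by_cases hodd : ∃ σ ∈ S, L.el σ ∈ C ∧ Perm.sign σ ≠ 1
  · obtain ⟨σ₀, hσ₀, hσ₀C, hs₀⟩ := hodd
    have hs₀' : Perm.sign σ₀ = -1 := (Int.units_eq_one_or _).resolve_left hs₀
    have hsq : σ₀ * σ₀ ∈ J0 := plane_even L hS ha hb ha1 hab (S.mul_mem hσ₀ hσ₀)
      (by rw [L.el_mul hσ₀ hσ₀]; exact C.mul_mem hσ₀C hσ₀C)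
      (by rw [map_mul, hs₀', neg_mul_neg, one_mul])
    set ρ := σ₀ ^ 3 with hρd
    have hρS : ρ ∈ S := S.pow_mem hσ₀ 3
    have hρs : Perm.sign ρ = -1 := by rw [hρd, map_pow, hs₀']; decide
    have hρ2 : ρ * ρ = 1 := by
      have := J0_cube hsq
      rw [← this, hρd, ← pow_two, ← pow_two, ← pow_mul, ← pow_mul]
    set r := L.el ρ with hrd
    have hrC : r ∈ C := by rw [hrd, hρd, L.el_pow hσ₀]; exact C.pow_mem hσ₀C 3
    have hrr : r * r = 1 := by rw [hrd, ← L.el_mul hρS hρS, hρ2, L.el_one]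
    have hri : r⁻¹ = r := inv_eq_of_mul_eq_one_right hrr
    have hrJ : ∀ i ∈ L.J, r * i * r⁻¹ ∈ L.J := fun i hi =>
      (mem_normalizer_iff.1 (L.range_normalizer ▸ L.el_mem hρS) i).1 hi
    -- the commutator map
    have hd : ∀ i ∈ L.J, i * r * i⁻¹ * r⁻¹ ∈ L.J := fun i hi => by
      rw [show i * r * i⁻¹ * r⁻¹ = i * (r * i⁻¹ * r⁻¹) by group]
      exact mul_mem hi (hrJ _ (inv_mem hi))
    let φ : L.J →* G :=
      { toFun := fun i => (i : G) * r * (i : G)⁻¹ * r⁻¹
        map_one' := by simp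
        map_mul' := fun i j => by
          show (i : G) * j * r * ((i : G) * j)⁻¹ * r⁻¹ = _
          have e := J_comm L (hd j j.2) (hrJ _ (inv_mem i.2))
          calc (i : G) * j * r * ((i : G) * j)⁻¹ * r⁻¹
              = i * ((j : G) * r * (j : G)⁻¹ * r⁻¹ * (r * (i : G)⁻¹ * r⁻¹)) := by group
            _ = (i : G) * r * (i : G)⁻¹ * r⁻¹ * ((j : G) * r * (j : G)⁻¹ * r⁻¹) := by
                rw [e]; group }
    set X := φ.range with hXd
    have hXJ : X ≤ L.J := by
      rintro _ ⟨i, rfl⟩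
      exact hd i i.2
    set AB := Subgroup.closure ({L.el a, L.el b} : Set G) with hABd
    obtain ⟨h9, hABJ⟩ := card_pair L ha hb ha1 hab
    have hker : ∀ i : L.J, φ i = 1 ↔ (i : G) * r = r * i := fun i => by
      show (i : G) * r * (i : G)⁻¹ * r⁻¹ = 1 ↔ _
      rw [mul_inv_eq_one, mul_inv_eq_iff_eq_mul]
    have hAB : ∀ g ∈ AB, g * r = r * g := fun g hg => by
      have hle : AB ≤ centralizer ({r} : Set G) :=
        (closure_le _).2 fun w hw => mem_centralizer_singleton_iff.2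
          (mem_centralizer_iff.1 hrC w hw)
      exact mem_centralizer_singleton_iff.1 (hle hg)
    have hle' : AB.subgroupOf L.J ≤ φ.ker := fun i hi => (hker i).2 (hAB _ hi)
    have hkne : φ.ker ≠ ⊤ := by
      intro htop
      have hcen : ∀ i ∈ L.J, i * r = r * i := fun i hi =>
        (hker ⟨i, hi⟩).1 (htop.ge (mem_top _))
      obtain ⟨c, hc⟩ := exists_codeB (hS hρS)
      have key : ∀ v, mkB c * jv v = jv v * mkB c := fun v => by
        rw [hc]
        exact ((L.commute_el hρS (L.J0_le (jv_mem v))).1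
          (hcen _ (L.mem_J.2 ⟨_, jv_mem v, rfl⟩)).symm)
      obtain ⟨v, hv⟩ := code_cent_all c
        (by simpa [jv] using key (1, 0, 0)) (by simpa [jv] using key (0, 1, 0))
        (by simpa [jv] using key (0, 0, 1))
      have hsign : Perm.sign ρ = 1 := by rw [← hc, hv]; exact (jv_inJ v).1
      rw [hρs] at hsign
      exact absurd hsign (by decide)
    have hcABJ : Nat.card (AB.subgroupOf L.J) = Nat.card AB :=
      Nat.card_congr (subgroupOfEquivOfLe hABJ).toEquiv
    have hcard : Nat.card φ.ker = 9 ∧ Nat.card X = 3 := by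
      have h := card_mul_index φ.ker
      rw [index_ker, card_J L] at h
      have h1 : 9 ≤ Nat.card φ.ker := h9.trans (hcABJ ▸ Nat.le_of_dvd Nat.card_pos
        (card_dvd_of_le hle'))
      have h2 : Nat.card X ≠ 1 := fun e => by
        refine hkne (eq_top_of_card_eq _ ?_)
        rw [show Nat.card φ.range = 1 from e, mul_one] at h
        rw [h, card_J L]
      have hmem : Nat.card φ.ker ∈ Nat.divisors 27 :=
        Nat.mem_divisors.2 ⟨⟨_, h.symm⟩, by norm_num⟩
      rw [show Nat.divisors 27 = {1, 3, 9, 27} from by decide +kernel] at hmem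
      simp only [Finset.mem_insert, Finset.mem_singleton] at hmem
      rcases hmem with e | e | e | e
      · omega
      · omega
      · rw [e] at h; exact ⟨e, by show Nat.card φ.range = 3; omega⟩
      · rw [e] at h; exact absurd (show Nat.card φ.range = 1 by omega) h2
    have hkerAB : ∀ i ∈ L.J, i * r = r * i → i ∈ AB := by
      intro i hi hc
      have e : AB.subgroupOf L.J = φ.ker :=
        eq_of_le_of_card_ge hle' (by rw [hcard.1, hcABJ]; exact h9)
      exact mem_subgroupOf.1 (e.ge ((hker ⟨i, hi⟩).2 hc))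
    have hinv : ∀ w ∈ X, r * w * r⁻¹ = w⁻¹ := by
      rintro _ ⟨i, rfl⟩
      show r * ((i : G) * r * (i : G)⁻¹ * r⁻¹) * r⁻¹ = ((i : G) * r * (i : G)⁻¹ * r⁻¹)⁻¹
      simp only [mul_inv_rev, inv_inv, hri, mul_assoc, hrr, mul_one]
    have hdec : ∀ i ∈ L.J, ∃ w ∈ X, w⁻¹ * i ∈ AB := by
      intro i hi
      set w := φ ⟨i, hi⟩ with hwd
      have hwJ : w ∈ L.J := hXJ ⟨_, rfl⟩
      refine ⟨w * w, X.mul_mem ⟨_, rfl⟩ ⟨_, rfl⟩, hkerAB _ (mul_mem (inv_mem (mul_mem hwJ hwJ))
        hi) ((hker ⟨_, mul_mem (inv_mem (mul_mem hwJ hwJ)) hi⟩).1 ?_)⟩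
      have e : (⟨_, mul_mem (inv_mem (mul_mem hwJ hwJ)) hi⟩ : L.J) =
        (⟨w, hwJ⟩ * ⟨w, hwJ⟩)⁻¹ * ⟨i, hi⟩ := rfl
      rw [e, map_mul, map_inv, map_mul]
      have hφw : φ ⟨w, hwJ⟩ = w * w := by
        show w * r * w⁻¹ * r⁻¹ = w * w
        have h' : r * w⁻¹ * r⁻¹ = w := by
          rw [show r * w⁻¹ * r⁻¹ = (r * w * r⁻¹)⁻¹ by group, hinv w ⟨_, rfl⟩, inv_inv]
        rw [show w * r * w⁻¹ * r⁻¹ = w * (r * w⁻¹ * r⁻¹) by group, h']
      rw [hφw, ← hwd]
      have h3' := J_cube L hwJ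
      rw [show (w * w * (w * w))⁻¹ * w = (w ^ 3)⁻¹ by group, h3', inv_one]
    -- the residual
    have hfocal := Cfsg.Agent.S0075.result P hab'
    set W := Cfsg.pResidual 3 C with hWd
    have hWn : W.Normal := by
      refine ⟨fun g hg n => ?_⟩
      have hle : W.map (MulAut.conj n).toMonoidHom ≤ W := by
        rw [hWd, Cfsg.pResidual, MonoidHom.map_closure]
        refine (closure_le _).2 ?_
        rintro _ ⟨w, hw, rfl⟩
        refine subset_closure ?_
        show Nat.Coprime (orderOf ((MulAut.conj n).toMonoidHom w)) 3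
        rw [show orderOf ((MulAut.conj n).toMonoidHom w) = orderOf w from
          orderOf_injective _ (MulEquiv.injective (MulAut.conj n)) w]
        exact hw
      exact hle ⟨g, hg, rfl⟩
    have hrN : (⟨r, hrC⟩ : C) ∈ normalizer ((P : Subgroup C) : Set C) := by
      refine mem_normalizer_iff.2 fun g => ?_
      rw [hP, mem_subgroupOf, mem_subgroupOf]
      exact mem_normalizer_iff.1 (show L.el ρ ∈ normalizer (L.J : Set G) from L.range_normalizer ▸ L.el_mem hρS) g
    have hupper : ∀ g : C, (g : G) ∈ L.J → g ∈ W → (g : G) ∈ X := by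
      intro g hgJ hgW
      have hmem : g ∈ ⁅(P : Subgroup C), normalizer ((P : Subgroup C) : Set C)⁆ :=
        hfocal ▸ ⟨hP.ge (mem_subgroupOf.2 hgJ), hgW⟩
      have hle : ⁅(P : Subgroup C), normalizer ((P : Subgroup C) : Set C)⁆ ≤ X.subgroupOf C := by
        refine commutator_le.2 fun j hj n hn => mem_subgroupOf.2 ?_
        have hjJ : (j : G) ∈ L.J := mem_subgroupOf.1 (hP.le hj)
        obtain ⟨τ, hτ, hτn⟩ := L.mem_range.1 (hnorm n hn)
        show (j : G) * n * (j : G)⁻¹ * (n : G)⁻¹ ∈ X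
        rcases Int.units_eq_one_or (Perm.sign τ) with e | e
        · have hnJ : (n : G) ∈ L.J :=
            hτn ▸ (el_mem_J L hτ).2 (plane_even L hS ha hb ha1 hab hτ (hτn ▸ n.2) e)
          rw [J_comm L hjJ hnJ, mul_inv_cancel_right, mul_inv_cancel]
          exact X.one_mem
        · have h0 : L.el (τ * ρ) ∈ L.J := (el_mem_J L (S.mul_mem hτ hρS)).2
            (plane_even L hS ha hb ha1 hab (S.mul_mem hτ hρS)
              (by rw [L.el_mul hτ hρS, hτn]; exact C.mul_mem n.2 hrC)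
              (by rw [map_mul, e, hρs, neg_mul_neg, one_mul]))
          rw [L.el_mul hτ hρS, hτn] at h0
          refine ⟨⟨j, hjJ⟩, ?_⟩
          show (j : G) * r * (j : G)⁻¹ * r⁻¹ = _
          have e1 := J_comm L h0 (hd _ hjJ)
          have e2 := J_comm L hjJ h0
          calc (j : G) * r * (j : G)⁻¹ * r⁻¹
              = ((n : G) * r) * ((j : G) * r * (j : G)⁻¹ * r⁻¹) * ((n : G) * r)⁻¹ := by
                rw [e1, mul_inv_cancel_right]
            _ = ((n : G) * r * j) * r * (j : G)⁻¹ * r⁻¹ * r⁻¹ * (n : G)⁻¹ := by group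
            _ = ((j : G) * ((n : G) * r)) * r * (j : G)⁻¹ * r⁻¹ * r⁻¹ * (n : G)⁻¹ := by rw [e2]
            _ = (j : G) * n * (r * r) * (j : G)⁻¹ * (r * r)⁻¹ * (n : G)⁻¹ := by group
            _ = (j : G) * n * (j : G)⁻¹ * (n : G)⁻¹ := by rw [hrr]; group
      exact hle hmem
    set M := W.map C.subtype with hMd
    have hMC : M ≤ C := map_subtype_le _
    have hXM : X ≤ M := by
      rintro _ ⟨i, rfl⟩
      obtain ⟨d, hd'⟩ : ∃ d : C, d = (⟨i, hJC i.2⟩ : C) * ⟨r, hrC⟩ *
          (⟨i, hJC i.2⟩ : C)⁻¹ * (⟨r, hrC⟩ : C)⁻¹ := ⟨_, rfl⟩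
      have h1 : d ∈ (P : Subgroup C) ⊓ W := by
        rw [hfocal, hd']
        exact commutator_mem_commutator (hP.ge (mem_subgroupOf.2 i.2)) hrN
      exact ⟨d, h1.2, by rw [hd']; rfl⟩
    have hMX : ∀ g ∈ M, g ∈ L.J → g ∈ X := by
      rintro _ ⟨w, hw, rfl⟩ hj
      exact hupper w hj hw
    have hJn : L.J ≤ normalizer (M : Set G) := by
      intro j hj
      have key : ∀ c ∈ C, ∀ m ∈ M, c * m * c⁻¹ ∈ M := by
        rintro c hc _ ⟨w, hw, rfl⟩
        exact ⟨⟨c, hc⟩ * w * ⟨c, hc⟩⁻¹, hWn.conj_mem w hw _, rfl⟩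
      refine mem_normalizer_iff.2 fun m => ⟨key j (hJC hj) m, fun h => ?_⟩
      have h' := key j⁻¹ (inv_mem (hJC hj)) _ h
      rwa [show j⁻¹ * (j * m * j⁻¹) * j⁻¹⁻¹ = m by group] at h'
    have hcX : centralizer (X : Set G) ⊓ M = X := by
      refine le_antisymm (fun c hc => ?_) fun w hw =>
        ⟨mem_centralizer_iff.2 fun v hv => J_comm L (hXJ hv) (hXJ hw), hXM hw⟩
      refine hMX c hc.2 ?_
      rw [← cent_J L hS]
      refine mem_centralizer_iff.2 fun i hi => ?_
      obtain ⟨w, hw, hwi⟩ := hdec i hi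
      have h1 : Commute c w := (mem_centralizer_iff.1 hc.1 w hw).symm
      have hle : AB ≤ centralizer ({c} : Set G) :=
        (closure_le _).2 fun g hg => mem_centralizer_singleton_iff.2
          (mem_centralizer_iff.1 (hMC hc.2) g hg)
      have h2 : Commute c (w⁻¹ * i) := (mem_centralizer_singleton_iff.1 (hle hwi)).symm
      have h3 := h1.mul_right h2
      rw [mul_inv_cancel_left] at h3
      exact h3.symm.eq
    obtain ⟨O, -, hO, -, -, -, hMn⟩ := hT M L.J X ⊥ (isPGroup_J L) hJn hXM hcard.2 hcX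
      (by simp) (fun Y hY hYc hYn => le_bot_iff.2 (L.signalizer Y hYc fun j hj w hw =>
        (mem_normalizer_iff.1 (hYn hj) w).1 hw))
    rw [le_bot_iff.1 hO, sup_bot_eq] at hMn
    intro c hc
    -- `X` is normal in the centralizer
    have hXC : ∀ w ∈ X, c * w * c⁻¹ ∈ X := by
      intro w hw
      have hmem : ∀ v : X, c * v * c⁻¹ ∈ M := fun v => by
        obtain ⟨v', hv', e⟩ := hXM v.2
        exact ⟨⟨c, hc⟩ * v' * ⟨c, hc⟩⁻¹, hWn.conj_mem v' hv' _, by
          show c * (v' : G) * c⁻¹ = _; rw [show (v' : G) = v from e]⟩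
      set Xc := X.map (MulAut.conj c).toMonoidHom
      have hXcM : Xc ≤ M := by
        rintro _ ⟨v, hv, rfl⟩
        exact hmem ⟨v, hv⟩
      have hXp : IsPGroup 3 X := (isPGroup_J L).to_le hXJ
      have hTp : IsPGroup 3 ↥(X ⊔ Xc) :=
        hXp.to_sup_of_normal_left' (hXp.map _) (hXcM.trans hMn)
      have hTM : X ⊔ Xc ≤ M := sup_le hXM hXcM
      obtain ⟨d, hd', hdT⟩ := conj_into L hP hTp (hTM.trans hMC)
      have hcT : Nat.card ↥(X ⊔ Xc) ≤ 3 := by
        rw [← hcard.2]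
        have hmem' : ∀ t : ↥(X ⊔ Xc), d * t * d⁻¹ ∈ X := fun t => by
          refine hMX _ ?_ (hdT t t.2)
          obtain ⟨v', hv', e⟩ := hTM t.2
          exact ⟨⟨d, hd'⟩ * v' * ⟨d, hd'⟩⁻¹, hWn.conj_mem v' hv' _, by
            show d * (v' : G) * d⁻¹ = _; rw [show (v' : G) = t from e]⟩
        exact Nat.card_le_card_of_injective (fun t => (⟨_, hmem' t⟩ : X)) fun s t e =>
          Subtype.ext (mul_left_cancel (mul_right_cancel (congrArg Subtype.val e)))
      have e : X = X ⊔ Xc := eq_of_le_of_card_ge le_sup_left (hcT.trans hcard.2.ge)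
      exact e.ge (mem_sup_right ⟨w, hw, rfl⟩)
    refine mem_range_of_conj L fun i hi => ?_
    obtain ⟨w, hw, hwi⟩ := hdec i hi
    have hle : AB ≤ centralizer ({c} : Set G) :=
      (closure_le _).2 fun g hg => mem_centralizer_singleton_iff.2 (mem_centralizer_iff.1 hc g hg)
    have e : c * (w⁻¹ * i) * c⁻¹ = w⁻¹ * i := by
      rw [← mem_centralizer_singleton_iff.1 (hle hwi), mul_inv_cancel_right]
    have e' : c * i * c⁻¹ = c * w * c⁻¹ * (c * (w⁻¹ * i) * c⁻¹) := by group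
    rw [e', e]
    exact mul_mem (hXJ (hXC w hw)) (mul_mem (inv_mem (hXJ hw)) hi)
  · push Not at hodd
    have hN : normalizer ((P : Subgroup C) : Set C) ≤ centralizer ((P : Subgroup C) : Set C) := by
      intro n hn
      obtain ⟨τ, hτ, hτn⟩ := L.mem_range.1 (hnorm n hn)
      have hnJ : (n : G) ∈ L.J := hτn ▸ (el_mem_J L hτ).2
        (plane_even L hS ha hb ha1 hab hτ (hτn ▸ n.2) (hodd τ hτ (hτn ▸ n.2)))
      exact mem_centralizer_iff.2 fun g hg =>
        Subtype.ext (J_comm L (mem_subgroupOf.1 (hP.le hg)) hnJ)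
    haveI := hab'
    obtain ⟨N, hNn, hc'⟩ : ∃ N : Subgroup C, N.Normal ∧ N.IsComplement' (P : Subgroup C) :=
      ⟨_, MonoidHom.normal_ker _, MonoidHom.ker_transferSylow_isComplement' P hN⟩
    have hcop : (Nat.card N).Coprime 3 := by
      rw [← hc'.index_eq_card]
      exact ((Nat.prime_three.coprime_iff_not_dvd).2 P.not_dvd_index).symm
    have hbot : N.map C.subtype = ⊥ := by
      refine L.signalizer _ (by rwa [card_map_of_injective C.subtype_injective]) ?_
      rintro j hj _ ⟨w, hw, rfl⟩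
      exact ⟨⟨j, hJC hj⟩ * w * ⟨j, hJC hj⟩⁻¹, hNn.conj_mem w hw _, rfl⟩
    rw [map_eq_bot_iff_of_injective _ C.subtype_injective] at hbot
    have htop : (P : Subgroup C) = ⊤ := isComplement'_bot_left.1 (hbot ▸ hc')
    intro c hc
    exact L.J_le (mem_subgroupOf.1 (hP.le (htop.ge (mem_top (⟨c, hc⟩ : C)))))

end CfsgLib.SNineThree.FactsAux
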