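import Cfsg.Agent.Lib.SNineThree.Interface
import Cfsg.Agent.Lib.ANineThree.CaseCFusion
import Cfsg.Agent.Lib.Transfer.TransferFixed

/-!
A homomorphism onto the group of order two: the transfer of the inversion character of the
normalizer of `⟨z3⟩`, evaluated by fixed-point parities of commuting involutions.
-/

set_option autoImplicit false
set_option linter.style.haveILetI false
set_option maxRecDepth 100000

namespace CfsgLib.SNineThree

open Subgroup Equiv
open CfsgLib.ANineThree (P9)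

universe u

namespace Hom

open CfsgLib.CubeSFour (comp idc cpow cconj inJ inK KL JL)
open Cfsg.Agent.S3702 (enc enc_mul enc_pow enc_one enc_injective enc_conj)
open CfsgLib.ANineThree (Hm z z2 z3 y x p τ)
open CfsgLib.ANineThree.CaseB (enc_mem_KL)

/-- `(0 1)(3 4)` -/
def t12 : P9 := swap 0 1 * swap 3 4

theorem mem_Hm_of_sign {σ : P9} (hσ : σ ∈ B) (hs : Perm.sign σ = 1) : σ ∈ Hm :=
  ANineThree.mem_Hm.2 ⟨hs, mem_B.1 hσ⟩

theorem t3_mem : t3 ∈ B := by decide +kernel
theorem τ0_mem : τ0 ∈ B := by decide +kernel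
theorem iota_mem : iota ∈ B := by decide +kernel
theorem t12_mem : t12 ∈ B := by decide +kernel
theorem z3_mem : z3 ∈ B := by decide +kernel
theorem y_mem : y ∈ B := by decide +kernel
theorem x_mem : x ∈ B := by decide +kernel
theorem p_mem : p ∈ B := by decide +kernel
theorem τ_mem : τ ∈ B := by decide +kernel
theorem t1_mem : (swap 0 1 : P9) ∈ B := by decide +kernel

theorem sign_t3 : Perm.sign t3 = -1 := by decide +kernel

/-- Every element of the block stabiliser is even or an even one times `(6 7)`. -/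
theorem cases_B {σ : P9} (hσ : σ ∈ B) : σ ∈ Hm ∨ ∃ h ∈ Hm, σ = h * t3 := by
  rcases Int.units_eq_one_or (Perm.sign σ) with h | h
  · exact Or.inl (mem_Hm_of_sign hσ h)
  · refine Or.inr ⟨σ * t3, mem_Hm_of_sign (B.mul_mem hσ t3_mem) (by rw [map_mul, h, sign_t3]; rfl),
      ?_⟩
    rw [mul_assoc, show t3 * t3 = 1 by decide +kernel, mul_one]

theorem mem_Hm_of_pow {σ : P9} (hσ : σ ∈ B) {n : ℕ} (hn : Odd n) (h : σ ^ n = 1) : σ ∈ Hm := by
  refine mem_Hm_of_sign hσ ?_
  have e := congrArg Perm.sign h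
  rw [map_pow, map_one] at e
  rcases Int.units_eq_one_or (Perm.sign σ) with h' | h'
  · exact h'
  · rw [h', hn.neg_one_pow] at e
    exact absurd e (by decide)

theorem J0_facts : z3 ∈ J0 ∧ z3⁻¹ ∈ J0 ∧ y ∈ J0 ∧ x ∈ J0 ∧ x⁻¹ ∈ J0 := by decide +kernel

theorem J0_odd : KL.all (fun a => !(CfsgLib.ANineThree.CaseB.fixB (comp a (enc t3))) ||
    !(comp (comp a (enc t3)) (enc x) == comp (enc x) (comp a (enc t3)))) = true := by decide +kernel

theorem J0_even : KL.all (fun a => !(CfsgLib.ANineThree.CaseB.fixB a) ||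
    !(comp a (enc x) == comp (enc x) a) || inJ a) = true := by decide +kernel

theorem J0_codes : JL.all (fun a => CfsgLib.ANineThree.CaseB.fixB a &&
    comp a (enc x) == comp (enc x) a) = true := by decide +kernel

theorem fixB_iff (σ : P9) : CfsgLib.ANineThree.CaseB.fixB (enc σ) = true ↔
    ∀ i : Fin 9, (σ i).val / 3 = i.val / 3 := by
  simp only [CfsgLib.ANineThree.CaseB.fixB, List.all_eq_true, List.mem_range, beq_iff_eq]
  constructor
  · intro hh i
    rw [← Cfsg.Agent.S3702.nib_enc]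
    exact hh i.val i.isLt
  · intro hh i hi
    rw [show i = (⟨i, hi⟩ : Fin 9).val from rfl, Cfsg.Agent.S3702.nib_enc]
    exact hh _

/-- The base group by codes. -/
theorem mem_J0_iff (σ : P9) : σ ∈ J0 ↔ inJ (enc σ) = true := by
  constructor
  · intro h
    obtain ⟨hx, hb⟩ := mem_J0.1 h
    have hf := (fixB_iff σ).2 hb
    have hc : comp (enc σ) (enc x) = comp (enc x) (enc σ) := by rw [← enc_mul, ← enc_mul, hx]
    rcases cases_B (J0_le_B h) with h1 | ⟨a, ha, rfl⟩
    · have e := List.all_eq_true.mp J0_even _ (enc_mem_KL h1)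
      rw [hf, hc, beq_self_eq_true] at e
      simpa using e
    · have e := List.all_eq_true.mp J0_odd _ (enc_mem_KL ha)
      rw [← enc_mul, hf, hc, beq_self_eq_true] at e
      simp at e
  · intro h
    have e := List.all_eq_true.mp J0_codes _ ((CfsgLib.CubeSFour.inJ_iff _).mp h)
    simp only [Bool.and_eq_true, beq_iff_eq] at e
    rw [← enc_mul, ← enc_mul] at e
    exact mem_J0.2 ⟨enc_injective e.2, (fixB_iff σ).1 e.1⟩

/-- The codes of the six elements of the class of `z3`. -/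
def zlist : List ℕ := [enc z, enc z⁻¹, enc z2, enc z2⁻¹, enc z3, enc z3⁻¹]

theorem zlist_closed : KL.all (fun k => zlist.contains (cconj k (enc z3)) &&
    zlist.contains (cconj k (enc z3⁻¹))) = true := by decide +kernel

theorem sconj_z3 {σ : P9} (h : SConj B z3 σ) : enc σ ∈ zlist := by
  obtain ⟨k, hk, rfl⟩ := h
  rcases cases_B hk with h1 | ⟨a, ha, rfl⟩
  · have e := List.all_eq_true.mp zlist_closed _ (enc_mem_KL h1)
    rw [enc_conj (CfsgLib.ANineThree.CaseB.Kgrp_eq.symm ▸ h1)]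
    simp only [Bool.and_eq_true, List.contains_iff_mem] at e
    exact e.1
  · have e := List.all_eq_true.mp zlist_closed _ (enc_mem_KL ha)
    have hconj : a * t3 * z3 * (a * t3)⁻¹ = a * z3⁻¹ * a⁻¹ := by
      rw [show a * t3 * z3 * (a * t3)⁻¹ = a * (t3 * z3 * t3⁻¹) * a⁻¹ by group,
        show t3 * z3 * t3⁻¹ = z3⁻¹ by decide +kernel]
    rw [hconj, enc_conj (CfsgLib.ANineThree.CaseB.Kgrp_eq.symm ▸ ha)]
    simp only [Bool.and_eq_true, List.contains_iff_mem] at e
    exact e.2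

theorem zlist_facts : (zlist.contains (enc y) || zlist.contains (enc (y ^ 2)) ||
    zlist.contains (enc x) || zlist.contains (enc x⁻¹)) = false := by decide +kernel

theorem zlist_tau : zlist.all (fun a => !(comp a (enc τ0) == comp (enc τ0) a) || a == enc z3 ||
    a == enc z3⁻¹) = true := by decide +kernel

theorem cent_y_sq : KL.all (fun a => !(comp a (enc y) == comp (enc y) a) ||
    (inJ (comp a a) && inJ (comp (comp a (enc t3)) (comp a (enc t3))))) = true := by decide +kernel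

theorem cent_quad : KL.all (fun a => !(cpow a 9 == idc) || !(comp a (enc y) == comp (enc y) a) ||
    !(comp a (enc τ) == comp (enc τ) a) || [idc, enc y, cpow (enc y) 2].contains a) = true :=
  CfsgLib.ANineThree.CaseC.y_tau

theorem cent_E : KL.all (fun a => !(cpow a 9 == idc) || !(comp a (enc y) == comp (enc y) a) ||
    !(comp a (enc z3) == comp (enc z3) a) || !(comp a (enc τ0) == comp (enc τ0) a) ||
    (List.range 3).any (fun i => (List.range 3).any fun j =>
      a == comp (cpow (enc y) i) (cpow (enc z3) j))) = true := by decide +kernel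

theorem facts : t3 * τ0 = τ0 * t3 ∧ t3 * t3 = 1 ∧ τ0 * τ0 = 1 ∧ t3 * z3 * t3⁻¹ = z3⁻¹ ∧
    τ0 * z3 = z3 * τ0 ∧ τ0 * t3 = τ ∧ τ0 * y = y * τ0 ∧ τ * y = y * τ ∧
    swap 0 1 * τ0 * (swap 0 1 : P9)⁻¹ = τ0 * t12 ∧ swap 0 1 * z3 * (swap 0 1 : P9)⁻¹ = z3 ∧
    t12 * t12 = 1 ∧ t12 * τ0 = τ0 * t12 ∧ t12 * t3 = t3 * t12 ∧ t12 * t3 = iota ∧
    iota * iota = 1 ∧ iota ≠ 1 ∧ iota * p = p * iota ∧ y * z3 = z3 * y ∧ y ≠ 1 ∧ p ^ 3 = 1 ∧
    p ≠ 1 ∧ z3 ^ 3 = 1 ∧ z3 ≠ 1 ∧ y ^ 3 = 1 := by
  decide +kernel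

theorem three_cases {C : Type u} [Group C] {a : C} (ha : orderOf a = 3) {b : C}
    (hb : b ∈ zpowers a) : b = 1 ∨ b = a ∨ b = a⁻¹ := by
  obtain ⟨i, rfl⟩ := mem_zpowers_iff.1 hb
  rw [← zpow_mod_orderOf, ha]
  rcases (show i % 3 = 0 ∨ i % 3 = 1 ∨ i % 3 = 2 by omega) with e | e | e <;> (push_cast; rw [e])
  · exact Or.inl (zpow_zero a)
  · exact Or.inr (Or.inl (zpow_one a))
  · refine Or.inr (Or.inr ?_)
    rw [zpow_two]
    refine eq_inv_of_mul_eq_one_left ?_
    rw [← pow_two, ← pow_succ]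
    exact (show a ^ 3 = 1 by rw [← ha, pow_orderOf_eq_one])

/-- With `9 ∤ |C|` all elements of order three are conjugate up to inversion. -/
theorem conj_of_not_nine {C : Type u} [Group C] [Finite C] (h9 : ¬ 9 ∣ Nat.card C) {a b : C}
    (ha : orderOf a = 3) (hb : orderOf b = 3) : ∃ g : C, g * b * g⁻¹ = a ∨ g * b * g⁻¹ = a ^ 2 := by
  haveI := Fact.mk Nat.prime_three
  have hp : ∀ c : C, orderOf c = 3 → IsPGroup 3 (zpowers c) := fun c hc =>
    IsPGroup.of_card (n := 1) (by rw [Nat.card_zpowers, hc, pow_one])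
  obtain ⟨P, hP⟩ := (hp a ha).exists_le_sylow
  have hPa : (P : Subgroup C) = zpowers a := by
    refine (eq_of_le_of_card_ge hP ?_).symm
    obtain ⟨n, hn⟩ := IsPGroup.iff_card.1 P.isPGroup'
    rw [Nat.card_zpowers, ha, hn]
    rcases n with _ | _ | n
    · norm_num
    · norm_num
    · exact absurd ((show 9 ∣ 3 ^ (n + 2) from ⟨3 ^ n, by rw [pow_add]; ring⟩).trans
        (hn ▸ card_subgroup_dvd_card _)) h9
  obtain ⟨Q, hQ⟩ := (hp b hb).exists_le_sylow
  obtain ⟨g, hg⟩ := MulAction.exists_smul_eq C Q P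
  refine ⟨g, ?_⟩
  have h1 : g * b * g⁻¹ ∈ zpowers a := by
    rw [← hPa, ← hg, Sylow.coe_subgroup_smul]
    exact ⟨b, hQ (mem_zpowers b), rfl⟩
  rcases three_cases ha h1 with e | e | e
  · exfalso
    have : b = 1 := by simpa using e
    rw [this, orderOf_one] at hb
    omega
  · exact Or.inl e
  · refine Or.inr (e.trans (inv_eq_of_mul_eq_one_right ?_))
    rw [← pow_succ']
    exact (show a ^ 3 = 1 by rw [← ha, pow_orderOf_eq_one])

variable {G : Type u} [Group G] [Finite G] (L : Loc B G)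

/-- The element `z3`. -/
noncomputable def zE : G := L.el z3

theorem orderOf_el {σ : P9} (hσ : σ ∈ B) (h3 : σ ^ 3 = 1) (h1 : σ ≠ 1) : orderOf (L.el σ) = 3 := by
  haveI := Fact.mk Nat.prime_three
  refine orderOf_eq_prime ?_ fun e => h1 (L.el_inj hσ B.one_mem (e.trans L.el_one.symm))
  rw [← L.el_pow hσ, h3, L.el_one]

theorem order_zE : orderOf (zE L) = 3 :=
  orderOf_el L z3_mem facts.2.2.2.2.2.2.2.2.2.2.2.2.2.2.2.2.2.2.2.2.2.1
    facts.2.2.2.2.2.2.2.2.2.2.2.2.2.2.2.2.2.2.2.2.2.2.1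

/-- The normalizer of `⟨z3⟩`. -/
abbrev N : Subgroup G := normalizer (zpowers (zE L) : Set G)

theorem conj_cases {g : G} (hg : g ∈ N L) :
    g * zE L * g⁻¹ = zE L ∨ g * zE L * g⁻¹ = (zE L)⁻¹ := by
  rcases three_cases (order_zE L) ((mem_normalizer_iff.1 hg _).1 (mem_zpowers _)) with e | e | e
  · exfalso
    have : zE L = 1 := by simpa using e
    have h := order_zE L
    rw [this, orderOf_one] at h
    omega
  · exact Or.inl e
  · exact Or.inr e

theorem mem_N {g : G} (h : g * zE L * g⁻¹ = zE L ∨ g * zE L * g⁻¹ = (zE L)⁻¹) : g ∈ N L := by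
  refine Subgroup.mem_normalizer_fintype fun w hw => ?_
  obtain ⟨i, rfl⟩ := mem_zpowers_iff.1 hw
  show g * zE L ^ i * g⁻¹ ∈ zpowers (zE L)
  rw [← conj_zpow]
  rcases h with e | e <;> rw [e]
  · exact zpow_mem (mem_zpowers _) i
  · exact zpow_mem (inv_mem (mem_zpowers _)) i

open scoped Classical in
/-- The inversion character. -/
noncomputable def eps : N L →* ℤˣ where
  toFun g := if (g : G) * zE L * (g : G)⁻¹ = zE L then 1 else -1
  map_one' := by simp
  map_mul' g h := by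
    have hne : (zE L)⁻¹ ≠ zE L := fun e => by
      have h3 : zE L ^ 2 = 1 := by rw [pow_two]; nth_rewrite 1 [← e]; exact inv_mul_cancel _
      have := orderOf_dvd_of_pow_eq_one h3
      rw [order_zE] at this
      omega
    have e : ((g * h : N L) : G) * zE L * ((g * h : N L) : G)⁻¹ =
        (g : G) * ((h : G) * zE L * (h : G)⁻¹) * (g : G)⁻¹ := by
      rw [Subgroup.coe_mul]; group
    rw [e]
    rcases conj_cases L g.2 with eg | eg <;> rcases conj_cases L h.2 with eh | eh <;>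
      simp [eg, eh, ← conj_inv, hne]

/-- The transfer. -/
noncomputable def V : G →* ℤˣ := MonoidHom.transfer (eps L)

theorem transfer_eq [Fintype (G ⧸ N L)] {t : G} (ht : t * t = 1) :
    V L t = ∏ q : G ⧸ N L, CfsgLib.Transfer.fixedVal (eps L) t q := by
  refine CfsgLib.Transfer.transfer_eq_prod_fixedVal (eps L) t fun k hk hkd g h => ?_
  have h2 : orderOf t ∣ 2 := orderOf_dvd_of_pow_eq_one (by rw [pow_two, ht])
  have hk2 : k = 2 := le_antisymm (Nat.le_of_dvd (by norm_num) (hkd.trans h2)) hk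
  subst hk2
  rw [show (⟨g⁻¹ * t ^ 2 * g, h⟩ : N L) = 1 from Subtype.ext (by
    show g⁻¹ * t ^ 2 * g = 1
    rw [pow_two, ht, mul_one, inv_mul_cancel]), map_one]

/-- The element of the line of a coset. -/
noncomputable def w (q : G ⧸ N L) : G := q.out * zE L * q.out⁻¹

theorem isConj_w (q : G ⧸ N L) : IsConj (zE L) (w L q) := isConj_iff.2 ⟨q.out, rfl⟩

theorem fixed_cases {s : G} {q : G ⧸ N L} (h : s • q = q) :
    s * w L q * s⁻¹ = w L q ∨ s * w L q * s⁻¹ = (w L q)⁻¹ := by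
  have hm : q.out⁻¹ * s * q.out ∈ N L := by
    rw [CfsgLib.Transfer.mem_iff_smul_eq, QuotientGroup.out_eq']; exact h
  have e : s * w L q * s⁻¹ = q.out * (q.out⁻¹ * s * q.out * zE L * (q.out⁻¹ * s * q.out)⁻¹) *
      q.out⁻¹ := by simp only [w]; group
  rcases conj_cases L hm with h' | h' <;> rw [h'] at e
  · exact Or.inl e
  · exact Or.inr (e.trans (by simp only [w]; group))

theorem of_fixedVal {t : G} {q : G ⧸ N L} (h : CfsgLib.Transfer.fixedVal (eps L) t q ≠ 1) :
    t * w L q * t⁻¹ = (w L q)⁻¹ := by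
  classical
  have hfix : t • q = q := by
    by_contra hne
    exact h (CfsgLib.Transfer.fixedVal_of_ne _ _ hne)
  rcases fixed_cases L hfix with e | e
  · exfalso
    apply h
    have hm : q.out⁻¹ * t * q.out ∈ N L := by
      rw [CfsgLib.Transfer.mem_iff_smul_eq, QuotientGroup.out_eq']; exact hfix
    have h1 := CfsgLib.Transfer.fixedVal_of_mem (eps L) t hm
    rw [QuotientGroup.out_eq'] at h1
    rw [h1]
    show ite _ _ _ = _
    rw [if_pos]
    calc q.out⁻¹ * t * q.out * zE L * (q.out⁻¹ * t * q.out)⁻¹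
        = q.out⁻¹ * (t * w L q * t⁻¹) * q.out := by simp only [w]; group
      _ = zE L := by rw [e]; simp only [w]; group
  · exact e

theorem fixedVal_smul {t s : G} (hcomm : s * t = t * s) (q : G ⧸ N L) :
    CfsgLib.Transfer.fixedVal (eps L) t (s • q) = CfsgLib.Transfer.fixedVal (eps L) t q := by
  classical
  by_cases h : t • q = q
  · have hm : q.out⁻¹ * t * q.out ∈ N L := by
      rw [CfsgLib.Transfer.mem_iff_smul_eq, QuotientGroup.out_eq']; exact h
    have e : (s * q.out)⁻¹ * t * (s * q.out) = q.out⁻¹ * t * q.out := by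
      rw [show (s * q.out)⁻¹ * t * (s * q.out) = q.out⁻¹ * s⁻¹ * (t * s) * q.out by group, ← hcomm]
      group
    have hs : s • q = ((s * q.out : G) : G ⧸ N L) := by
      conv_lhs => rw [← QuotientGroup.out_eq' q]
      rw [MulAction.Quotient.smul_coe, smul_eq_mul]
    rw [hs, CfsgLib.Transfer.fixedVal_of_mem (eps L) t (g := s * q.out) (e ▸ hm)]
    conv_rhs => rw [← QuotientGroup.out_eq' q]
    rw [CfsgLib.Transfer.fixedVal_of_mem (eps L) t hm]
    exact congrArg _ (Subtype.ext e)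
  · rw [CfsgLib.Transfer.fixedVal_of_ne _ _ h, CfsgLib.Transfer.fixedVal_of_ne _ _ ?_]
    intro h'
    apply h
    rw [← mul_smul, ← hcomm, mul_smul, smul_left_cancel_iff] at h'
    exact h'

/-- A product of signs invariant under an involution is the product over its fixed points. -/
theorem prod_fixed {α : Type*} [DecidableEq α] [MulAction G α] (F : Finset α) (f : α → ℤˣ) {s : G} (hs : s * s = 1)
    (hF : ∀ a ∈ F, s • a ∈ F) (hf : ∀ a ∈ F, f (s • a) = f a) :
    ∏ a ∈ F, f a = ∏ a ∈ F.filter (fun a => s • a = a), f a := by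
  rw [← Finset.prod_filter_mul_prod_filter_not F (fun a => s • a = a), mul_eq_left]
  refine Finset.prod_involution (fun a _ => s • a) ?_ ?_ ?_ ?_
  · intro a ha
    rw [hf a (Finset.mem_filter.1 ha).1, Int.units_mul_self]
  · intro a ha _
    exact (Finset.mem_filter.1 ha).2
  · intro a ha
    obtain ⟨h1, h2⟩ := Finset.mem_filter.1 ha
    refine Finset.mem_filter.2 ⟨hF a h1, fun e => h2 ?_⟩
    rwa [smul_left_cancel_iff] at e
  · intro a ha
    rw [← mul_smul, hs, one_smul]

theorem sq_el {σ : P9} (hσ : σ ∈ B) (h : σ * σ = 1) : L.el σ * L.el σ = 1 := by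
  rw [← L.el_mul hσ hσ, h, L.el_one]

theorem cent_y (hF : Facts L) : centralizer ({L.el y} : Set G) ≤ L.e.range := by
  refine hF.cent_one y J0_facts.2.2.1 facts.2.2.2.2.2.2.2.2.2.2.2.2.2.2.2.2.2.2.1 fun σ hσ hcom => ?_
  have hy3 : t3 * y = y * t3 := by decide +kernel
  rcases cases_B hσ with h | ⟨a, ha, rfl⟩
  · rw [mem_J0_iff, enc_mul]
    have e := List.all_eq_true.mp cent_y_sq _ (enc_mem_KL h)
    rw [← enc_mul, ← enc_mul, hcom, beq_self_eq_true] at e
    simp only [Bool.not_true, Bool.false_or, Bool.and_eq_true] at e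
    exact e.1
  · have hay : a * y = y * a := by
      have h1 : a * t3 * y * t3⁻¹ = y * a := by rw [hcom]; group
      rwa [mul_assoc a t3 y, hy3, ← mul_assoc, mul_inv_cancel_right] at h1
    rw [mem_J0_iff, enc_mul, enc_mul]
    have e := List.all_eq_true.mp cent_y_sq _ (enc_mem_KL ha)
    rw [← enc_mul a y, ← enc_mul y a, hay, beq_self_eq_true] at e
    simp only [Bool.not_true, Bool.false_or, Bool.and_eq_true] at e
    exact e.2

/-- No conjugate of `z3` centralizes `(0 3)(1 4)(2 5)(6 7)`. -/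
theorem quad_no_z (hF : Facts L) {v : G} (hv : IsConj (zE L) v) :
    v * L.el τ ≠ L.el τ * v := by
  intro hc
  obtain ⟨g, hg⟩ := isConj_iff.1 hv
  have hyC : L.el y ∈ centralizer ({L.el τ} : Set G) :=
    mem_centralizer_singleton_iff.2 ((L.commute_el y_mem τ_mem).2 facts.2.2.2.2.2.2.2.1.symm)
  have hvC : v ∈ centralizer ({L.el τ} : Set G) := mem_centralizer_singleton_iff.2 hc
  have ho1 : orderOf (⟨_, hyC⟩ : centralizer ({L.el τ} : Set G)) = 3 := by
    rw [← Subgroup.orderOf_coe]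
    exact orderOf_el L y_mem facts.2.2.2.2.2.2.2.2.2.2.2.2.2.2.2.2.2.2.2.2.2.2.2
      facts.2.2.2.2.2.2.2.2.2.2.2.2.2.2.2.2.2.2.1
  have ho2 : orderOf (⟨v, hvC⟩ : centralizer ({L.el τ} : Set G)) = 3 := by
    rw [← Subgroup.orderOf_coe]
    show orderOf v = 3
    rw [← hg, ← MulAut.conj_apply, MulEquiv.orderOf_eq, order_zE]
  obtain ⟨d, hd⟩ := CfsgLib.ANineThree.CaseC.exists_conj_of_three ho1 ho2 (by
    rintro ⟨c, hcC⟩ ⟨n, hn⟩ hcy
    have hcy' : c * L.el y = L.el y * c := congrArg Subtype.val hcy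
    obtain ⟨σ, hσ, rfl⟩ := L.mem_range.1 (cent_y L hF (mem_centralizer_singleton_iff.2 hcy'))
    have h1 := (L.commute_el hσ y_mem).1 hcy'
    have h2 := (L.commute_el hσ τ_mem).1 (mem_centralizer_singleton_iff.1 hcC)
    have hn' : σ ^ 3 ^ n = 1 := L.el_inj (B.pow_mem hσ _) B.one_mem (by
      rw [L.el_pow hσ, L.el_one]; exact congrArg Subtype.val hn)
    have hH : σ ∈ Hm := mem_Hm_of_pow hσ (Odd.pow (by decide)) hn'
    have h36 : σ ^ 36 = 1 := enc_injective (by
      rw [enc_pow, enc_one]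
      exact beq_iff_eq.mp (List.all_eq_true.mp CfsgLib.CubeSFour.KL_pow _ (enc_mem_KL hH)))
    have h9 : σ ^ 9 = 1 := orderOf_dvd_iff_pow_eq_one.mp
      ((Nat.Coprime.coprime_dvd_left (orderOf_dvd_of_pow_eq_one hn')
        (Nat.Coprime.pow_left n (by decide : Nat.Coprime 3 4))).dvd_of_dvd_mul_left
          (orderOf_dvd_of_pow_eq_one h36 : orderOf σ ∣ 4 * 9))
    have e := List.all_eq_true.mp cent_quad _ (enc_mem_KL hH)
    rw [← enc_pow, h9, enc_one, ← enc_mul, ← enc_mul, h1, ← enc_mul, ← enc_mul, h2] at e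
    simp only [beq_self_eq_true, Bool.not_true, Bool.false_or, List.contains_iff_mem,
      List.mem_cons, List.not_mem_nil, or_false] at e
    rcases e with e | e | e
    · obtain rfl : σ = 1 := enc_injective (e.trans enc_one.symm)
      exact (show (⟨L.el 1, hcC⟩ : centralizer ({L.el τ} : Set G)) = 1 from Subtype.ext L.el_one) ▸
        one_mem _
    · obtain rfl : σ = y := enc_injective e
      exact mem_zpowers _
    · rw [← enc_pow] at e
      obtain rfl : σ = y ^ 2 := enc_injective e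
      refine mem_zpowers_iff.2 ⟨2, Subtype.ext ?_⟩
      show L.el y ^ (2 : ℤ) = L.el (y ^ 2)
      rw [L.el_pow y_mem, zpow_two, pow_two])
  have key : ∀ σ ∈ J0, (d : G) * v * (d : G)⁻¹ = L.el σ → enc σ ∈ zlist := fun σ hσ e =>
    sconj_z3 (hF.fusion z3 J0_facts.1 σ hσ (isConj_iff.2 ⟨(d : G) * g, by
      rw [← e, ← hg]; show _ * zE L * _ = _; group⟩))
  have hnot := zlist_facts
  simp only [Bool.or_eq_false_iff] at hnot
  rcases hd with e | e
  · have h := key y J0_facts.2.2.1 (congrArg Subtype.val e)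
    rw [← List.contains_iff_mem, hnot.1.1.1] at h
    exact absurd h (by decide)
  · have h := key (y ^ 2) (J0.pow_mem J0_facts.2.2.1 2) (by
      rw [L.el_pow y_mem]; exact congrArg Subtype.val e)
    rw [← List.contains_iff_mem, hnot.1.1.2] at h
    exact absurd h (by decide)

/-- The only conjugates of `z3` centralizing `(0 3)(1 4)(2 5)` are `z3` and its inverse. -/
theorem tau_z (hF : Facts L) (hT : centralizer ({L.el τ0} : Set G) ≤ N L) {v : G}
    (hv : IsConj (zE L) v) (hc : v * L.el τ0 = L.el τ0 * v) : v = zE L ∨ v = (zE L)⁻¹ := by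
  haveI := Fact.mk Nat.prime_three
  set C := centralizer ({L.el τ0} : Set G)
  obtain ⟨g, hg⟩ := isConj_iff.1 hv
  have hzC : zE L ∈ C :=
    mem_centralizer_singleton_iff.2 ((L.commute_el z3_mem τ0_mem).2 facts.2.2.2.2.1.symm)
  have hyC : L.el y ∈ C :=
    mem_centralizer_singleton_iff.2 ((L.commute_el y_mem τ0_mem).2 facts.2.2.2.2.2.2.1.symm)
  have hy3 : L.el y ^ 3 = 1 := by
    rw [← L.el_pow y_mem, facts.2.2.2.2.2.2.2.2.2.2.2.2.2.2.2.2.2.2.2.2.2.2.2, L.el_one]
  have hyz : L.el y * zE L = zE L * L.el y :=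
    (L.commute_el y_mem z3_mem).2 facts.2.2.2.2.2.2.2.2.2.2.2.2.2.2.2.2.2.1
  -- a Sylow subgroup of the centralizer centralizing `y` and `z3`
  let E : Subgroup C := closure {⟨_, hzC⟩, ⟨_, hyC⟩}
  have hEmem : ∀ c ∈ E, ∃ σ ∈ J0, (c : G) = L.el σ := by
    intro c hc'
    have : E ≤ (L.J.subgroupOf C) := by
      rw [closure_le]
      rintro c (rfl | rfl)
      · exact mem_subgroupOf.2 (L.mem_J.2 ⟨z3, J0_facts.1, rfl⟩)
      · exact mem_subgroupOf.2 (L.mem_J.2 ⟨y, J0_facts.2.2.1, rfl⟩)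
    obtain ⟨σ, hσ, e⟩ := L.mem_J.1 (mem_subgroupOf.1 (this hc'))
    exact ⟨σ, hσ, e.symm⟩
  have hEp : IsPGroup 3 E := by
    rintro ⟨c, hc'⟩
    obtain ⟨σ, hσ, e⟩ := hEmem c hc'
    refine ⟨1, Subtype.ext (Subtype.ext ?_)⟩
    show (c : G) ^ 3 ^ 1 = 1
    rw [e, pow_one, ← L.el_pow (J0_le_B hσ), Cfsg.Agent.S3702.J_cube ((mem_J0_iff σ).1 hσ),
      L.el_one]
  obtain ⟨P, hP⟩ := hEp.exists_le_sylow
  have hzP : (⟨_, hzC⟩ : C) ∈ (P : Subgroup C) := hP (subset_closure (Or.inl rfl))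
  have hyP : (⟨_, hyC⟩ : C) ∈ (P : Subgroup C) := hP (subset_closure (Or.inr rfl))
  have hPz : ∀ c : C, c ∈ (P : Subgroup C) → (c : G) * zE L = zE L * (c : G) := by
    intro c hc'
    rcases conj_cases L (hT c.2) with e | e
    · exact mul_inv_eq_iff_eq_mul.1 e
    · exfalso
      obtain ⟨n, hn⟩ := P.isPGroup' ⟨c, hc'⟩
      have hn' : (c : G) ^ 3 ^ n = 1 :=
        congrArg (fun a : (P : Subgroup C) => ((a : C) : G)) hn
      have key : ∀ m : ℕ, Odd m → (c : G) ^ m * zE L * ((c : G) ^ m)⁻¹ = (zE L)⁻¹ := by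
        rintro _ ⟨m, rfl⟩
        induction m with
        | zero => simpa using e
        | succ m ih =>
          rw [show 2 * (m + 1) + 1 = 1 + (1 + (2 * m + 1)) by ring, pow_add, pow_add _ 1,
            pow_one, show (c : G) * ((c : G) * (c : G) ^ (2 * m + 1)) * zE L *
              ((c : G) * ((c : G) * (c : G) ^ (2 * m + 1)))⁻¹ = (c : G) * ((c : G) *
              ((c : G) ^ (2 * m + 1) * zE L * ((c : G) ^ (2 * m + 1))⁻¹) * (c : G)⁻¹) * (c : G)⁻¹ by
              group, ih, show (c : G) * (zE L)⁻¹ * (c : G)⁻¹ = zE L by rw [← conj_inv, e, inv_inv],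
            e]
      have h1 := key _ (Odd.pow (by decide : Odd 3) (n := n))
      rw [hn', one_mul, inv_one, mul_one] at h1
      have h2 : zE L ^ 2 = 1 := by rw [pow_two]; nth_rewrite 1 [h1]; exact inv_mul_cancel _
      have := orderOf_dvd_of_pow_eq_one h2
      rw [order_zE] at this
      omega
  have hcent : ∀ c : C, c ∈ (P : Subgroup C) → (c : G) * L.el y = L.el y * (c : G) →
      ∃ σ ∈ J0, (c : G) = L.el σ ∧ c ∈ E := by
    intro c hc' hcy
    have hmem : (c : G) ∈ centralizer ({L.el z3, L.el y} : Set G) :=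
      mem_centralizer_iff.2 (by
        rintro a (rfl | rfl)
        · exact (hPz c hc').symm
        · exact hcy.symm)
    have hyz' : y ∉ zpowers z3 := fun h => by
      rcases three_cases (orderOf_eq_prime facts.2.2.2.2.2.2.2.2.2.2.2.2.2.2.2.2.2.2.2.2.2.1
        facts.2.2.2.2.2.2.2.2.2.2.2.2.2.2.2.2.2.2.2.2.2.2.1) h with e | e | e <;>
        exact absurd e (by decide +kernel)
    obtain ⟨σ, hσ, e⟩ := L.mem_range.1 (hF.cent_two z3 J0_facts.1 y J0_facts.2.2.1
      facts.2.2.2.2.2.2.2.2.2.2.2.2.2.2.2.2.2.2.2.2.2.2.1 hyz' hmem)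
    obtain ⟨n, hn⟩ := P.isPGroup' ⟨c, hc'⟩
    have hn' : σ ^ 3 ^ n = 1 := L.el_inj (B.pow_mem hσ _) B.one_mem (by
      rw [L.el_pow hσ, L.el_one, e]
      exact congrArg (fun a : (P : Subgroup C) => ((a : C) : G)) hn)
    have hH : σ ∈ Hm := mem_Hm_of_pow hσ (Odd.pow (by decide)) hn'
    have h36 : σ ^ 36 = 1 := enc_injective (by
      rw [enc_pow, enc_one]
      exact beq_iff_eq.mp (List.all_eq_true.mp CfsgLib.CubeSFour.KL_pow _ (enc_mem_KL hH)))
    have h9 : σ ^ 9 = 1 := orderOf_dvd_iff_pow_eq_one.mp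
      ((Nat.Coprime.coprime_dvd_left (orderOf_dvd_of_pow_eq_one hn')
        (Nat.Coprime.pow_left n (by decide : Nat.Coprime 3 4))).dvd_of_dvd_mul_left
          (orderOf_dvd_of_pow_eq_one h36 : orderOf σ ∣ 4 * 9))
    have h1 := (L.commute_el hσ y_mem).1 (by rw [e]; exact hcy)
    have h2 := (L.commute_el hσ z3_mem).1 (by rw [e]; exact hPz c hc')
    have h3 := (L.commute_el hσ τ0_mem).1 (by rw [e]; exact mem_centralizer_singleton_iff.1 c.2)
    have hr := List.all_eq_true.mp cent_E _ (enc_mem_KL hH)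
    rw [← enc_pow, h9, enc_one, ← enc_mul, ← enc_mul, h1, ← enc_mul, ← enc_mul, h2, ← enc_mul,
      ← enc_mul, h3] at hr
    simp only [beq_self_eq_true, Bool.not_true, Bool.false_or, List.any_eq_true, beq_iff_eq] at hr
    obtain ⟨i, -, j, -, hr⟩ := hr
    rw [← enc_pow, ← enc_pow, ← enc_mul] at hr
    have hσe := enc_injective hr
    refine ⟨σ, hσe ▸ J0.mul_mem (J0.pow_mem J0_facts.2.2.1 i) (J0.pow_mem J0_facts.1 j), e.symm, ?_⟩
    have : c = (⟨_, hyC⟩ : C) ^ i * (⟨_, hzC⟩ : C) ^ j := Subtype.ext (by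
      rw [← e, hσe, L.el_mul (B.pow_mem y_mem i) (B.pow_mem z3_mem j), L.el_pow y_mem,
        L.el_pow z3_mem]
      rfl)
    rw [this]
    exact E.mul_mem (E.pow_mem (subset_closure (Or.inr rfl)) i)
      (E.pow_mem (subset_closure (Or.inl rfl)) j)
  have hPE : (P : Subgroup C) = E := by
    refine le_antisymm (fun c hc' => ?_) hP
    haveI : Group.IsNilpotent (P : Subgroup C) := P.isPGroup'.isNilpotent
    by_contra hcE
    -- an element of `P` normalising `E` centralises `y`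
    obtain ⟨n, hn, hnE⟩ : ∃ n ∈ (P : Subgroup C), n ∈ normalizer (E : Set C) ∧ n ∉ E := by
      have hlt : E.subgroupOf (P : Subgroup C) < ⊤ := by
        refine lt_top_iff_ne_top.2 fun e => hcE ?_
        exact (subgroupOf_eq_top.1 e) hc'
      obtain ⟨⟨n, hn⟩, hn1, hn2⟩ := SetLike.exists_of_lt
        (Group.normalizerCondition_of_isNilpotent _ hlt)
      refine ⟨n, hn, Subgroup.mem_normalizer_fintype fun a ha => ?_, fun h => hn2 h⟩
      exact (mem_normalizer_iff.1 hn1 ⟨a, hP ha⟩).1 ha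
    refine hnE.2 ?_
    obtain ⟨σ, hσ, e⟩ := hEmem _ ((mem_normalizer_iff.1 hnE.1 _).1
      (subset_closure (Or.inr rfl) : (⟨_, hyC⟩ : C) ∈ E))
    have e' : (n : G) * L.el y * (n : G)⁻¹ = L.el σ := e
    obtain ⟨k, hk, hk'⟩ := hF.fusion y J0_facts.2.2.1 σ hσ (isConj_iff.2 ⟨(n : G), e'⟩)
    have hστ : σ * τ0 = τ0 * σ := (L.commute_el (J0_le_B hσ) τ0_mem).1 (by
      rw [← e]
      exact mem_centralizer_singleton_iff.1 (n * (⟨_, hyC⟩ : C) * n⁻¹).2)
    have hny : σ = y := by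
      have hr : ∀ a ∈ JL, comp a (enc τ0) = comp (enc τ0) a →
          (∃ i j : Fin 3, a = comp (cpow (enc y) i) (cpow (enc z3) j)) := by decide +kernel
      obtain ⟨i, j, hij⟩ := hr _ ((CfsgLib.CubeSFour.inJ_iff _).mp ((mem_J0_iff σ).1 hσ))
        (by rw [← enc_mul, ← enc_mul, hστ])
      rw [← enc_pow, ← enc_pow, ← enc_mul] at hij
      obtain rfl := enc_injective hij
      have hk2 := hk'
      revert hk2
      have hmain : ∀ i j : Fin 3, (∃ k ∈ KL, cconj k (enc y) = enc (y ^ i.val * z3 ^ j.val) ∨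
          cconj k (enc (t3 * y * t3)) = enc (y ^ i.val * z3 ^ j.val)) →
          (i = 1 ∨ i = 2) ∧ j = 0 := by decide +kernel
      intro hk2
      have hij2 := hmain i j (by
        rcases cases_B hk with h | ⟨a, ha, rfl⟩
        · refine ⟨_, enc_mem_KL h, Or.inl ?_⟩
          rw [← enc_conj (CfsgLib.ANineThree.CaseB.Kgrp_eq.symm ▸ h), hk2]
        · refine ⟨_, enc_mem_KL ha, Or.inr ?_⟩
          rw [← enc_conj (CfsgLib.ANineThree.CaseB.Kgrp_eq.symm ▸ ha), ← hk2]
          congr 1)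
      obtain ⟨hi, rfl⟩ := hij2
      rcases hi with rfl | rfl
      · simp
      · exfalso
        obtain ⟨l, hl⟩ := P.isPGroup' ⟨n, hn⟩
        have hl' : (n : G) ^ 3 ^ l = 1 := congrArg (fun a : (P : Subgroup C) => ((a : C) : G)) hl
        have e2 : (n : G) * L.el y * (n : G)⁻¹ = L.el y ^ 2 := by
          rw [e', ← L.el_pow y_mem]
          exact congrArg L.el (by decide +kernel)
        have h4 : Commute ((n : G) ^ 2) (L.el y) := by
          refine mul_inv_eq_iff_eq_mul.1 ?_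
          calc (n : G) ^ 2 * L.el y * ((n : G) ^ 2)⁻¹
              = (n : G) * ((n : G) * L.el y * (n : G)⁻¹) * (n : G)⁻¹ := by rw [pow_two]; group
            _ = L.el y ^ 3 * L.el y := by rw [e2, ← conj_pow, e2, ← pow_mul, ← pow_succ]
            _ = L.el y := by rw [hy3, one_mul]
        obtain ⟨m, hm⟩ := exists_pow_eq_self_of_coprime (n := 2) (x := (n : G))
          (Nat.Coprime.coprime_dvd_right (orderOf_dvd_of_pow_eq_one hl')
            (Nat.Coprime.pow_right l (by decide)))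
        have h5 : Commute (n : G) (L.el y) := hm ▸ h4.pow_left m
        rw [h5.eq, mul_inv_cancel_right, pow_two] at e2
        have := orderOf_el L y_mem facts.2.2.2.2.2.2.2.2.2.2.2.2.2.2.2.2.2.2.2.2.2.2.2
          facts.2.2.2.2.2.2.2.2.2.2.2.2.2.2.2.2.2.2.1
        rw [mul_eq_left.1 e2.symm, orderOf_one] at this
        omega
    rw [hny] at e'
    obtain ⟨-, -, -, hE'⟩ := hcent n hn (mul_inv_eq_iff_eq_mul.1 e')
    exact hE'
  have hvC : v ∈ C := mem_centralizer_singleton_iff.2 hc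
  have hv3 : v ^ 3 = 1 := by
    rw [← hg, conj_pow]
    have h := pow_orderOf_eq_one (zE L)
    rw [order_zE] at h
    rw [h, mul_one, mul_inv_cancel]
  have hpv : IsPGroup 3 (zpowers (⟨v, hvC⟩ : C)) := by
    rintro ⟨a, ha⟩
    obtain ⟨i, rfl⟩ := mem_zpowers_iff.1 ha
    refine ⟨1, Subtype.ext (Subtype.ext ?_)⟩
    show ((⟨v, hvC⟩ : C) ^ i : C).1 ^ 3 ^ 1 = 1
    rw [pow_one, SubgroupClass.coe_zpow, ← zpow_natCast, ← zpow_mul, mul_comm, zpow_mul,
      zpow_natCast, hv3, one_zpow]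
  obtain ⟨Q, hQ⟩ := hpv.exists_le_sylow
  obtain ⟨d, hd⟩ := MulAction.exists_smul_eq C Q P
  have h1 : d * ⟨v, hvC⟩ * d⁻¹ ∈ E := by
    rw [← hPE, ← hd, Sylow.coe_subgroup_smul]
    exact ⟨_, hQ (mem_zpowers _), rfl⟩
  obtain ⟨σ, hσ, e⟩ := hEmem _ h1
  have e' : (d : G) * v * (d : G)⁻¹ = L.el σ := e
  have hz := sconj_z3 (hF.fusion z3 J0_facts.1 σ hσ (isConj_iff.2 ⟨(d : G) * g, by
    rw [← e', ← hg]; show _ * zE L * _ = _; group⟩))
  have hστ : σ * τ0 = τ0 * σ := (L.commute_el (J0_le_B hσ) τ0_mem).1 (by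
    rw [← e]
    exact mem_centralizer_singleton_iff.1 (d * (⟨v, hvC⟩ : C) * d⁻¹).2)
  have hz' := List.all_eq_true.mp zlist_tau _ hz
  rw [← enc_mul, ← enc_mul, hστ, beq_self_eq_true] at hz'
  simp only [Bool.not_true, Bool.false_or, Bool.or_eq_true, beq_iff_eq] at hz'
  have hd' : (d : G)⁻¹ ∈ N L := (N L).inv_mem (hT d.2)
  have hv' : v = (d : G)⁻¹ * L.el σ * ((d : G)⁻¹)⁻¹ := by rw [← e']; group
  rcases hz' with h | h <;> obtain rfl := enc_injective h <;> rcases conj_cases L hd' with c | c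
  · exact Or.inl (hv'.trans c)
  · exact Or.inr (hv'.trans c)
  · refine Or.inr (hv'.trans ?_)
    rw [L.el_inv z3_mem, ← conj_inv]
    exact congrArg _ c
  · refine Or.inl (hv'.trans ?_)
    rw [L.el_inv z3_mem, ← conj_inv]
    exact (congrArg _ c).trans (inv_inv _)

/-- No element of order three is inverted and centralised. -/
theorem not_inv_and_comm {v s : G} (hv : IsConj (zE L) v) (h1 : s * v * s⁻¹ = v⁻¹)
    (h2 : v * s = s * v) : False := by
  obtain ⟨g, hg⟩ := isConj_iff.1 hv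
  rw [← h2, mul_inv_cancel_right] at h1
  have h3 : v ^ 2 = 1 := by rw [pow_two]; nth_rewrite 1 [h1]; exact inv_mul_cancel v
  have h4 : orderOf v = 3 := by rw [← hg, ← MulAut.conj_apply, MulEquiv.orderOf_eq, order_zE]
  have := orderOf_dvd_of_pow_eq_one h3
  rw [h4] at this
  omega

theorem V_three {a : G} (ha : a ^ 3 = 1) : V L a = 1 := by
  have h : V L a ^ 3 = 1 := by rw [← map_pow, ha, map_one]
  rcases Int.units_eq_one_or (V L a) with e | e
  · exact e
  · rw [e] at h; exact absurd h (by decide)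

theorem V_conj (g a : G) : V L (g * a * g⁻¹) = V L a := by
  rw [map_mul, map_mul, map_inv, mul_right_comm, mul_inv_cancel, one_mul]

theorem V_t3 (hF : Facts L) (hT : centralizer ({L.el τ0} : Set G) ≤ N L) :
    V L (L.el t3) = -1 := by
  classical
  haveI : Fintype (G ⧸ N L) := Fintype.ofFinite _
  rw [transfer_eq L (sq_el L t3_mem facts.2.1),
    prod_fixed Finset.univ _ (sq_el L τ0_mem facts.2.2.1) (fun a _ => Finset.mem_univ _)
      (fun q _ => fixedVal_smul L ((L.commute_el τ0_mem t3_mem).2 facts.1.symm) q)]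
  have hinv : L.el t3 * zE L * (L.el t3)⁻¹ = (zE L)⁻¹ := by
    show L.el t3 * L.el z3 * (L.el t3)⁻¹ = (L.el z3)⁻¹
    rw [← L.el_conj t3_mem z3_mem, facts.2.2.2.1, L.el_inv z3_mem]
  have hm : ((1 : G))⁻¹ * L.el t3 * 1 ∈ N L := by
    rw [inv_one, one_mul, mul_one]; exact mem_N L (Or.inr hinv)
  rw [Finset.prod_eq_single_of_mem ((1 : G) : G ⧸ N L)]
  · rw [CfsgLib.Transfer.fixedVal_of_mem (eps L) _ hm]
    show ite _ _ _ = _
    rw [if_neg]
    simp only [inv_one, one_mul, mul_one, hinv]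
    intro e
    refine not_inv_and_comm L (IsConj.refl _) (s := L.el t3) hinv ?_
    exact (mul_inv_eq_iff_eq_mul.1 (hinv.trans e)).symm
  · refine Finset.mem_filter.2 ⟨Finset.mem_univ _, ?_⟩
    rw [← CfsgLib.Transfer.mem_iff_smul_eq, inv_one, one_mul, mul_one]
    refine mem_N L (Or.inl (mul_inv_eq_iff_eq_mul.2 ?_))
    exact (L.commute_el τ0_mem z3_mem).2 facts.2.2.2.2.1
  · intro q hq hne
    by_contra hval
    have ht := of_fixedVal L hval
    rcases fixed_cases L (Finset.mem_filter.1 hq).2 with e | e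
    · apply hne
      rw [← QuotientGroup.out_eq' q, QuotientGroup.eq, mul_one, ← Subgroup.inv_mem_iff, inv_inv]
      exact mem_N L (tau_z L hF hT (isConj_w L q) (mul_inv_eq_iff_eq_mul.1 e).symm)
    · refine quad_no_z L hF (isConj_w L q) ?_
      rw [← facts.2.2.2.2.2.1, L.el_mul τ0_mem t3_mem]
      refine (mul_inv_eq_iff_eq_mul.1 ?_).symm
      rw [show L.el τ0 * L.el t3 * w L q * (L.el τ0 * L.el t3)⁻¹ =
        L.el τ0 * (L.el t3 * w L q * (L.el t3)⁻¹) * (L.el τ0)⁻¹ by group, ht, ← conj_inv, e,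
        inv_inv]

theorem V_tau (hF : Facts L) (hT : centralizer ({L.el τ0} : Set G) ≤ N L)
    (hne : V L (L.el τ0) ≠ 1) : IsConj (L.el p) (L.el x) := by
  classical
  haveI : Fintype (G ⧸ N L) := Fintype.ofFinite _
  have hc1 : L.el t3 * L.el τ0 = L.el τ0 * L.el t3 := (L.commute_el t3_mem τ0_mem).2 facts.1
  have hc2 : L.el t12 * L.el τ0 = L.el τ0 * L.el t12 :=
    (L.commute_el t12_mem τ0_mem).2 facts.2.2.2.2.2.2.2.2.2.2.2.1
  have hc3 : L.el t12 * L.el t3 = L.el t3 * L.el t12 :=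
    (L.commute_el t12_mem t3_mem).2 facts.2.2.2.2.2.2.2.2.2.2.2.2.1
  rw [transfer_eq L (sq_el L τ0_mem facts.2.2.1),
    prod_fixed Finset.univ _ (sq_el L t3_mem facts.2.1) (fun a _ => Finset.mem_univ _)
      (fun q _ => fixedVal_smul L hc1 q),
    prod_fixed _ _ (sq_el L t12_mem facts.2.2.2.2.2.2.2.2.2.2.1) (fun a ha => by
      simp only [Finset.mem_filter, Finset.mem_univ, true_and] at ha ⊢
      rw [← mul_smul, ← hc3, mul_smul, ha]) (fun q _ => fixedVal_smul L hc2 q)] at hne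
  obtain ⟨q, hq, hval⟩ := Finset.exists_ne_one_of_prod_ne_one hne
  simp only [Finset.mem_filter, Finset.mem_univ, true_and] at hq
  have ht := of_fixedVal L hval
  have hw := isConj_w L q
  have hcomm3 : L.el t3 * w L q * (L.el t3)⁻¹ = w L q := by
    rcases fixed_cases L hq.1 with e | e
    · exact e
    · refine (quad_no_z L hF hw ?_).elim
      rw [← facts.2.2.2.2.2.1, L.el_mul τ0_mem t3_mem]
      refine (mul_inv_eq_iff_eq_mul.1 ?_).symm
      rw [show L.el τ0 * L.el t3 * w L q * (L.el τ0 * L.el t3)⁻¹ =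
        L.el τ0 * (L.el t3 * w L q * (L.el t3)⁻¹) * (L.el τ0)⁻¹ by group, e, ← conj_inv, ht,
        inv_inv]
  have hcomm12 : L.el t12 * w L q * (L.el t12)⁻¹ = w L q := by
    rcases fixed_cases L hq.2 with e | e
    · exact e
    · exfalso
      have hprod : L.el τ0 * L.el t12 * w L q * (L.el τ0 * L.el t12)⁻¹ = w L q := by
        rw [show L.el τ0 * L.el t12 * w L q * (L.el τ0 * L.el t12)⁻¹ =
          L.el τ0 * (L.el t12 * w L q * (L.el t12)⁻¹) * (L.el τ0)⁻¹ by group, e, ← conj_inv, ht,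
          inv_inv]
      set s := L.el (swap 0 1 : P9)
      have hs : s * L.el τ0 * s⁻¹ = L.el τ0 * L.el t12 := by
        rw [← L.el_conj t1_mem τ0_mem, facts.2.2.2.2.2.2.2.2.1, L.el_mul τ0_mem t12_mem]
      have hsz : s * zE L * s⁻¹ = zE L := by
        show s * L.el z3 * s⁻¹ = L.el z3
        rw [← L.el_conj t1_mem z3_mem, facts.2.2.2.2.2.2.2.2.2.1]
      rw [← hs] at hprod
      have hv : s⁻¹ * w L q * s * L.el τ0 = L.el τ0 * (s⁻¹ * w L q * s) := by
        have h := congrArg (fun a => s⁻¹ * a * s * L.el τ0) hprod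
        calc s⁻¹ * w L q * s * L.el τ0
            = s⁻¹ * (s * L.el τ0 * s⁻¹ * w L q * (s * L.el τ0 * s⁻¹)⁻¹) * s * L.el τ0 := h.symm
          _ = _ := by group
      have hw' : w L q = zE L ∨ w L q = (zE L)⁻¹ := by
        rcases tau_z L hF hT (hw.trans (isConj_iff.2 ⟨s⁻¹, by group⟩)) hv with h | h
        · refine Or.inl ?_
          rw [← hsz, ← h]; group
        · refine Or.inr ?_
          rw [← hsz, ← inv_inv (zE L), ← h]; group
      have hτz : L.el τ0 * zE L = zE L * L.el τ0 :=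
        (L.commute_el τ0_mem z3_mem).2 facts.2.2.2.2.1
      refine not_inv_and_comm L hw ht ?_
      rcases hw' with h | h <;> rw [h]
      · exact hτz.symm
      · exact (Commute.inv_right hτz).eq.symm
  have hwi : w L q ∈ centralizer ({L.el iota} : Set G) := by
    refine mem_centralizer_singleton_iff.2 ?_
    rw [← facts.2.2.2.2.2.2.2.2.2.2.2.2.2.1, L.el_mul t12_mem t3_mem]
    exact (Commute.mul_right (mul_inv_eq_iff_eq_mul.1 hcomm12).symm
      (mul_inv_eq_iff_eq_mul.1 hcomm3).symm : Commute (w L q) (L.el t12 * L.el t3)).eq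
  by_contra hpx
  have hinv : IsConj (L.el x) (L.el x)⁻¹ := by
    rw [← L.el_inv x_mem]
    refine isConj_iff.2 ⟨L.el iota, ?_⟩
    rw [← L.el_conj iota_mem x_mem]
    exact congrArg L.el (by decide +kernel)
  have hiota := facts.2.2.2.2.2.2.2.2.2.2.2.2.2.2
  have h9 := hF.p_inv hpx (fun h => hpx (h.trans hinv.symm)) (L.el iota)
    (fun e => hiota.2.1 (L.el_inj iota_mem B.one_mem (e.trans L.el_one.symm)))
    (sq_el L iota_mem hiota.1) ((L.commute_el iota_mem p_mem).2 hiota.2.2.1)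
  have hpC : L.el p ∈ centralizer ({L.el iota} : Set G) :=
    mem_centralizer_singleton_iff.2 ((L.commute_el p_mem iota_mem).2 hiota.2.2.1.symm)
  obtain ⟨g, hg⟩ := isConj_iff.1 hw
  have ho1 : orderOf (⟨_, hpC⟩ : centralizer ({L.el iota} : Set G)) = 3 := by
    rw [← Subgroup.orderOf_coe]
    exact orderOf_el L p_mem hiota.2.2.2.2.2.1 hiota.2.2.2.2.2.2.1
  have ho2 : orderOf (⟨_, hwi⟩ : centralizer ({L.el iota} : Set G)) = 3 := by
    rw [← Subgroup.orderOf_coe]
    show orderOf (w L q) = 3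
    rw [← hg, ← MulAut.conj_apply, MulEquiv.orderOf_eq, order_zE]
  obtain ⟨d, hd⟩ := conj_of_not_nine h9 ho1 ho2
  have hpz : IsConj (L.el p) (L.el z3) ∨ IsConj (L.el p) (L.el z3⁻¹) := by
    rcases hd with e | e
    · left
      exact (hw.trans (isConj_iff.2 ⟨(d : G), congrArg Subtype.val e⟩)).symm
    · right
      have e' : (d : G) * w L q * (d : G)⁻¹ = L.el p ^ 2 := congrArg Subtype.val e
      have hp2 : L.el p ^ 2 = (L.el p)⁻¹ := eq_inv_of_mul_eq_one_left (by
        rw [← pow_succ, ← L.el_pow p_mem, hiota.2.2.2.2.2.1, L.el_one])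
      refine (isConj_iff.2 ⟨(d : G) * g, ?_⟩).symm
      rw [L.el_inv z3_mem, ← conj_inv]
      show ((d : G) * g * zE L * ((d : G) * g)⁻¹)⁻¹ = L.el p
      rw [show (d : G) * g * zE L * ((d : G) * g)⁻¹ = (d : G) * (g * zE L * g⁻¹) * (d : G)⁻¹ by
        group, hg, e', hp2, inv_inv]
  have hnot := zlist_facts
  simp only [Bool.or_eq_false_iff] at hnot
  have key : ∀ σ ∈ J0, IsConj (L.el p) (L.el σ) → enc σ ∈ zlist → False := by
    intro σ hσ hc' hmem
    rcases hF.p_conj σ hσ hc' with ⟨k, hk, e⟩ | ⟨k, hk, e⟩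
    · have hsc : SConj B z3 x := by
        obtain ⟨l, hl, rfl⟩ : SConj B z3 σ := sconj_of_mem hmem
        exact ⟨k * l, B.mul_mem hk hl, by rw [← e]; group⟩
      have h := sconj_z3 hsc
      rw [← List.contains_iff_mem, hnot.1.2] at h
      exact absurd h (by decide)
    · have hsc : SConj B z3 x⁻¹ := by
        obtain ⟨l, hl, rfl⟩ : SConj B z3 σ := sconj_of_mem hmem
        exact ⟨k * l, B.mul_mem hk hl, by rw [← e]; group⟩
      have h := sconj_z3 hsc
      rw [← List.contains_iff_mem, hnot.2] at h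
      exact absurd h (by decide)
  rcases hpz with h | h
  · exact key z3 J0_facts.1 h (by simp [zlist])
  · exact key z3⁻¹ J0_facts.2.1 h (by simp [zlist])
where
  sconj_of_mem {σ : P9} (h : enc σ ∈ zlist) : SConj B z3 σ := by
    simp only [zlist, List.mem_cons, List.not_mem_nil, or_false] at h
    rcases h with e | e | e | e | e | e <;> obtain rfl := enc_injective e
    · exact ⟨swap 0 6 * swap 1 7 * swap 2 8, by decide +kernel, by decide +kernel⟩
    · exact ⟨swap 0 6 * swap 1 7 * swap 2 8 * t3, by decide +kernel, by decide +kernel⟩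
    · exact ⟨swap 3 6 * swap 4 7 * swap 5 8, by decide +kernel, by decide +kernel⟩
    · exact ⟨swap 3 6 * swap 4 7 * swap 5 8 * t3, by decide +kernel, by decide +kernel⟩
    · exact ⟨1, B.one_mem, by decide +kernel⟩
    · exact ⟨t3, t3_mem, by decide +kernel⟩

theorem V_on_B (hF : Facts L) (hT : centralizer ({L.el τ0} : Set G) ≤ N L) :
    (∀ σ ∈ B, V L (L.el σ) = Perm.sign σ * bpar σ) ∨
      ((∀ σ ∈ B, V L (L.el σ) = Perm.sign σ) ∧ IsConj (L.el p) (L.el x)) := by
  have ht3 := V_t3 L hF hT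
  -- the four generators of the even part
  have main : ∀ χ : P9 → ℤˣ, (∀ a ∈ B, ∀ b ∈ B, χ (a * b) = χ a * χ b) →
      χ (swap (0 : Fin 9) 1 * swap 1 2) = 1 → χ p = 1 → χ t12 = 1 → χ t3 = -1 →
      χ τ = V L (L.el τ) → ∀ σ ∈ B, V L (L.el σ) = χ σ := by
    intro χ hχ hz hp' h12 h3 hτ σ hσ
    have hgenB : Cfsg.Agent.S3702.Kgrp ≤ B := fun a ha =>
      mem_B.2 (ANineThree.mem_Hm.1 (CfsgLib.ANineThree.CaseB.gen_mem_Hm ha)).2
    have hgen : ∀ a ∈ Cfsg.Agent.S3702.Kgrp, V L (L.el a) = χ a := by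
      intro a ha
      refine (Cfsg.Agent.S3702.Kgrp_induction
        (P := fun a => a ∈ B ∧ V L (L.el a) = χ a) ?_ ?_ ha).2
      · refine ⟨B.one_mem, ?_⟩
        rw [L.el_one, map_one]
        have := hχ 1 B.one_mem 1 B.one_mem
        rw [mul_one] at this
        exact (mul_eq_left.1 this.symm).symm
      · intro a ha b _ hb
        rw [← Cfsg.Agent.S3702.gens_eq, List.mem_map] at ha
        obtain ⟨c, hc, hce⟩ := ha
        obtain rfl := enc_injective hce
        have hcB : c ∈ B := hgenB (Cfsg.Agent.S3702.gen_mem c hc)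
        refine ⟨B.mul_mem hcB hb.1, ?_⟩
        rw [L.el_mul hcB hb.1, map_mul, hχ c hcB b hb.1, hb.2]
        congr 1
        simp only [Cfsg.Agent.S3702.genList, List.mem_cons, List.not_mem_nil, or_false] at hc
        rcases hc with rfl | rfl | rfl | rfl
        · rw [hz]
          refine V_three L ?_
          rw [← L.el_pow hcB, show (swap (0 : Fin 9) 1 * swap 1 2) ^ 3 = 1 by decide +kernel,
            L.el_one]
        · refine Eq.trans ?_ hp'.symm
          refine V_three L ?_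
          show (L.el p) ^ 3 = 1
          rw [← L.el_pow p_mem, show p ^ 3 = 1 by decide +kernel, L.el_one]
        · refine Eq.trans ?_ h12.symm
          show V L (L.el t12) = 1
          have e1 : V L (L.el (swap 0 1 : P9)) = -1 := by
            rw [show (swap 0 1 : P9) = p * t3 * p⁻¹ by decide +kernel, L.el_conj p_mem t3_mem,
              V_conj, ht3]
          have e2 : V L (L.el (swap 3 4 : P9)) = -1 := by
            rw [show (swap 3 4 : P9) = p * p * t3 * (p * p)⁻¹ by decide +kernel,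
              L.el_conj (B.mul_mem p_mem p_mem) t3_mem, V_conj, ht3]
          rw [t12, L.el_mul t1_mem (by decide +kernel), map_mul, e1, e2]
          rfl
        · exact hτ.symm
    rcases cases_B hσ with h | ⟨a, ha, rfl⟩
    · exact hgen σ (CfsgLib.ANineThree.CaseB.Kgrp_eq.symm ▸ h)
    · have haB : a ∈ B := mem_B.2 (ANineThree.mem_Hm.1 ha).2
      rw [L.el_mul haB t3_mem, map_mul, hgen a (CfsgLib.ANineThree.CaseB.Kgrp_eq.symm ▸ ha), ht3,
        hχ a haB t3 t3_mem, h3]
  have hτ : V L (L.el τ) = -V L (L.el τ0) := by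
    rw [← facts.2.2.2.2.2.1, L.el_mul τ0_mem t3_mem, map_mul, ht3, mul_neg, mul_one]
  rcases Int.units_eq_one_or (V L (L.el τ0)) with h | h
  · left
    refine main (fun σ => Perm.sign σ * bpar σ) (fun a ha b hb => ?_) (by decide +kernel)
      (by decide +kernel) (by decide +kernel) (by decide +kernel) ?_
    · rw [map_mul, bpar_mul ha hb, mul_mul_mul_comm]
    · rw [hτ, h]; decide +kernel
  · refine Or.inr ⟨?_, V_tau L hF hT (by rw [h]; decide)⟩
    refine main (fun σ => Perm.sign σ) (fun a _ b _ => map_mul _ a b) (by decide +kernel)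
      (by decide +kernel) (by decide +kernel) (by decide +kernel) ?_
    rw [hτ, h]; decide +kernel

end Hom

/-- The homomorphism onto the group of order two. -/
theorem hom (hF : StmtFacts.{u}) (hC : StmtCentTau.{u}) : StmtHom.{u} := by
  intro G _ _ L
  exact ⟨Hom.V L, Hom.V_on_B L (hF L le_rfl Hom.p_mem) (hC L)⟩

end CfsgLib.SNineThree
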