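import Cfsg.Agent.Lib.SNineThree.Basic

/-!
The monomial coordinates of the models: translations of the three blocks and monomial maps.
-/

set_option autoImplicit false

namespace CfsgLib.SNineThree.SetupModel

open Equiv Subgroup
open CfsgLib.ANineThree (P9)

attribute [local irreducible] CfsgLib.ANineThree.x

/-- The coordinate vectors. -/
abbrev V3 := Fin 3 → ZMod 3

/-- The parameters of a monomial map. -/
abbrev Par := Equiv.Perm (Fin 3) × (Fin 3 → (ZMod 3)ˣ)

/-- The point with block `k` and residue `r`. -/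
def pt (k : Fin 3) (r : ZMod 3) : Fin 9 :=
  ⟨3 * k.1 + r.val, by have := ZMod.val_lt r; omega⟩

/-- The block of a point. -/
def blk (i : Fin 9) : Fin 3 := ⟨i.1 / 3, by omega⟩

/-- The residue of a point. -/
def res (i : Fin 9) : ZMod 3 := (i.1 : ZMod 3)

theorem pt_blk_res : ∀ i, pt (blk i) (res i) = i := by decide +kernel

theorem blk_pt : ∀ k r, blk (pt k r) = k := by decide +kernel

theorem res_pt : ∀ k r, res (pt k r) = r := by decide +kernel

theorem pt_inj {k l : Fin 3} {r q : ZMod 3} (h : pt k r = pt l q) : k = l ∧ r = q :=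
  ⟨by simpa [blk_pt] using congrArg blk h, by simpa [res_pt] using congrArg res h⟩

theorem exists_pt (i : Fin 9) : ∃ k r, pt k r = i := ⟨_, _, pt_blk_res i⟩

theorem perm_ext {a b : P9} (h : ∀ k r, a (pt k r) = b (pt k r)) : a = b := by
  ext1 i
  obtain ⟨k, r, rfl⟩ := exists_pt i
  exact h k r

/-- The translation by a vector. -/
def jv (v : V3) : P9 where
  toFun i := pt (blk i) (res i + v (blk i))
  invFun i := pt (blk i) (res i - v (blk i))
  left_inv i := by simp [blk_pt, res_pt, pt_blk_res]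
  right_inv i := by simp [blk_pt, res_pt, pt_blk_res]

theorem jv_pt (v : V3) (k : Fin 3) (r : ZMod 3) : jv v (pt k r) = pt k (r + v k) := by
  show pt _ _ = _
  simp [blk_pt, res_pt]

theorem jv_add (u v : V3) : jv (u + v) = jv u * jv v := by
  refine perm_ext fun k r => ?_
  rw [Perm.mul_apply, jv_pt, jv_pt, jv_pt, Pi.add_apply]
  congr 1
  ring

theorem jv_zero : jv 0 = 1 := by
  refine perm_ext fun k r => ?_
  rw [jv_pt, Pi.zero_apply, add_zero, Perm.one_apply]

theorem jv_neg (v : V3) : jv (-v) = (jv v)⁻¹ := by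
  rw [eq_inv_iff_mul_eq_one, ← jv_add, neg_add_cancel, jv_zero]

theorem jv_comm (u v : V3) : jv u * jv v = jv v * jv u := by
  rw [← jv_add, ← jv_add, add_comm]

theorem jv_inj {u v : V3} (h : jv u = jv v) : u = v := by
  funext k
  have h1 := congrArg (fun g : P9 => g (pt k 0)) h
  simp only [jv_pt, zero_add] at h1
  exact (pt_inj h1).2

theorem x_eq : ANineThree.x = jv 1 := by
  refine perm_ext ?_
  decide +kernel

theorem jv_const : ∀ r : ZMod 3, ∃ n : ℕ, jv (fun _ => r) = ANineThree.x ^ n := by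
  intro r
  refine ⟨r.val, ?_⟩
  have hn : ∀ n : ℕ, jv (fun _ => (n : ZMod 3)) = ANineThree.x ^ n := by
    intro n
    induction n with
    | zero => rw [pow_zero, ← jv_zero]; congr 1
    | succ n ih =>
      rw [pow_succ, ← ih, x_eq, ← jv_add]
      congr 1
      funext
      simp
  have := hn r.val
  rwa [ZMod.natCast_rightInverse r] at this

/-- A permutation commuting with `x` is determined by the base points of the blocks. -/
theorem apply_pt_of_comm {σ : P9} (h : σ * ANineThree.x = ANineThree.x * σ) (k : Fin 3)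
    (r : ZMod 3) : σ (pt k r) = jv (fun _ => r) (σ (pt k 0)) := by
  obtain ⟨n, hn⟩ := jv_const r
  have hc : Commute σ (jv fun _ => r) := hn ▸ (show Commute σ ANineThree.x from h).pow_right n
  have h1 := congrArg (fun g : P9 => g (pt k 0)) hc.eq
  simp only [Perm.mul_apply, jv_pt, zero_add] at h1
  exact h1

theorem mem_B_iff {σ : P9} :
    σ ∈ B ↔ ∀ i j : Fin 9, blk (σ i) = blk (σ j) ↔ blk i = blk j := by
  rw [mem_B]
  constructor <;> intro h i j <;> simpa [blk, Fin.ext_iff] using h i j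

theorem mem_B_of_comm {σ : P9} (h : σ * ANineThree.x = ANineThree.x * σ) : σ ∈ B := by
  have key : ∀ g : P9, g * ANineThree.x = ANineThree.x * g →
      ∀ i j, blk i = blk j → blk (g i) = blk (g j) := by
    intro g hg i j hij
    obtain ⟨k, r, rfl⟩ := exists_pt i
    obtain ⟨l, q, rfl⟩ := exists_pt j
    simp only [blk_pt] at hij
    subst hij
    rw [apply_pt_of_comm hg k r, apply_pt_of_comm hg k q]
    obtain ⟨m, s, hm⟩ := exists_pt (g (pt k 0))
    rw [← hm, jv_pt, jv_pt, blk_pt, blk_pt]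
  refine mem_B_iff.2 fun i j => ⟨fun hij => ?_, key σ h i j⟩
  have h' : σ⁻¹ * ANineThree.x = ANineThree.x * σ⁻¹ := (show Commute σ _ from h).inv_left.eq
  simpa using key σ⁻¹ h' _ _ hij

theorem comm_x_mem_S1 {σ : P9} (h : σ * ANineThree.x = ANineThree.x * σ) : σ ∈ S1 :=
  mem_S1.2 ⟨mem_B_of_comm h, h⟩

theorem jv_mem (v : V3) : jv v ∈ J0 := by
  refine mem_J0.2 ⟨by rw [x_eq, jv_comm], fun i => ?_⟩
  obtain ⟨k, r, rfl⟩ := exists_pt i
  rw [jv_pt]
  exact congrArg Fin.val ((blk_pt k (r + v k)).trans (blk_pt k r).symm)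

theorem mem_J0_iff {σ : P9} : σ ∈ J0 ↔ ∃ v, jv v = σ := by
  refine ⟨fun h => ⟨fun k => res (σ (pt k 0)), perm_ext fun k r => ?_⟩,
    fun ⟨v, hv⟩ => hv ▸ jv_mem v⟩
  obtain ⟨hc, hb⟩ := mem_J0.1 h
  have hk : blk (σ (pt k 0)) = k := (Fin.ext (hb _)).trans (blk_pt k 0)
  have h0 : σ (pt k 0) = pt k (res (σ (pt k 0))) := by
    conv_lhs => rw [← pt_blk_res (σ (pt k 0)), hk]
  rw [jv_pt, apply_pt_of_comm hc k r, h0, jv_pt, res_pt, add_comm]

/-- The monomial map. -/
def wm (p : Par) : P9 where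
  toFun i := pt (p.1 (blk i)) ((p.2 (blk i) : ZMod 3) * res i)
  invFun i := pt (p.1.symm (blk i)) (((p.2 (p.1.symm (blk i)))⁻¹ : (ZMod 3)ˣ) * res i)
  left_inv i := by
    simp only [blk_pt, res_pt, Equiv.symm_apply_apply, Units.inv_mul_cancel_left, pt_blk_res]
  right_inv i := by
    simp only [blk_pt, res_pt, Equiv.apply_symm_apply, Units.mul_inv_cancel_left, pt_blk_res]

theorem wm_pt (p : Par) (k : Fin 3) (r : ZMod 3) :
    wm p (pt k r) = pt (p.1 k) ((p.2 k : ZMod 3) * r) := by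
  show pt _ _ = _
  simp [blk_pt, res_pt]

/-- The action on vectors. -/
def act (p : Par) (v : V3) : V3 := fun k => (p.2 (p.1.symm k) : ZMod 3) * v (p.1.symm k)

theorem act_apply (p : Par) (v : V3) (k : Fin 3) :
    act p v (p.1 k) = (p.2 k : ZMod 3) * v k := by
  simp [act]

theorem act_add (p : Par) (u v : V3) : act p (u + v) = act p u + act p v := by
  funext k
  simp [act, mul_add]

theorem act_zero (p : Par) : act p 0 = 0 := by
  funext k
  simp [act]

theorem act_single (p : Par) (i : Fin 3) :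
    act p (Pi.single i 1) = (p.2 i : ZMod 3) • Pi.single (p.1 i) 1 := by
  funext k
  obtain ⟨l, rfl⟩ := p.1.surjective k
  rw [act_apply, Pi.smul_apply, smul_eq_mul]
  by_cases h : l = i
  · subst h
    simp
  · simp [h, p.1.injective.ne h]

/-- The composition of parameters. -/
def pmul (p q : Par) : Par := (p.1 * q.1, fun k => p.2 (q.1 k) * q.2 k)

/-- The trivial parameters. -/
def pone : Par := (1, fun _ => 1)

theorem act_pone (v : V3) : act pone v = v := by
  funext k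
  simp [act, pone, Perm.one_def]

theorem act_pmul (p q : Par) (v : V3) : act (pmul p q) v = act p (act q v) := by
  funext k
  simp [act, pmul, Perm.mul_def, mul_assoc]

theorem act_inj {p q : Par} (h : ∀ v, act p v = act q v) : p = q := by
  have key : ∀ k, p.1 k = q.1 k ∧ p.2 k = q.2 k := by
    intro k
    have h1 := congrFun (h (Pi.single k 1)) (p.1 k)
    rw [act_single, act_single] at h1
    by_cases hk : p.1 k = q.1 k
    · refine ⟨hk, Units.ext ?_⟩
      simpa [hk] using h1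
    · exfalso
      simp [hk] at h1
  exact Prod.ext (Equiv.ext fun k => (key k).1) (funext fun k => (key k).2)

theorem wm_pmul (p q : Par) : wm (pmul p q) = wm p * wm q := by
  refine perm_ext fun k r => ?_
  rw [Perm.mul_apply, wm_pt, wm_pt, wm_pt]
  simp [pmul, mul_assoc]

theorem wm_pone : wm pone = 1 := by
  refine perm_ext fun k r => ?_
  rw [wm_pt]
  simp [pone]

/-- The inverse parameters. -/
def pinv (p : Par) : Par := (p.1.symm, fun k => (p.2 (p.1.symm k))⁻¹)

theorem pinv_pmul (p : Par) : pmul (pinv p) p = pone := by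
  refine Prod.ext (inv_mul_cancel p.1) (funext fun k => ?_)
  show (p.2 (p.1.symm (p.1 k)))⁻¹ * p.2 k = 1
  rw [Equiv.symm_apply_apply, inv_mul_cancel]

theorem wm_inv (p : Par) : (wm p)⁻¹ = wm (pinv p) := by
  rw [inv_eq_iff_mul_eq_one, mul_eq_one_comm, ← wm_pmul, pinv_pmul, wm_pone]

theorem wm_jv (p : Par) (v : V3) : wm p * jv v = jv (act p v) * wm p := by
  refine perm_ext fun k r => ?_
  rw [Perm.mul_apply, Perm.mul_apply, jv_pt, wm_pt, wm_pt, jv_pt, act_apply, mul_add]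

theorem wm_conj (p : Par) (v : V3) : wm p * jv v * (wm p)⁻¹ = jv (act p v) := by
  rw [wm_jv, mul_inv_cancel_right]

theorem wm_mem_B (p : Par) : wm p ∈ B := by
  refine mem_B_iff.2 fun i j => ?_
  obtain ⟨k, r, rfl⟩ := exists_pt i
  obtain ⟨l, q, rfl⟩ := exists_pt j
  simp [wm_pt, blk_pt]

theorem jv_eq_wm {v : V3} {p : Par} (h : jv v = wm p) : v = 0 ∧ p = pone := by
  have hv : v = 0 := by
    funext k
    have h1 := congrArg (fun g : P9 => g (pt k 0)) h
    simp only [jv_pt, wm_pt, zero_add, mul_zero] at h1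
    exact (pt_inj h1).2
  subst hv
  refine ⟨rfl, act_inj fun u => jv_inj ?_⟩
  rw [← wm_conj, ← h, jv_zero, act_pone, one_mul, inv_one, mul_one]

/-- The subgroup of monomial maps. -/
def W : Subgroup P9 where
  carrier := Set.range wm
  one_mem' := ⟨pone, wm_pone⟩
  mul_mem' := fun {a b} ⟨p, hp⟩ ⟨q, hq⟩ => ⟨pmul p q, by rw [wm_pmul, hp, hq]⟩
  inv_mem' := fun {a} ⟨p, hp⟩ => ⟨pinv p, by rw [← wm_inv, hp]⟩

theorem affine : ∀ f : ZMod 3 → ZMod 3, (∀ a b, f a = f b → a = b) →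
    ∀ r, f r = (f 1 - f 0) * r + f 0 := by decide +kernel

/-- Every element of `B` is a translation times a monomial map. -/
theorem exists_of_mem_B {σ : P9} (h : σ ∈ B) : ∃ c p, σ = jv c * wm p := by
  obtain ⟨f, hf⟩ : ∃ f : Fin 3 → Fin 3, ∀ k, f k = blk (σ (pt k 0)) := ⟨_, fun _ => rfl⟩
  have hf' : ∀ k r, blk (σ (pt k r)) = f k := fun k r => by
    rw [hf, (mem_B_iff.1 h) _ _, blk_pt, blk_pt]
  have finj : Function.Injective f := fun k l hkl => by
    rw [← hf' k 0, ← hf' l 0, mem_B_iff.1 h, blk_pt, blk_pt] at hkl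
    exact hkl
  have hg : ∀ k, ∀ a b, res (σ (pt k a)) = res (σ (pt k b)) → a = b := fun k a b hab => by
    have e : σ (pt k a) = σ (pt k b) := by
      rw [← pt_blk_res (σ (pt k a)), ← pt_blk_res (σ (pt k b)), hf', hf', hab]
    exact (pt_inj (σ.injective e)).2
  have hne : ∀ k, res (σ (pt k 1)) - res (σ (pt k 0)) ≠ 0 := fun k h0 =>
    absurd (hg k 1 0 (sub_eq_zero.1 h0)) (by decide)
  let π : Equiv.Perm (Fin 3) := Equiv.ofBijective f (Finite.injective_iff_bijective.1 finj)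
  have hπ : ∀ k, π k = f k := fun _ => rfl
  refine ⟨fun k => res (σ (pt (π.symm k) 0)), (π, fun k => Units.mk0 _ (hne k)),
    perm_ext fun k r => ?_⟩
  rw [Perm.mul_apply, wm_pt, jv_pt, Units.val_mk0, Equiv.symm_apply_apply,
    ← affine (fun a => res (σ (pt k a))) (hg k) r]
  show σ (pt k r) = pt (π k) (res (σ (pt k r)))
  rw [hπ, ← hf' k r, pt_blk_res]

theorem act_one_eq {p : Par} (h : act p 1 = 1) : p.2 = fun _ => 1 := by
  funext k
  have h1 := congrFun h (p.1 k)
  rw [act_apply] at h1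
  exact Units.ext (by simpa using h1)

theorem jv_wm_conj (c : V3) (p : Par) (v : V3) :
    jv c * wm p * jv v * (jv c * wm p)⁻¹ = jv (act p v) := by
  rw [mul_inv_rev, ← mul_assoc, mul_assoc (jv c) (wm p) (jv v), wm_jv, ← mul_assoc,
    mul_inv_cancel_right, jv_comm, mul_inv_cancel_right]

theorem exists_of_mem_S1 {σ : P9} (h : σ ∈ S1) :
    ∃ c π, σ = jv c * wm (π, fun _ => 1) := by
  obtain ⟨hB, hx⟩ := mem_S1.1 h
  obtain ⟨c, p, rfl⟩ := exists_of_mem_B hB
  have h1 : act p 1 = 1 := jv_inj (by rw [← jv_wm_conj c, ← x_eq, hx, mul_inv_cancel_right])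
  exact ⟨c, p.1, by rw [← act_one_eq h1]⟩

theorem act_perm_one (π : Equiv.Perm (Fin 3)) : act (π, fun _ => 1) 1 = 1 := by
  funext k
  simp [act]

theorem wm_perm_mem (π : Equiv.Perm (Fin 3)) : wm (π, fun _ => 1) ∈ S1 :=
  comm_x_mem_S1 (by rw [x_eq, wm_jv, act_perm_one])

theorem jv_mem_S1 (v : V3) : jv v ∈ S1 := comm_x_mem_S1 (mem_J0.1 (jv_mem v)).1

/-- The base group is self-centralizing. -/
theorem mem_J0_of_comm {σ : P9} (h : ∀ v, σ * jv v = jv v * σ) : σ ∈ J0 := by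
  have hS : σ ∈ S1 := comm_x_mem_S1 (by rw [x_eq]; exact h 1)
  obtain ⟨c, π, rfl⟩ := exists_of_mem_S1 hS
  have hp : (π, fun _ => 1) = pone := act_inj fun v => jv_inj (by
    rw [← jv_wm_conj c, h, mul_inv_cancel_right, act_pone])
  rw [hp, wm_pone, mul_one]
  exact jv_mem c

theorem same_block : ∀ i j : Fin 9, blk i = blk j →
    i = j ∨ i = ANineThree.x j ∨ i = ANineThree.x (ANineThree.x j) := by decide +kernel

theorem three_orbit : ∀ f : Fin 3 → Fin 3, (∀ j, f (f (f j)) = j) →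
    (∀ j, f j = j) ∨ (∀ j, j = 0 ∨ j = f 0 ∨ j = f (f 0)) := by decide +kernel

theorem card_J0_le : Nat.card J0 ≤ 27 := by
  have h := Nat.card_le_card_of_surjective (fun v : V3 => (⟨jv v, jv_mem v⟩ : J0))
    fun σ => (mem_J0_iff.1 σ.2).imp fun v hv => Subtype.ext hv
  simpa using h

/-- The base group is the only elementary subgroup of order 27 of the centralizer of `x`. -/
theorem eq_J0 {A : Subgroup P9} (hA : A ≤ S1) (hc : ∀ a ∈ A, ∀ b ∈ A, a * b = b * a)
    (h3 : ∀ a ∈ A, a ^ 3 = 1) (hcard : Nat.card A = 27) : A = J0 := by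
  refine Subgroup.eq_of_le_of_card_ge (fun a ha => ?_) (card_J0_le.trans hcard.ge)
  by_contra hna
  obtain ⟨hB, hx⟩ := mem_S1.1 (hA ha)
  obtain ⟨f, hf⟩ : ∃ f : Fin 3 → Fin 3, ∀ i, blk (a i) = f (blk i) :=
    ⟨fun k => blk (a (pt k 0)), fun i =>
      ((mem_B_iff.1 hB) i (pt (blk i) 0)).2 (blk_pt (blk i) 0).symm⟩
  have hcube : ∀ j, f (f (f j)) = j := fun j => by
    have h1 := congrArg (fun g : P9 => blk (g (pt j 0))) (h3 a ha)
    simp only [pow_succ, pow_zero, one_mul, Perm.mul_apply, Perm.one_apply] at h1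
    rwa [hf, hf, hf, blk_pt] at h1
  rcases three_orbit f hcube with hid | horb
  · exact hna (mem_J0.2 ⟨hx, fun i => congrArg Fin.val ((hf i).trans (hid _))⟩)
  have inj : Function.Injective fun b : A => (b : P9) (pt 0 0) := by
    intro b b' hbb
    simp only at hbb
    apply Subtype.ext
    have hxc : ∀ c : A, (c : P9) * ANineThree.x = ANineThree.x * c := fun c =>
      (mem_S1.1 (hA c.2)).2
    have stepA : ∀ i, (b : P9) i = (b' : P9) i → (b : P9) (a i) = (b' : P9) (a i) := fun i hi => by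
      rw [← Perm.mul_apply, ← Perm.mul_apply, hc _ b.2 _ ha, hc _ b'.2 _ ha, Perm.mul_apply,
        Perm.mul_apply, hi]
    have stepX : ∀ i, (b : P9) i = (b' : P9) i →
        (b : P9) (ANineThree.x i) = (b' : P9) (ANineThree.x i) := fun i hi => by
      rw [← Perm.mul_apply, ← Perm.mul_apply, hxc b, hxc b', Perm.mul_apply, Perm.mul_apply, hi]
    have blkwise : ∀ i j, blk i = blk j → (b : P9) j = (b' : P9) j →
        (b : P9) i = (b' : P9) i := fun i j hij hj => by
      rcases same_block i j hij with e | e | e <;> rw [e]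
      · exact hj
      · exact stepX _ hj
      · exact stepX _ (stepX _ hj)
    ext1 i
    have b0 : blk (pt 0 0) = 0 := blk_pt 0 0
    rcases horb (blk i) with e | e | e
    · exact blkwise i _ (e.trans b0.symm) hbb
    · exact blkwise i _ (by rw [e, hf, b0]) (stepA _ hbb)
    · exact blkwise i _ (by rw [e, hf, hf, b0]) (stepA _ (stepA _ hbb))
  have := Nat.card_le_card_of_injective _ inj
  simp [hcard] at this

/-- A sign change. -/
def dg (s : Fin 3 → (ZMod 3)ˣ) : P9 := wm (1, s)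

theorem mem_iff_dg {S : Subgroup P9} (h1 : S1 ≤ S) (c : V3) (p : Par) :
    jv c * wm p ∈ S ↔ dg p.2 ∈ S := by
  have e : wm p = wm (p.1, fun _ => 1) * dg p.2 := by
    rw [dg, ← wm_pmul]
    congr 1
    ext1
    · simp [pmul]
    · simp [pmul]
  rw [e, ← mul_assoc]
  exact Subgroup.mul_mem_cancel_left _ (S.mul_mem (h1 (jv_mem_S1 c)) (h1 (wm_perm_mem p.1)))

theorem dg_perm {S : Subgroup P9} (h1 : S1 ≤ S) {s : Fin 3 → (ZMod 3)ˣ} (π : Equiv.Perm (Fin 3))
    (h : dg s ∈ S) : dg (s ∘ π) ∈ S := by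
  have h2 := mem_iff_dg h1 0 (pmul (1, s) (π, fun _ => 1))
  rw [jv_zero, one_mul, wm_pmul] at h2
  have h3 := h2.1 (S.mul_mem h (h1 (wm_perm_mem π)))
  simpa [pmul, Function.comp_def] using h3

theorem dg_mul (s t : Fin 3 → (ZMod 3)ˣ) : dg s * dg t = dg fun k => s k * t k := by
  rw [dg, dg, ← wm_pmul]
  simp [dg, pmul]

/-- The three representatives of the nontrivial sign changes. -/
def u1 : Fin 3 → (ZMod 3)ˣ := ![-1, 1, 1]
/-- Two sign changes. -/
def u2 : Fin 3 → (ZMod 3)ˣ := ![-1, -1, 1]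
/-- Three sign changes. -/
def u3 : Fin 3 → (ZMod 3)ˣ := ![-1, -1, -1]

theorem dg_reps : ∀ s : Fin 3 → (ZMod 3)ˣ, ∃ π : Equiv.Perm (Fin 3),
    s ∘ π = (fun _ => 1) ∨ s ∘ π = u1 ∨ s ∘ π = u2 ∨ s ∘ π = u3 := by decide +kernel

theorem sup_eq {S T : Subgroup P9} (hS : S1 ≤ S) (hT : S1 ≤ T) (hS' : S ≤ B) (hT' : T ≤ B)
    (h1 : dg u1 ∈ S ↔ dg u1 ∈ T) (h2 : dg u2 ∈ S ↔ dg u2 ∈ T) (h3 : dg u3 ∈ S ↔ dg u3 ∈ T) :
    S = T := by
  have key : ∀ (A C : Subgroup P9), S1 ≤ A → S1 ≤ C → A ≤ B → (dg u1 ∈ A → dg u1 ∈ C) →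
      (dg u2 ∈ A → dg u2 ∈ C) → (dg u3 ∈ A → dg u3 ∈ C) → A ≤ C := by
    intro A C hA hC hA' k1 k2 k3 σ hσ
    obtain ⟨c, p, rfl⟩ := exists_of_mem_B (hA' hσ)
    rw [mem_iff_dg hC]
    rw [mem_iff_dg hA] at hσ
    obtain ⟨π, hπ⟩ := dg_reps p.2
    have hA2 := dg_perm hA π hσ
    suffices hC2 : dg (p.2 ∘ π) ∈ C by
      have := dg_perm hC π⁻¹ hC2
      simpa [Function.comp_def] using this
    rcases hπ with e | e | e | e <;> rw [e] at hA2 ⊢
    · exact hC (wm_perm_mem 1)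
    · exact k1 hA2
    · exact k2 hA2
    · exact k3 hA2
  exact le_antisymm (key S T hS hT hS' h1.1 h2.1 h3.1) (key T S hT hS hT' h1.2 h2.2 h3.2)

theorem mem_S2 {σ : P9} : σ ∈ S2 ↔ σ ∈ B ∧
    (σ * ANineThree.x * σ⁻¹ = ANineThree.x ∨ σ * ANineThree.x * σ⁻¹ = ANineThree.x⁻¹) := by
  have hx3 : ANineThree.x ^ (3 : ℤ) = 1 := by decide +kernel
  rw [S2, Subgroup.mem_inf]
  refine and_congr_right fun _ => ⟨fun h => ?_, fun h => ?_⟩
  · obtain ⟨n, hn⟩ := Subgroup.mem_zpowers_iff.1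
      ((mem_normalizer_iff.1 h ANineThree.x).1 (Subgroup.mem_zpowers _))
    rw [zpow_eq_zpow_emod n hx3] at hn
    have : n % 3 = 0 ∨ n % 3 = 1 ∨ n % 3 = 2 := by omega
    rcases this with e | e | e <;> rw [e] at hn
    · exfalso
      rw [zpow_zero, eq_comm, conj_eq_one_iff] at hn
      exact absurd hn (by decide +kernel)
    · left; rw [← hn]; simp
    · right
      rw [← hn]
      decide +kernel
  · have key : ∀ τ : P9, τ * ANineThree.x * τ⁻¹ ∈ zpowers ANineThree.x →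
        ∀ g ∈ zpowers ANineThree.x, τ * g * τ⁻¹ ∈ zpowers ANineThree.x := by
      intro τ hτ g hg
      obtain ⟨n, rfl⟩ := Subgroup.mem_zpowers_iff.1 hg
      rw [← conj_zpow]
      exact Subgroup.zpow_mem _ hτ n
    have h1 : σ * ANineThree.x * σ⁻¹ ∈ zpowers ANineThree.x := by
      rcases h with h | h <;> rw [h]
      · exact mem_zpowers _
      · exact (zpowers _).inv_mem (mem_zpowers _)
    have h2 : σ⁻¹ * ANineThree.x * σ⁻¹⁻¹ ∈ zpowers ANineThree.x := by
      rcases h with h | h <;> rw [mul_inv_eq_iff_eq_mul] at h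
      · rw [inv_inv, mul_assoc, ← h, inv_mul_cancel_left]
        exact mem_zpowers _
      · have h' : σ⁻¹ * ANineThree.x * σ = ANineThree.x⁻¹ := by
          apply inv_injective
          rw [mul_inv_rev, mul_inv_rev, inv_inv, inv_inv, ← h, inv_mul_cancel_left]
        rw [inv_inv, h']
        exact (zpowers _).inv_mem (mem_zpowers _)
    refine mem_normalizer_iff.2 fun g => ⟨key σ h1 g, fun hg => ?_⟩
    have := key σ⁻¹ h2 _ hg
    simpa [mul_assoc] using this

theorem S1_le_B : S1 ≤ B := fun _ h => (mem_S1.1 h).1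

theorem S1_le_S2 : S1 ≤ S2 := fun σ h => mem_S2.2 ⟨S1_le_B h,
  Or.inl (by rw [(mem_S1.1 h).2, mul_inv_cancel_right])⟩

theorem S1_le_S4 : S1 ≤ S4 := by
  intro σ h
  obtain ⟨c, π, rfl⟩ := exists_of_mem_S1 h
  have e1 : ∀ v : V3, Perm.sign (jv v) = bpar (jv v) := by decide +kernel
  have e2 : ∀ π : Equiv.Perm (Fin 3),
      Perm.sign (wm (π, fun _ => 1)) = bpar (wm (π, fun _ => 1)) := by decide +kernel
  exact S4.mul_mem (mem_S4.2 ⟨J0_le_B (jv_mem c), e1 c⟩)
    (mem_S4.2 ⟨wm_mem_B _, e2 π⟩)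

theorem dg_facts : (dg u1 ∉ S1 ∧ dg u2 ∉ S1 ∧ dg u3 ∉ S1) ∧
    (dg u1 ∉ S2 ∧ dg u2 ∉ S2 ∧ dg u3 ∈ S2) ∧ (dg u1 ∉ S4 ∧ dg u2 ∈ S4 ∧ dg u3 ∉ S4) := by
  simp only [mem_S1, mem_S2, mem_S4]
  decide +kernel

/-- The four models are the subgroups of `B` containing the centralizer of `x`. -/
theorem classify_over {S : Subgroup P9} (h1 : S1 ≤ S) (h2 : S ≤ B) :
    S = S1 ∨ S = S2 ∨ S = S4 ∨ S = B := by
  obtain ⟨⟨a1, a2, a3⟩, ⟨b1, b2, b3⟩, c1, c2, c3⟩ := dg_facts
  have hB : ∀ s, dg s ∈ B := fun s => wm_mem_B _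
  by_cases k1 : dg u1 ∈ S
  · have k2 : dg u2 ∈ S := by
      have := S.mul_mem k1 (dg_perm h1 (Equiv.swap 0 1) k1)
      rw [dg_mul] at this
      convert this using 2
      decide +kernel
    have k3 : dg u3 ∈ S := by
      have := S.mul_mem k2 (dg_perm h1 (Equiv.swap 0 2) k1)
      rw [dg_mul] at this
      convert this using 2
      decide +kernel
    exact Or.inr <| Or.inr <| Or.inr <| sup_eq h1 S1_le_B h2 le_rfl
      (iff_of_true k1 (hB _)) (iff_of_true k2 (hB _)) (iff_of_true k3 (hB _))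
  by_cases k2 : dg u2 ∈ S
  · have k3 : dg u3 ∉ S := fun k3 => k1 <| by
      have := dg_perm h1 (Equiv.swap 0 2) (S.mul_mem k2 k3 |> fun h => dg_mul u2 u3 ▸ h)
      convert this using 2
      decide +kernel
    exact Or.inr <| Or.inr <| Or.inl <| sup_eq h1 S1_le_S4 h2 (fun σ h => (mem_S4.1 h).1)
      (iff_of_false k1 c1) (iff_of_true k2 c2) (iff_of_false k3 c3)
  by_cases k3 : dg u3 ∈ S
  · exact Or.inr <| Or.inl <| sup_eq h1 S1_le_S2 h2 inf_le_left
      (iff_of_false k1 b1) (iff_of_false k2 b2) (iff_of_true k3 b3)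
  exact Or.inl <| sup_eq h1 le_rfl h2 S1_le_B
    (iff_of_false k1 a1) (iff_of_false k2 a2) (iff_of_false k3 a3)

end CfsgLib.SNineThree.SetupModel
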