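import Cfsg.Agent.Lib.SNineThree.Interface
import Cfsg.Agent.Lib.SNineThree.Classify0
import Cfsg.Agent.Lib.SNineThree.SetupModel

/-!
The local data of the recognition of the symmetric group of degree nine.

The centralizer of `x` gives coordinates of `J` and the permutations of the coordinates. The
classification of the linear groups makes the normalizer of `J` monomial in shifted coordinates,
and a complement of `J` turns the coordinates into an embedding into the wreath product.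
-/

set_option autoImplicit false

namespace CfsgLib.SNineThree

open Subgroup Equiv
open scoped Matrix
open CfsgLib.ANineThree (P9)

universe u

namespace SetupModel

variable {G : Type u} [Group G]

/-- Coordinates of a group of order 27 with the permutations of the coordinates. -/
structure Pre (J : Subgroup G) (x : G) where
  E : V3 → G
  E_add : ∀ u v, E (u + v) = E u * E v
  E_inj : Function.Injective E
  mem : ∀ g, g ∈ J ↔ ∃ v, E v = g
  E_one : E 1 = x
  Q : Equiv.Perm (Fin 3) →* G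
  Q_conj : ∀ π v, Q π * E v * (Q π)⁻¹ = E (act (π, fun _ => 1) v)
  cent : ∀ g, g * x = x * g → ∃ c π, g = E c * Q π

theorem map_zero_of_add {φ : V3 → G} (h : ∀ u v, φ (u + v) = φ u * φ v) : φ 0 = 1 := by
  have := h 0 0
  rw [add_zero] at this
  exact left_eq_mul.1 this

theorem map_nsmul_of_add {φ : V3 → G} (h : ∀ u v, φ (u + v) = φ u * φ v) (n : ℕ) (v : V3) :
    φ (n • v) = φ v ^ n := by
  induction n with
  | zero => rw [zero_nsmul, pow_zero, map_zero_of_add h]
  | succ n ih => rw [succ_nsmul, pow_succ, h, ih]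

theorem basis_sum : ∀ v : V3, v = (v 0).val • Pi.single 0 1 + (v 1).val • Pi.single 1 1 +
    (v 2).val • Pi.single 2 1 := by decide +kernel

theorem ext_basis {φ φ' : V3 → G} (h : ∀ u v, φ (u + v) = φ u * φ v)
    (h' : ∀ u v, φ' (u + v) = φ' u * φ' v)
    (hb : ∀ i, φ (Pi.single i 1) = φ' (Pi.single i 1)) (v : V3) : φ v = φ' v := by
  rw [basis_sum v]
  simp only [h, h', map_nsmul_of_add h, map_nsmul_of_add h', hb]

namespace Pre

variable {J : Subgroup G} {x : G} (P : Pre J x)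

/-- The element acts by the parameters. -/
def Rel (h : G) (p : Par) : Prop := ∀ v, h * P.E v * h⁻¹ = P.E (act p v)

theorem rel_mul {g h : G} {p q : Par} (hg : P.Rel g p) (hh : P.Rel h q) :
    P.Rel (g * h) (pmul p q) := fun v => by
  rw [act_pmul, ← hg, ← hh]
  group

theorem rel_unique {h : G} {p q : Par} (hp : P.Rel h p) (hq : P.Rel h q) : p = q :=
  act_inj fun v => P.E_inj ((hp v).symm.trans (hq v))

theorem rel_E (c : V3) : P.Rel (P.E c) pone := fun v => by
  rw [act_pone, ← P.E_add, add_comm, P.E_add, mul_inv_cancel_right]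

theorem rel_Q (π : Equiv.Perm (Fin 3)) : P.Rel (P.Q π) (π, fun _ => 1) := P.Q_conj π

theorem rel_one : P.Rel 1 pone := fun v => by
  rw [act_pone, one_mul, inv_one, mul_one]

theorem exists_of_rel_pone {g : G} (h : P.Rel g pone) : ∃ c, P.E c = g := by
  have hx : g * x = x * g := by
    have h1 := h 1
    rw [act_pone, P.E_one, mul_inv_eq_iff_eq_mul] at h1
    exact h1
  obtain ⟨c, π, rfl⟩ := P.cent g hx
  have hπ : pmul pone (π, fun _ => 1) = pone := P.rel_unique (P.rel_mul (P.rel_E c) (P.rel_Q π)) h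
  have : π = 1 := by simpa [pmul, pone] using congrArg Prod.fst hπ
  exact ⟨c, by rw [this, map_one, mul_one]⟩

theorem conj_mem {h : G} (hh : h ∈ normalizer (J : Set G)) (v : V3) :
    ∃ w, h * P.E v * h⁻¹ = P.E w := by
  obtain ⟨w, hw⟩ := (P.mem _).1 ((mem_normalizer_iff.1 hh _).1 ((P.mem _).2 ⟨v, rfl⟩))
  exact ⟨w, hw.symm⟩

include P in
theorem cent_le [Finite G] {g : G} (hg : g * x = x * g) : g ∈ normalizer (J : Set G) := by
  obtain ⟨c, π, rfl⟩ := P.cent g hg
  refine mul_mem (le_normalizer ((P.mem _).2 ⟨c, rfl⟩)) (mem_normalizer_iff.2 fun j => ?_)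
  constructor
  · intro hj
    obtain ⟨v, rfl⟩ := (P.mem j).1 hj
    exact (P.mem _).2 ⟨_, (P.Q_conj π v).symm⟩
  · intro hj
    obtain ⟨v, hv⟩ := (P.mem _).1 hj
    refine (P.mem _).2 ⟨act (π⁻¹, fun _ => 1) v, ?_⟩
    rw [← P.Q_conj, hv, map_inv]
    group

end Pre

/-- The shift of the frame. -/
def shift (a : ZMod 3) (v : V3) : V3 := fun k => v k + a * ∑ i, v i

theorem shift_add (a : ZMod 3) (u v : V3) : shift a (u + v) = shift a u + shift a v := by
  funext k
  simp [shift, Finset.sum_add_distrib, mul_add, add_add_add_comm]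

theorem shift_smul (a r : ZMod 3) (v : V3) : shift a (r • v) = r • shift a v := by
  funext k
  simp [shift, ← Finset.mul_sum, mul_add, mul_left_comm]

theorem shift_inj : ∀ (a : ZMod 3) (v : V3), shift a v = 0 → v = 0 := by decide +kernel

theorem frame_zero (i : Fin 3) : frame 0 i = Pi.single i 1 := by
  funext k
  simp [frame, Pi.single_apply]

theorem shift_injective (a : ZMod 3) : Function.Injective (shift a) := fun u v h => by
  have h1 : shift a (u - v) + shift a v = shift a v := by rw [← shift_add, sub_add_cancel, h]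
  exact sub_eq_zero.1 (shift_inj a _ (add_eq_right.1 h1))

theorem shift_one : ∀ a : ZMod 3, shift a 1 = 1 := by decide +kernel

theorem shift_act (a : ZMod 3) (π : Equiv.Perm (Fin 3)) (v : V3) :
    shift a (act (π, fun _ => 1) v) = act (π, fun _ => 1) (shift a v) := by
  funext k
  simp [shift, act, Equiv.sum_comp π.symm v]

theorem shift_single (a : ZMod 3) (i : Fin 3) : shift a (Pi.single i 1) = frame a i := by
  funext k
  simp [shift, frame, Pi.single_apply]

/-- The coordinates shifted by a multiple of the fixed vector. -/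
def Pre.shifted {J : Subgroup G} {x : G} (P : Pre J x) (a : ZMod 3) : Pre J x where
  E v := P.E (shift a v)
  E_add u v := by rw [shift_add, P.E_add]
  E_inj := P.E_inj.comp (shift_injective a)
  mem g := by
    rw [P.mem]
    constructor
    · rintro ⟨v, hv⟩
      obtain ⟨w, rfl⟩ := Finite.surjective_of_injective (shift_injective a) v
      exact ⟨w, hv⟩
    · rintro ⟨v, hv⟩
      exact ⟨_, hv⟩
  E_one := by rw [shift_one, P.E_one]
  Q := P.Q
  Q_conj π v := by rw [P.Q_conj, shift_act]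
  cent g hg := by
    obtain ⟨c, π, h⟩ := P.cent g hg
    obtain ⟨w, rfl⟩ := Finite.surjective_of_injective (shift_injective a) c
    exact ⟨w, π, h⟩

theorem jv_one_pow : ∀ r : ZMod 3, r ≠ 0 → jv 1 = jv (fun _ => r) ^ r.val := by decide +kernel

/-- The coordinates coming from the centralizer of `x`. -/
theorem exists_pre [Finite G] {x : G} (hx : orderOf x = 3)
    (eC : centralizer ({x} : Set G) ≃* centralizer ({ANineThree.x} : Set P9))
    {J : Subgroup G} (hJC : J ≤ centralizer ({x} : Set G)) (hJcomm : IsMulCommutative J)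
    (hJexp : ∀ j ∈ J, j ^ 3 = 1) (hJcard : Nat.card J = 27) : Nonempty (Pre J x) := by
  obtain ⟨φ, hφ, hφS, hφs⟩ : ∃ φ : centralizer ({x} : Set G) →* P9, Function.Injective φ ∧
      (∀ g, φ g ∈ S1) ∧ ∀ σ ∈ S1, ∃ g, φ g = σ :=
    ⟨(centralizer ({ANineThree.x} : Set P9)).subtype.comp eC.toMonoidHom,
      Subtype.val_injective.comp eC.injective,
      fun g => comm_x_mem_S1 (mem_centralizer_singleton_iff.1 (eC g).2),
      fun σ hσ => ⟨eC.symm ⟨σ, mem_centralizer_singleton_iff.2 (mem_S1.1 hσ).2⟩, by simp⟩⟩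
  have hA : (J.subgroupOf (centralizer ({x} : Set G))).map φ = J0 := by
    refine eq_J0 ?_ ?_ ?_ ?_
    · rintro _ ⟨g, -, rfl⟩
      exact hφS g
    · rintro _ ⟨g, hg, rfl⟩ _ ⟨g', hg', rfl⟩
      rw [← map_mul, ← map_mul]
      congr 1
      exact Subtype.ext ((congrArg Subtype.val (hJcomm.is_comm.comm ⟨g.1, hg⟩ ⟨g'.1, hg'⟩) :
        (g : G) * g' = g' * g))
    · rintro _ ⟨g, hg, rfl⟩
      rw [← map_pow]
      have : g ^ 3 = 1 := Subtype.ext (hJexp _ hg)
      rw [this, map_one]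
    · rw [Subgroup.card_map_of_injective hφ,
        Nat.card_congr (Subgroup.subgroupOfEquivOfLe hJC).toEquiv, hJcard]
  have hxm : x ∈ centralizer ({x} : Set G) := mem_centralizer_singleton_iff.2 rfl
  obtain ⟨c, hc⟩ : ∃ c, c = φ ⟨x, hxm⟩ := ⟨_, rfl⟩
  have hcent : ∀ σ ∈ S1, σ * c = c * σ := fun σ hσ => by
    obtain ⟨g, rfl⟩ := hφs σ hσ
    rw [hc, ← map_mul, ← map_mul]
    congr 1
    exact Subtype.ext (mem_centralizer_singleton_iff.1 g.2)
  have hcJ : c ∈ J0 := mem_J0_of_comm fun v => (hcent _ (jv_mem_S1 v)).symm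
  obtain ⟨v, hv⟩ := mem_J0_iff.1 hcJ
  have hvc : v = fun _ => v 0 := by
    funext k
    have h1 := hcent _ (wm_perm_mem (Equiv.swap k 0))
    rw [← hv, wm_jv, mul_left_inj] at h1
    have h2 := congrFun (jv_inj h1) k
    simpa [act] using h2.symm
  have hv0 : v 0 ≠ 0 := fun h0 => by
    have : c = 1 := by rw [← hv, hvc, h0]; exact jv_zero
    rw [hc, ← map_one φ] at this
    have hx1 : x = 1 := congrArg Subtype.val (hφ this)
    rw [hx1, orderOf_one] at hx
    omega
  obtain ⟨ν, hν⟩ : ∃ ν : Par, ν = (1, fun _ => Units.mk0 (v 0) hv0) := ⟨_, rfl⟩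
  have hνx : wm ν * ANineThree.x * (wm ν)⁻¹ = c := by
    rw [x_eq, wm_conj, ← hv, hvc, hν]
    congr 1
    funext k
    simp [act]
  have hνS : ∀ σ, σ ∈ S1 ↔ wm ν * σ * (wm ν)⁻¹ ∈ S1 := by
    have hcx : ∀ g : P9, g * ANineThree.x = ANineThree.x * g ↔ g * c = c * g := by
      intro g
      obtain ⟨n, hn⟩ : ∃ n, jv (fun _ => v 0) = ANineThree.x ^ n := jv_const _
      obtain ⟨m, hm⟩ : ∃ m : ℕ, ANineThree.x = c ^ m := by
        rw [← hv, hvc, x_eq]
        exact ⟨(v 0).val, jv_one_pow _ hv0⟩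
      refine ⟨fun h => ?_, fun h => ?_⟩
      · rw [← hv, hvc, hn]
        exact ((show Commute g ANineThree.x from h).pow_right n).eq
      · rw [hm]
        exact ((show Commute g c from h).pow_right m).eq
    intro σ
    constructor
    · intro h
      refine comm_x_mem_S1 ((hcx _).2 ?_)
      rw [← hνx]
      calc wm ν * σ * (wm ν)⁻¹ * (wm ν * ANineThree.x * (wm ν)⁻¹)
          = wm ν * (σ * ANineThree.x) * (wm ν)⁻¹ := by group
        _ = wm ν * (ANineThree.x * σ) * (wm ν)⁻¹ := by rw [(mem_S1.1 h).2]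
        _ = _ := by group
    · intro h
      have h1 := (hcx _).1 (mem_S1.1 h).2
      rw [← hνx] at h1
      refine comm_x_mem_S1 ?_
      calc σ * ANineThree.x
          = (wm ν)⁻¹ * (wm ν * σ * (wm ν)⁻¹ * (wm ν * ANineThree.x * (wm ν)⁻¹)) * wm ν := by group
        _ = (wm ν)⁻¹ * (wm ν * ANineThree.x * (wm ν)⁻¹ * (wm ν * σ * (wm ν)⁻¹)) * wm ν := by
          rw [h1]
        _ = _ := by group
  obtain ⟨θ, hθ, hθinj⟩ : ∃ θ : S1 → centralizer ({x} : Set G),
      (∀ σ : S1, φ (θ σ) = wm ν * σ * (wm ν)⁻¹) ∧ Function.Injective θ := by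
    choose θ hθ using fun σ : S1 => hφs _ ((hνS σ).1 σ.2)
    refine ⟨θ, hθ, fun a b h => ?_⟩
    have := congrArg φ h
    rw [hθ, hθ] at this
    exact Subtype.ext (mul_left_cancel (mul_right_cancel this))
  have hθmul : ∀ a b : S1, θ (a * b) = θ a * θ b := fun a b => hφ (by
    rw [map_mul, hθ, hθ, hθ, coe_mul]; group)
  refine ⟨{
    E := fun w => θ ⟨jv w, jv_mem_S1 w⟩
    E_add := fun u w => by
      rw [← coe_mul, ← hθmul]
      congr 2
      exact Subtype.ext (jv_add u w)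
    E_inj := fun u w h => jv_inj (congrArg Subtype.val (hθinj (Subtype.ext h)))
    mem := fun g => ?_
    E_one := ?_
    Q := (centralizer ({x} : Set G)).subtype.comp (MonoidHom.mk'
      (fun π => θ ⟨wm (π, fun _ => 1), wm_perm_mem π⟩) fun π ρ => by
        rw [← hθmul]
        congr 1
        apply Subtype.ext
        show wm (π * ρ, fun _ => 1) = wm (π, fun _ => 1) * wm (ρ, fun _ => 1)
        rw [← wm_pmul]
        simp [pmul])
    Q_conj := fun π w => ?_
    cent := fun g hg => ?_ }⟩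
  · constructor
    · intro hg
      have h1 : φ ⟨g, hJC hg⟩ ∈ J0 := hA ▸ ⟨⟨g, hJC hg⟩, hg, rfl⟩
      obtain ⟨w, hw⟩ := mem_J0_iff.1 h1
      refine ⟨act (pinv ν) w, congrArg Subtype.val (hφ (?_ : φ _ = φ ⟨g, hJC hg⟩))⟩
      rw [hθ, ← hw]
      show wm ν * jv _ * (wm ν)⁻¹ = _
      rw [wm_conj, ← act_pmul, show pmul ν (pinv ν) = pone by
        rw [hν]; simp [pmul, pinv, pone, Perm.one_def], act_pone]
    · rintro ⟨w, rfl⟩
      have h1 : φ (θ ⟨jv w, jv_mem_S1 w⟩) ∈ J0 := by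
        rw [hθ]
        show wm ν * jv w * (wm ν)⁻¹ ∈ J0
        rw [wm_conj]
        exact jv_mem _
      rw [← hA] at h1
      obtain ⟨g', hg', e⟩ := h1
      rw [← hφ e]
      exact hg'
  · refine congrArg Subtype.val (hφ (?_ : φ _ = φ ⟨x, hxm⟩))
    rw [hθ, ← hc, ← hνx, x_eq]
  · show ((θ _ : centralizer ({x} : Set G)) : G) * (θ _ : G) * ((θ _ : G))⁻¹ = (θ _ : G)
    rw [mul_inv_eq_iff_eq_mul, ← coe_mul, ← hθmul]
    rw [← coe_mul, ← hθmul]
    congr 2
    exact Subtype.ext (wm_jv _ _)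
  · obtain ⟨c', π, hσ⟩ := exists_of_mem_S1 ((hνS ((wm ν)⁻¹ * φ ⟨g,
      mem_centralizer_singleton_iff.2 hg⟩ * wm ν)).2 (by simpa [mul_assoc] using hφS _))
    refine ⟨c', π, ?_⟩
    show g = (θ _ : G) * (θ _ : G)
    rw [← coe_mul, ← hθmul]
    refine congrArg Subtype.val (hφ (?_ : φ ⟨g, mem_centralizer_singleton_iff.2 hg⟩ = φ _))
    rw [hθ]
    show _ = wm ν * (jv c' * wm (π, fun _ => 1)) * (wm ν)⁻¹
    rw [← hσ]
    group

/-- The normalizer is monomial in shifted coordinates. -/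
theorem exists_mono [Finite G] {J : Subgroup G} {x : G} (hC : StmtClassify) (P : Pre J x) :
    ∃ P' : Pre J x, ∀ h ∈ normalizer (J : Set G), ∃ p, P'.Rel h p := by
  obtain ⟨X, hX⟩ : ∃ X : Set M3, ∀ M, M ∈ X ↔ ∃ h ∈ normalizer (J : Set G),
      ∀ v, h * P.E v * h⁻¹ = P.E (M *ᵥ v) := ⟨{M | _}, fun _ => Iff.rfl⟩
  have hadd : ∀ h : G, ∀ u v, h * P.E (u + v) * h⁻¹ = h * P.E u * h⁻¹ * (h * P.E v * h⁻¹) :=
    fun h u v => by rw [P.E_add]; group
  have hex : ∀ h ∈ normalizer (J : Set G), ∃ M : M3, ∀ v, h * P.E v * h⁻¹ = P.E (M *ᵥ v) := by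
    intro h hh
    choose m hm using P.conj_mem hh
    refine ⟨Matrix.of fun k i => m (Pi.single i 1) k, ext_basis (hadd h) ?_ fun i => ?_⟩
    · intro u v
      rw [Matrix.mulVec_add, P.E_add]
    · rw [hm]
      congr 1
      funext k
      simp [Matrix.mulVec, dotProduct, Pi.single_apply]
  have hmul : ∀ a ∈ X, ∀ b ∈ X, a * b ∈ X := by
    intro a ha b hb
    obtain ⟨g, hg, ga⟩ := (hX a).1 ha
    obtain ⟨h, hh, hb'⟩ := (hX b).1 hb
    refine (hX _).2 ⟨g * h, mul_mem hg hh, fun v => ?_⟩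
    rw [← Matrix.mulVec_mulVec, ← ga, ← hb']
    group
  have hperm : ∀ g : M3, IsPermMat g → g ∈ X := by
    rintro g ⟨π, hπ⟩
    refine (hX _).2 ⟨P.Q π, P.cent_le ?_, fun v => ?_⟩
    · have := P.Q_conj π 1
      rwa [act_perm_one, P.E_one, mul_inv_eq_iff_eq_mul] at this
    · rw [P.Q_conj]
      refine ext_basis (φ := fun v => P.E (act _ v)) (φ' := fun v => P.E (g *ᵥ v)) ?_ ?_ ?_ v
      · intro u v; rw [act_add, P.E_add]
      · intro u v; rw [Matrix.mulVec_add, P.E_add]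
      · intro i
        congr 1
        rw [act_single]
        have := hπ i
        rw [frame_zero, frame_zero] at this
        rw [this]
        simp
  have hdet : ∀ g ∈ X, g.det ≠ 0 := by
    intro g hg h0
    obtain ⟨h, hh, hg'⟩ := (hX g).1 hg
    obtain ⟨M, hM⟩ := hex h⁻¹ (inv_mem hh)
    have h1 : ∀ v, (g * M) *ᵥ v = v := fun v => P.E_inj (by
      rw [← Matrix.mulVec_mulVec, ← hg', ← hM]
      group)
    have h2 : g * M = 1 := Matrix.ext_of_mulVec_single fun i => by rw [h1, Matrix.one_mulVec]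
    have h3 := congrArg Matrix.det h2
    rw [Matrix.det_mul, h0, zero_mul, Matrix.det_one] at h3
    exact zero_ne_one h3
  have hfix : ∀ g ∈ X, g *ᵥ (fun _ => 1) = (fun _ => 1) → IsPermMat g := by
    intro g hg hg1
    obtain ⟨h, hh, hg'⟩ := (hX g).1 hg
    have hx : h * x = x * h := by
      have h1 := hg' 1
      rwa [show g *ᵥ (1 : V3) = 1 from hg1, P.E_one, mul_inv_eq_iff_eq_mul] at h1
    obtain ⟨c, π, rfl⟩ := P.cent h hx
    refine ⟨π, fun i => ?_⟩
    have h2 := P.rel_mul (P.rel_E c) (P.rel_Q π) (Pi.single i 1)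
    rw [hg'] at h2
    have h3 := P.E_inj h2
    rw [act_single] at h3
    simpa [pmul, pone, frame_zero] using h3
  obtain ⟨a, ha⟩ := hC X hmul hperm hdet hfix
  refine ⟨P.shifted a, fun h hh => ?_⟩
  obtain ⟨M, hM⟩ := hex h hh
  obtain ⟨π, s, hs, hπ⟩ := ha M ((hX M).2 ⟨h, hh, hM⟩)
  refine ⟨(π, fun i => Units.mk0 (s i) (hs i)), ext_basis ?_ ?_ fun i => ?_⟩
  · intro u v
    rw [(P.shifted a).E_add]
    group
  · intro u v
    rw [act_add, (P.shifted a).E_add]
  · show h * P.E (shift a _) * h⁻¹ = P.E (shift a _)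
    rw [hM, act_single, Units.val_mk0, shift_smul, shift_single, shift_single, hπ]

/-- A complement of the group of order 27. -/
theorem exists_compl [Finite G] {J : Subgroup G} {x : G} (P : Pre J x)
    (hP : ∀ h ∈ normalizer (J : Set G), ∃ p, P.Rel h p) :
    ∃ L : Subgroup G, L ≤ normalizer (J : Set G) ∧ (∀ c, P.E c ∈ L → c = 0) ∧
      ∀ h ∈ normalizer (J : Set G), ∃ c, (P.E c)⁻¹ * h ∈ L := by
  have hJN : ∀ c, P.E c ∈ normalizer (J : Set G) := fun c =>
    le_normalizer ((P.mem _).2 ⟨c, rfl⟩)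
  have hQN : ∀ π, P.Q π ∈ normalizer (J : Set G) := fun π => P.cent_le (by
    have := P.Q_conj π 1
    rwa [act_perm_one, P.E_one, mul_inv_eq_iff_eq_mul] at this)
  by_cases hone : ∀ h ∈ normalizer (J : Set G), ∀ p, P.Rel h p → p.2 = fun _ => 1
  · refine ⟨P.Q.range, fun _ ⟨π, hπ⟩ => hπ ▸ hQN π, fun c hc => ?_, fun h hh => ?_⟩
    · obtain ⟨π, hπ⟩ := hc
      have h1 : (π, fun _ => 1) = pone := P.rel_unique (hπ ▸ P.rel_Q π) (P.rel_E c)
      rw [show π = 1 from congrArg Prod.fst h1, map_one] at hπ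
      exact P.E_inj (hπ.symm.trans (map_zero_of_add P.E_add).symm)
    · obtain ⟨p, hp⟩ := hP h hh
      have h2 := P.rel_mul hp (P.rel_Q p.1⁻¹)
      rw [show pmul p (p.1⁻¹, fun _ => 1) = pone by simp [pmul, pone, hone h hh p hp]] at h2
      obtain ⟨c, hc⟩ := P.exists_of_rel_pone h2
      exact ⟨c, p.1, by rw [hc, map_inv]; group⟩
  simp only [not_forall] at hone
  obtain ⟨h0, hh0, p0, hp0, hne⟩ := hone
  obtain ⟨k0, hk0⟩ : ∃ k, p0.2 k ≠ 1 := by
    by_contra h
    simp only [not_exists, not_not] at h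
    exact hne (funext h)
  let V0 : Subgroup G :=
    { carrier := {h | h ∈ normalizer (J : Set G) ∧ ∃ s, P.Rel h (1, s)}
      one_mem' := ⟨one_mem _, _, P.rel_one⟩
      mul_mem' := fun {g h} ⟨hg, s, gs⟩ ⟨hh, t, ht⟩ =>
        ⟨mul_mem hg hh, fun k => s k * t k, by simpa [pmul] using P.rel_mul gs ht⟩
      inv_mem' := fun {h} ⟨hh, s, hs⟩ => by
        obtain ⟨p, hp⟩ := hP _ (inv_mem hh)
        have h1 := P.rel_unique (P.rel_mul hp hs) (by rw [inv_mul_cancel]; exact P.rel_one)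
        have h2 : p.1 = 1 := by simpa [pmul, pone] using congrArg Prod.fst h1
        exact ⟨inv_mem hh, p.2, by rw [← h2]; exact hp⟩ }
  have hflip : ∀ k, ∃ d ∈ V0, ∀ s, P.Rel d (1, s) → s k ≠ 1 := by
    intro k
    have h1 := P.rel_mul (P.rel_mul (P.rel_Q (Equiv.swap k k0)) (P.rel_mul (P.rel_Q p0.1⁻¹) hp0))
      (P.rel_Q (Equiv.swap k k0))
    refine ⟨P.Q (Equiv.swap k k0) * (P.Q p0.1⁻¹ * h0) * P.Q (Equiv.swap k k0),
      ⟨?_, fun l => p0.2 (Equiv.swap k k0 l), ?_⟩, fun s hs => ?_⟩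
    · exact mul_mem (mul_mem (hQN _) (mul_mem (hQN _) hh0)) (hQN _)
    · simpa [pmul, Equiv.swap_mul_self] using h1
    · have h2 := congrArg Prod.snd (P.rel_unique hs h1)
      simp only [pmul] at h2
      rw [h2]
      simpa using hk0
  obtain ⟨T0⟩ : Nonempty (Sylow 2 V0) := inferInstance
  let T : Subgroup G := (T0 : Subgroup V0).map V0.subtype
  have hTV : T ≤ V0 := Subgroup.map_subtype_le _
  have hTJ : ∀ t ∈ T, t ∈ J → t = 1 := by
    rintro _ ⟨t, ht, rfl⟩ hJ
    obtain ⟨k, hk⟩ := T0.isPGroup' ⟨t, ht⟩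
    obtain ⟨v, hv⟩ := (P.mem _).1 hJ
    have h1 : (t : G) ^ (2 ^ k) = 1 := by
      simpa using congrArg (fun z : (T0 : Subgroup V0) => ((z : V0) : G)) hk
    have h2 : (t : G) ^ 3 = 1 := by
      rw [show (t : G) = P.E v from hv.symm, ← map_nsmul_of_add P.E_add,
        show (3 : ℕ) • v = 0 from funext fun l => by
          simp [show (3 : ZMod 3) = 0 from by decide], map_zero_of_add P.E_add]
    have h3 := Nat.dvd_gcd (orderOf_dvd_of_pow_eq_one h1) (orderOf_dvd_of_pow_eq_one h2)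
    rw [Nat.Coprime.pow_left k (by decide : Nat.Coprime 2 3), Nat.dvd_one,
      orderOf_eq_one_iff] at h3
    exact h3
  have hsq : ∀ u : (ZMod 3)ˣ, u * u = 1 := by decide +kernel
  have hconj : ∀ (Q : Sylow 2 V0), ∃ v : V0, ∀ g : V0, g ∈ (Q : Subgroup V0) ↔
      ∃ t ∈ T, (g : G) = v * t * (v : G)⁻¹ := by
    intro Q
    obtain ⟨v, rfl⟩ := MulAction.exists_smul_eq V0 T0 Q
    refine ⟨v, fun g => ?_⟩
    rw [Sylow.coe_subgroup_smul, Subgroup.mem_smul_pointwise_iff_exists]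
    constructor
    · rintro ⟨t, ht, rfl⟩
      exact ⟨t, ⟨t, ht, rfl⟩, by simp⟩
    · rintro ⟨_, ⟨t, ht, rfl⟩, e⟩
      exact ⟨t, ht, Subtype.ext (by simp [e])⟩
  have hT : ∀ d ∈ V0, ∀ s, P.Rel d (1, s) → ∃ t ∈ T, P.Rel t (1, s) := by
    intro d hd s hs
    have h2 : P.Rel (d * d) pone := by
      simpa [pmul, pone, hsq] using P.rel_mul hs hs
    obtain ⟨c, hc⟩ := P.exists_of_rel_pone h2
    have h3 : P.Rel (d * d * d) (1, s) := by
      simpa [pmul, pone] using P.rel_mul h2 hs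
    have h6 : d * d * d * (d * d * d) = 1 := by
      have : d * d * (d * d) * (d * d) = 1 := by
        rw [← hc, ← P.E_add, ← P.E_add, show c + c + c = 0 from funext fun l => by
          have : ∀ r : ZMod 3, r + r + r = 0 := by decide
          exact this _, map_zero_of_add P.E_add]
      rw [← this]; group
    obtain ⟨a, ha⟩ : ∃ a : V0, (a : G) = d * d * d :=
      ⟨⟨_, mul_mem (mul_mem hd hd) hd⟩, rfl⟩
    have hp : IsPGroup 2 (zpowers a) := fun g => by
      refine ⟨1, Subtype.ext ?_⟩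
      obtain ⟨n, hn⟩ := Subgroup.mem_zpowers_iff.1 g.2
      have : a ^ 2 = 1 := Subtype.ext (by simpa [pow_two, ha] using h6)
      rw [pow_one, Subgroup.coe_pow, ← hn, ← zpow_natCast, ← _root_.zpow_mul, mul_comm, _root_.zpow_mul,
        zpow_natCast, this, one_zpow, OneMemClass.coe_one]
    obtain ⟨Q, hQ⟩ := hp.exists_le_sylow
    obtain ⟨v, hv⟩ := hconj Q
    obtain ⟨t, ht, e⟩ := (hv a).1 (hQ (mem_zpowers a))
    obtain ⟨-, r, hr⟩ := v.2
    obtain ⟨-, q, hq⟩ := hTV ht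
    refine ⟨t, ht, ?_⟩
    have e2 : (v : G) * t = d * d * d * v := by rw [← ha, e]; group
    have h4 := P.rel_unique (P.rel_mul hr hq) (e2 ▸ P.rel_mul h3 hr)
    have h5 : q = s := by
      funext l
      have := congrFun (congrArg Prod.snd h4) l
      simp only [pmul, Perm.one_apply] at this
      rwa [mul_comm (s l), mul_right_inj] at this
    exact h5 ▸ hq
  refine ⟨normalizer (J : Set G) ⊓ normalizer (T : Set G), inf_le_left, fun c hc => ?_,
    fun h hh => ?_⟩
  · funext k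
    obtain ⟨d, hd, hdk⟩ := hflip k
    obtain ⟨-, s, hs⟩ := id hd
    obtain ⟨t, ht, hts⟩ := hT d hd s hs
    have h1 : P.E c * t * (P.E c)⁻¹ * t⁻¹ = P.E (c + act (1, s) (-c)) := by
      have hneg : P.E (-c) = (P.E c)⁻¹ := by
        rw [eq_inv_iff_mul_eq_one, ← P.E_add, neg_add_cancel, map_zero_of_add P.E_add]
      rw [P.E_add, ← hts, hneg]
      group
    have h2 : P.E c * t * (P.E c)⁻¹ * t⁻¹ ∈ T :=
      mul_mem ((mem_normalizer_iff.1 hc.2 t).1 ht) (inv_mem ht)
    have h3 : c + act (1, s) (-c) = 0 := P.E_inj (by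
      rw [← h1, hTJ _ h2 ((P.mem _).2 ⟨_, h1.symm⟩), map_zero_of_add P.E_add])
    have h4 := congrFun h3 k
    simp only [Pi.add_apply, act, Pi.neg_apply, Pi.zero_apply, Perm.one_def, Equiv.refl_symm,
      Equiv.refl_apply] at h4
    have key : ∀ (u : (ZMod 3)ˣ) (r : ZMod 3), u ≠ 1 → r + (u : ZMod 3) * -r = 0 → r = 0 := by
      decide +kernel
    exact key _ _ (hdk s hs) h4
  · have hnorm : ∀ t ∈ V0, h * t * h⁻¹ ∈ V0 := by
      intro t ht
      obtain ⟨htN, s, hs⟩ := ht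
      obtain ⟨p, hp⟩ := hP h hh
      obtain ⟨q, hq⟩ := hP h⁻¹ (inv_mem hh)
      have hpq := P.rel_unique (P.rel_mul hp hq) (by rw [mul_inv_cancel]; exact P.rel_one)
      refine ⟨mul_mem (mul_mem hh htN) (inv_mem hh), (pmul (pmul p (1, s)) q).2, ?_⟩
      have h1 := P.rel_mul (P.rel_mul hp hs) hq
      have e : (pmul (pmul p (1, s)) q).1 = 1 := by
        simpa [pmul, pone] using congrArg Prod.fst hpq
      rwa [← Prod.mk.eta (p := pmul (pmul p (1, s)) q), e] at h1
    let T' : Subgroup V0 := (T.map (MulAut.conj h).toMonoidHom).subgroupOf V0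
    have hT' : IsPGroup 2 T' := by
      have hp : IsPGroup 2 T := T0.isPGroup'.map _
      exact (hp.map _).comap_of_injective _ (Subgroup.subtype_injective _)
    obtain ⟨Q, hQ⟩ := hT'.exists_le_sylow
    obtain ⟨v, hv⟩ := hconj Q
    obtain ⟨-, r, hr⟩ := id v.2
    obtain ⟨t', ht', hts⟩ := hT v v.2 r hr
    have hw : (v : G)⁻¹ * h ∈ normalizer (T : Set G) := by
      have key : T.map (MulAut.conj ((v : G)⁻¹ * h)).toMonoidHom ≤ T := by
        rintro _ ⟨t, ht, rfl⟩
        obtain ⟨t1, ht1, e⟩ := (hv ⟨_, hnorm t (hTV ht)⟩).1 (hQ ⟨t, ht, by simp⟩)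
        simp only at e
        have : (MulAut.conj ((v : G)⁻¹ * h)).toMonoidHom t = t1 := by
          show (v : G)⁻¹ * h * t * ((v : G)⁻¹ * h)⁻¹ = t1
          calc _ = (v : G)⁻¹ * (h * t * h⁻¹) * v := by group
            _ = _ := by rw [e]; group
        rw [this]
        exact ht1
      have heq := Subgroup.eq_of_le_of_card_ge key
        (Subgroup.card_map_of_injective (MulEquiv.injective _)).ge
      refine mem_normalizer_iff.2 fun t => ⟨fun ht => heq.le ⟨t, ht, rfl⟩, fun ht => ?_⟩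
      rw [← heq] at ht
      obtain ⟨t2, ht2, e⟩ := ht
      simp only [MulEquiv.coe_toMonoidHom, MulAut.conj_apply] at e
      rwa [← mul_left_cancel (mul_right_cancel e)]
    have h2 : P.Rel ((v : G) * t'⁻¹) pone := by
      obtain ⟨q, hq⟩ := hP t'⁻¹ (inv_mem (hTV ht').1)
      have h5 := P.rel_unique (P.rel_mul hts hq) (by rw [mul_inv_cancel]; exact P.rel_one)
      exact h5 ▸ P.rel_mul hr hq
    obtain ⟨c, hc⟩ := P.exists_of_rel_pone h2
    refine ⟨c, Subgroup.mem_inf.2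
      ⟨Subgroup.mul_mem _ (Subgroup.inv_mem _ (hJN c)) hh, ?_⟩⟩
    rw [show (P.E c)⁻¹ * h = t' * ((v : G)⁻¹ * h) by rw [hc]; group]
    exact mul_mem (le_normalizer ht') hw

end SetupModel

open SetupModel in
/-- The hypotheses give local data over one of the four models. -/
theorem setup (hC : StmtClassify) : StmtSetup.{u} := by
  intro G _ _ x hx eC J hJC hJcomm hJexp hJcard hJsig
  have hx0 : (Equiv.swap (0 : Fin 9) 1 * Equiv.swap 1 2 * Equiv.swap 3 4 * Equiv.swap 4 5 *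
      Equiv.swap 6 7 * Equiv.swap 7 8 : P9) = ANineThree.x := by decide +kernel
  rw [hx0] at eC
  obtain ⟨P0⟩ := exists_pre hx eC hJC hJcomm hJexp hJcard
  obtain ⟨P, hP⟩ := exists_mono hC P0
  obtain ⟨L, hLN, hL0, hLc⟩ := exists_compl P hP
  choose c hc using fun h : normalizer (J : Set G) => hLc h h.2
  choose p hp using fun h : normalizer (J : Set G) => hP h h.2
  have huniq : ∀ (h : normalizer (J : Set G)) (d : V3) (q : Par),
      (P.E d)⁻¹ * h ∈ L → P.Rel h q → c h = d ∧ p h = q := by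
    intro h d q hd hq
    refine ⟨?_, P.rel_unique (hp h) hq⟩
    have h1 : P.E (-(c h) + d) ∈ L := by
      have h2 := mul_mem (hc h) (inv_mem hd)
      rw [P.E_add, show P.E (-(c h)) = (P.E (c h))⁻¹ by
        rw [eq_inv_iff_mul_eq_one, ← P.E_add, neg_add_cancel, map_zero_of_add P.E_add]]
      simpa [mul_assoc] using h2
    exact neg_add_eq_zero.1 (hL0 _ h1)
  obtain ⟨f, hf⟩ : ∃ f : normalizer (J : Set G) →* P9, ∀ h, f h = jv (c h) * wm (p h) := by
    refine ⟨MonoidHom.mk' (fun h => jv (c h) * wm (p h)) fun a b => ?_, fun _ => rfl⟩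
    have hl : P.Rel ((P.E (c a))⁻¹ * a) (p a) := fun v => by
      have h1 := P.rel_E (c a) (act (p a) v)
      rw [act_pone, ← hp a] at h1
      calc _ = (P.E (c a))⁻¹ * ((a : G) * P.E v * (a : G)⁻¹) * P.E (c a) := by group
        _ = (P.E (c a))⁻¹ * P.E (act (p a) v) * P.E (c a) := by rw [hp a]
        _ = _ := by rw [mul_assoc, ← P.E_add, add_comm, P.E_add, inv_mul_cancel_left]
    obtain ⟨e1, e2⟩ := huniq (a * b) (c a + act (p a) (c b)) (pmul (p a) (p b))
      (by
        rw [P.E_add, ← hl, coe_mul]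
        have := mul_mem (hc a) (hc b)
        simpa [mul_assoc] using this)
      (P.rel_mul (hp a) (hp b))
    rw [e1, e2, jv_add, wm_pmul, mul_assoc, ← mul_assoc (jv (act _ _)), ← wm_jv]
    group
  have hfinj : Function.Injective f := by
    rw [injective_iff_map_eq_one]
    intro h h1
    rw [hf] at h1
    have h2 : jv (c h) = wm (pinv (p h)) := by rw [← wm_inv]; exact eq_inv_of_mul_eq_one_left h1
    obtain ⟨hc0, -⟩ := jv_eq_wm h2
    rw [hc0, jv_zero, one_mul, ← wm_pone] at h1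
    have hp1 : p h = pone := act_inj fun v => jv_inj (by rw [← wm_conj, ← wm_conj, h1])
    obtain ⟨d, hd⟩ := P.exists_of_rel_pone (hp1 ▸ hp h)
    have h3 := hc h
    rw [hc0, map_zero_of_add P.E_add, inv_one, one_mul, ← hd] at h3
    exact Subtype.ext (by rw [← hd, hL0 d h3, map_zero_of_add P.E_add]; rfl)
  have hEmem : ∀ v, P.E v ∈ normalizer (J : Set G) := fun v =>
    le_normalizer ((P.mem _).2 ⟨v, rfl⟩)
  have hfE : ∀ v, f ⟨P.E v, hEmem v⟩ = jv v := fun v => by
    obtain ⟨e1, e2⟩ := huniq ⟨P.E v, hEmem v⟩ v pone (by simp) (P.rel_E v)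
    rw [hf, e1, e2, wm_pone, mul_one]
  have hJ0 : J0 ≤ f.range := fun σ hσ => by
    obtain ⟨v, rfl⟩ := mem_J0_iff.1 hσ
    exact ⟨_, hfE v⟩
  have hS1 : S1 ≤ f.range := fun σ hσ => by
    obtain ⟨d, π, rfl⟩ := exists_of_mem_S1 hσ
    refine mul_mem (hJ0 (jv_mem d)) ?_
    have hQ : P.Q π ∈ normalizer (J : Set G) := P.cent_le (by
      have := P.Q_conj π 1
      rwa [act_perm_one, P.E_one, mul_inv_eq_iff_eq_mul] at this)
    have h2 : f ⟨P.Q π, hQ⟩ = jv (c ⟨P.Q π, hQ⟩) * wm (π, fun _ => 1) := by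
      rw [hf, P.rel_unique (hp ⟨P.Q π, hQ⟩) (P.rel_Q π)]
    rw [← inv_mul_cancel_left (jv (c ⟨P.Q π, hQ⟩)) (wm (π, fun _ => 1)), ← h2]
    exact mul_mem (inv_mem (hJ0 (jv_mem _))) ⟨_, rfl⟩
  have hB : f.range ≤ B := by
    rintro _ ⟨h, rfl⟩
    rw [hf]
    exact B.mul_mem (J0_le_B (jv_mem _)) (wm_mem_B _)
  obtain ⟨e, he, heN⟩ : ∃ e : f.range →* G, (∀ h, e ⟨f h, h, rfl⟩ = h) ∧
      ∀ s, e s ∈ normalizer (J : Set G) :=
    ⟨(normalizer (J : Set G)).subtype.comp (MonoidHom.ofInjective hfinj).symm.toMonoidHom,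
      fun h => congrArg Subtype.val
        ((MonoidHom.ofInjective hfinj).symm_apply_eq.2 (Subtype.ext rfl)),
      fun s => SetLike.coe_mem _⟩
  have hsurj : ∀ s : f.range, ∃ h, s = ⟨f h, h, rfl⟩ := by
    rintro ⟨_, h, rfl⟩
    exact ⟨h, rfl⟩
  have hmap : (J0.subgroupOf f.range).map e = J := by
    ext g
    rw [P.mem]
    constructor
    · rintro ⟨s, hs, rfl⟩
      obtain ⟨v, hv⟩ := mem_J0_iff.1 hs
      refine ⟨v, ?_⟩
      rw [show s = ⟨f ⟨P.E v, hEmem v⟩, _, rfl⟩ from Subtype.ext ((hfE v).trans hv).symm, he]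
    · rintro ⟨v, rfl⟩
      exact ⟨⟨f ⟨P.E v, hEmem v⟩, _, rfl⟩,
        show f _ ∈ J0 by rw [hfE]; exact jv_mem v, he _⟩
  have hrange : e.range = normalizer (J : Set G) := le_antisymm
    (fun _ ⟨s, hs⟩ => hs ▸ heN s) fun g hg => ⟨_, he ⟨g, hg⟩⟩
  refine ⟨f.range, classify_over hS1 hB,
    { e := e
      inj := fun a b h => ?_
      J0_le := hJ0
      range_eq := by rw [hmap, hrange]
      cent_x := fun h g hg => ?_
      signalizer := fun W hW hn => ?_ }, hmap⟩
  · obtain ⟨a', rfl⟩ := hsurj a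
    obtain ⟨b', rfl⟩ := hsurj b
    rw [he, he] at h
    obtain rfl := Subtype.ext h
    rfl
  · rw [hrange]
    refine P.cent_le ?_
    have h1 : e ⟨ANineThree.x, h⟩ = x := by
      rw [show (⟨ANineThree.x, h⟩ : f.range) = ⟨f ⟨P.E 1, hEmem 1⟩, _, rfl⟩ from
        Subtype.ext (x_eq.trans (hfE 1).symm), he]
      exact P.E_one
    rw [h1] at hg
    exact mem_centralizer_singleton_iff.1 hg
  · refine hJsig W hW fun j hj => ?_
    rw [hmap] at hn
    refine Subgroup.eq_of_le_of_card_ge ?_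
      (Subgroup.card_map_of_injective (MulEquiv.injective _)).ge
    rintro _ ⟨w, hw, rfl⟩
    exact hn j hj w hw

end CfsgLib.SNineThree
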