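import Cfsg.Agent.Lib.SNineThree.SmallModel

/-!
The elements permuting the blocks evenly, modulo three-elements.
-/

set_option autoImplicit false
set_option maxRecDepth 100000
set_option synthInstance.maxSize 2000
set_option synthInstance.maxHeartbeats 200000

namespace CfsgLib.SNineThree.SmallAux

open Equiv Subgroup
open CfsgLib.ANineThree (P9)
open CfsgLib.ANineThree.LocalAux (Code mkB jv)

theorem even_order : ∀ c : Code, mkB c * ANineThree.x = ANineThree.x * mkB c →
    bpar (mkB c) = 1 → mkB c ^ 3 ∈ J0 := by decide +kernel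

theorem even_decomp_aux : ∀ (c : Code), bpar (mkB c) = 1 → ∀ k : Fin 3, In k (mkB c) →
    ∃ r ∈ reps k, mkB c * r * ANineThree.x = ANineThree.x * (mkB c * r) ∧
      r ∈ B ∧ In k r ∧ r * r = 1 ∧ bpar r = 1 := by decide +kernel

theorem even_decomp (k : Fin 3) (c : Code) (h1 : In k (mkB c)) (h2 : bpar (mkB c) = 1) :
    ∃ r ∈ reps k, r ∈ B ∧ In k r ∧ r * r = 1 ∧ (mkB c * r) ^ 9 = 1 := by
  obtain ⟨r, hr, hx, hB, hI, hr2, hp⟩ := even_decomp_aux c h2 k h1
  have hm : mkB c * r ∈ B := B.mul_mem (mkB_mem c) hB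
  obtain ⟨d, hd⟩ := exists_codeB hm
  have h3 := even_order d (by rw [hd]; exact hx)
    (by rw [hd, bpar_mul (mkB_mem c) hB, h2, hp, one_mul])
  rw [hd] at h3
  refine ⟨r, hr, hB, hI, hr2, ?_⟩
  exact (pow_mul (mkB c * r) 3 3).trans (J0_facts h3).2

end CfsgLib.SNineThree.SmallAux
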