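import Cfsg.Agent.Lib.SNineThree.SmallModel

/-!
Classes of the involutions permuting the blocks oddly.
-/

set_option autoImplicit false
set_option maxRecDepth 100000
set_option synthInstance.maxSize 2000
set_option synthInstance.maxHeartbeats 200000

namespace CfsgLib.SNineThree.SmallAux

open Equiv Subgroup
open CfsgLib.ANineThree (P9)
open CfsgLib.ANineThree.LocalAux (Code mkB jv)

theorem invol_class_aux : ∀ (c : Code), mkB c * mkB c = 1 → bpar (mkB c) = -1 →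
    ∀ k : Fin 3, In k (mkB c) →
    (∃ s ∈ conjs, s * τ0 = mkB c * s ∧ s ∈ B ∧ In k s) ∨
      (k = 1 ∧ ∃ s ∈ conjs, s * uu = mkB c * s ∧ s ∈ B ∧ In k s) := by decide +kernel

theorem invol_class (k : Fin 3) (c : Code) (h1 : In k (mkB c)) (h2 : mkB c * mkB c = 1)
    (h3 : bpar (mkB c) = -1) :
    (∃ s ∈ conjs, s ∈ B ∧ In k s ∧ s * τ0 = mkB c * s) ∨
      (k = 1 ∧ ∃ s ∈ conjs, s ∈ B ∧ In k s ∧ s * uu = mkB c * s) := by
  rcases invol_class_aux c h2 h3 k h1 with ⟨s, a, b, d, e⟩ | ⟨hk, s, a, b, d, e⟩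
  exacts [Or.inl ⟨s, a, d, e, b⟩, Or.inr ⟨hk, s, a, d, e, b⟩]

end CfsgLib.SNineThree.SmallAux
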