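import Cfsg.Agent.Lib.SNineThree.SmallModel

/-!
Centralizers of the elements of the plane centralized by the swap of two blocks.
-/

set_option autoImplicit false
set_option maxRecDepth 100000
set_option synthInstance.maxSize 2000
set_option synthInstance.maxHeartbeats 200000

namespace CfsgLib.SNineThree.SmallAux

open Equiv Subgroup
open CfsgLib.ANineThree (P9)
open CfsgLib.ANineThree.LocalAux (Code mkB jv)

theorem line_facts_half : ∀ v ∈ [((1 : Fin 3), (1 : Fin 3), (0 : Fin 3)), (0, 0, 1), (1, 1, 2)],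
    ∀ c : Code, mkB c * jv v = jv v * mkB c → ∀ k : Fin 3, In k (mkB c) →
      mkB c * mkB c ∈ J0 ∨ (In k t12 ∧
        (t12 * jv v * t12⁻¹ = ANineThree.x ∨ t12 * jv v * t12⁻¹ = ANineThree.x⁻¹)) := by
  decide +kernel

theorem line_reps : ∀ v : Fin 3 × Fin 3 × Fin 3, v ≠ 0 → v.1 = v.2.1 →
    jv v = ANineThree.x ∨ jv v = ANineThree.x⁻¹ ∨
      ∃ w ∈ [((1 : Fin 3), (1 : Fin 3), (0 : Fin 3)), (0, 0, 1), (1, 1, 2)],
        jv v = jv w ∨ jv v = (jv w)⁻¹ := by decide +kernel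

theorem line_facts (k : Fin 3) (v : Fin 3 × Fin 3 × Fin 3) (h1 : v ≠ 0) (h2 : v.1 = v.2.1) :
    (∀ c : Code, In k (mkB c) → mkB c * jv v = jv v * mkB c → mkB c * mkB c ∈ J0) ∨
      jv v = ANineThree.x ∨ jv v = ANineThree.x⁻¹ ∨
      (In k t12 ∧ (t12 * jv v * t12⁻¹ = ANineThree.x ∨ t12 * jv v * t12⁻¹ = ANineThree.x⁻¹)) := by
  rcases line_reps v h1 h2 with h | h | ⟨w, hw, e⟩
  · exact Or.inr (Or.inl h)
  · exact Or.inr (Or.inr (Or.inl h))
  by_cases ht : In k t12 ∧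
      (t12 * jv v * t12⁻¹ = ANineThree.x ∨ t12 * jv v * t12⁻¹ = ANineThree.x⁻¹)
  · exact Or.inr (Or.inr (Or.inr ht))
  refine Or.inl fun c a b => ?_
  rcases e with e | e <;> rw [e] at b ht
  · exact (line_facts_half w hw c b k a).resolve_right ht
  · refine (line_facts_half w hw c (Commute.inv_right_iff.1 b).eq k a).resolve_right fun h => ht ⟨h.1, ?_⟩
    have e' : t12 * (jv w)⁻¹ * t12⁻¹ = (t12 * jv w * t12⁻¹)⁻¹ := (conj_inv).symm
    rw [e']
    rcases h.2 with h' | h' <;> rw [h']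
    · exact Or.inr rfl
    · exact Or.inl (inv_inv _)

end CfsgLib.SNineThree.SmallAux
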