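import Cfsg.Agent.Lib.SNineThree.Interface
import Cfsg.Agent.Lib.SNineThree.Model0
import Cfsg.Agent.Lib.SNineThree.SmallModelLine
import Cfsg.Agent.Lib.SNineThree.SmallModelInvol
import Cfsg.Agent.Lib.SNineThree.SmallModelEven
import Cfsg.Agent.Lib.SNineThree.SetupModel
import Cfsg.Agent.Lib.ANineThree.LocalThree
import Cfsg.Agent.Lib.Coprime.Action2

/-!
The three small models: the transfer of the parity on the blocks is non-trivial at `τ0`, so a normal
subgroup of index two reduces to the models with even permutations of the blocks.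
-/

set_option autoImplicit false
set_option linter.style.haveILetI false
set_option maxHeartbeats 1000000

namespace CfsgLib.SNineThree

open Equiv Subgroup
open CfsgLib.ANineThree (P9)
open CfsgLib.ANineThree.LocalAux (Code mkB jv)
open CfsgLib.SNineThree.SetupModel (Par V3 pmul pone wm act wm_pmul wm_jv wm_pone jv_mem exists_of_mem_B)

universe u

namespace SmallAux

attribute [local irreducible] CfsgLib.ANineThree.x CfsgLib.ANineThree.y CfsgLib.ANineThree.z3 CfsgLib.ANineThree.p τ0 iota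

theorem par_pow : ∀ q : Par, (fun r => pmul q r)^[12] pone = pone := by decide +kernel

theorem pow36 (c : Code) : mkB c ^ 36 = 1 := by
  obtain ⟨a, q, h⟩ := exists_of_mem_B (mkB_mem c)
  have key : ∀ n, ∃ v : V3, (SetupModel.jv a * wm q) ^ n =
      SetupModel.jv v * wm ((fun r => pmul q r)^[n] pone) := by
    intro n
    induction n with
    | zero => exact ⟨0, by simp [SetupModel.jv_zero, wm_pone]⟩
    | succ n ih =>
      obtain ⟨v, hv⟩ := ih
      refine ⟨a + act q v, ?_⟩
      rw [pow_succ', hv, Function.iterate_succ_apply', wm_pmul, SetupModel.jv_add, mul_assoc,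
        ← mul_assoc (wm q), wm_jv]
      simp only [mul_assoc]
  obtain ⟨v, hv⟩ := key 12
  rw [par_pow, wm_pone, mul_one] at hv
  rw [h, show 36 = 12 * 3 from rfl, pow_mul, hv]
  exact (J0_facts (jv_mem v)).2

theorem jv_split : ∀ a c : Fin 3, jv (a, a, c) = ANineThree.y ^ a.1 * ANineThree.z3 ^ c.1 := by
  decide +kernel

theorem plane_facts : ANineThree.y ∈ J0 ∧ ANineThree.z3 ∈ J0 ∧ ANineThree.y ≠ 1 ∧
    ANineThree.y * τ0 = τ0 * ANineThree.y ∧ ANineThree.z3 * τ0 = τ0 * ANineThree.z3 := by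
  decide +kernel

theorem bpar_t12 : bpar t12 = 1 := by decide +kernel

theorem z3_not_mem : ANineThree.z3 ∉ zpowers ANineThree.y := fun h => by
  obtain ⟨n, hn⟩ := mem_zpowers_iff.1 h
  have h6 := congrArg (fun s : P9 => s 6) hn
  rw [Perm.zpow_apply_eq_self_of_apply_eq_self (by decide +kernel)] at h6
  revert h6
  decide +kernel

/-- A 3-subgroup containing all 3-elements of its normalizer is a Sylow subgroup. -/
theorem exists_sylow {C : Type u} [Group C] [Finite C] (P : Subgroup C) (hP : IsPGroup 3 P)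
    (h : ∀ k ∈ normalizer (P : Set C), (∃ n, k ^ 3 ^ n = 1) → k ∈ P) :
    ∃ T : Sylow 3 C, (T : Subgroup C) = P := by
  haveI : Fact (Nat.Prime 3) := ⟨Nat.prime_three⟩
  obtain ⟨T, hT⟩ := hP.exists_le_sylow
  refine ⟨T, le_antisymm ?_ hT⟩
  by_contra hne
  haveI := IsPGroup.isNilpotent T.2
  have hlt : P.subgroupOf (T : Subgroup C) < ⊤ :=
    lt_top_iff_ne_top.2 fun e => hne (subgroupOf_eq_top.1 e)
  obtain ⟨t, htN, htP⟩ :=
    SetLike.exists_of_lt (Group.normalizerCondition_of_isNilpotent _ hlt)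
  obtain ⟨n, hn⟩ := T.2 t
  refine htP (h t ?_ ⟨n, by simpa using congrArg Subtype.val hn⟩)
  refine mem_normalizer_fintype fun q hq => ?_
  exact (mem_set_normalizer_iff.1 htN ⟨q, hT hq⟩).1 hq

variable {G : Type u} [Group G] {k : Fin 3} (L : Loc (model k) G)

theorem model_le (k : Fin 3) : model k ≤ B := fun _ h => (mem_model.1 h).1

theorem tau_mem (k : Fin 3) : τ0 ∈ model k :=
  mem_model.2 ⟨(basic k).2.2.2.2.1, (basic k).1⟩

theorem p_mem (k : Fin 3) : ANineThree.p ∈ model k :=
  mem_model.2 ⟨(basic k).2.2.2.2.2, (basic k).2.1⟩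

theorem mem_range' {g : G} (h : g ∈ L.e.range) :
    ∃ c : Code, In k (mkB c) ∧ mkB c ∈ model k ∧ L.el (mkB c) = g := by
  obtain ⟨σ, hσ, rfl⟩ := L.mem_range.1 h
  obtain ⟨c, rfl, hc⟩ := of_code hσ
  exact ⟨c, hc, hσ, rfl⟩

theorem pow9_of {c : Code} (hm : mkB c ∈ model k) {n : ℕ} (h : L.el (mkB c) ^ 3 ^ n = 1) :
    mkB c ^ 9 = 1 := by
  rw [← L.el_pow hm, ← L.el_one] at h
  have h1 := L.el_inj (pow_mem hm _) (one_mem _) h
  have h2 : orderOf (mkB c) ∣ 4 * 9 := orderOf_dvd_of_pow_eq_one (pow36 c)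
  have h3 : Nat.Coprime (orderOf (mkB c)) 4 :=
    Nat.Coprime.coprime_dvd_left (orderOf_dvd_of_pow_eq_one h1)
      (Nat.Coprime.pow_left n (by decide))
  exact orderOf_dvd_iff_pow_eq_one.1 (h3.dvd_of_dvd_mul_left h2)

theorem el_cube {σ : P9} (hσ : σ ∈ J0) : L.el σ ^ 3 = 1 := by
  rw [← L.el_pow (L.J0_le hσ), (J0_facts hσ).2, L.el_one]

/-- Centralizing is transported by the model. -/
theorem comm_of {σ ρ : P9} (hσ : σ ∈ model k) (hρ : ρ ∈ model k)
    (h : L.el σ * L.el ρ = L.el ρ * L.el σ) : σ * ρ = ρ * σ := (L.commute_el hσ hρ).1 h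

theorem cent_tau [Finite G] (hA : StmtAxis.{u}) (hF : Facts L) :
    centralizer ({L.el τ0} : Set G) ≤ L.e.range := by
  classical
  haveI : Fact (Nat.Prime 3) := ⟨Nat.prime_three⟩
  obtain ⟨hy, hz, hy1, hyτ, hzτ⟩ := plane_facts
  have hτ := tau_mem k
  set C := centralizer ({L.el τ0} : Set G) with hC
  have memC : ∀ {g : G}, g ∈ C ↔ g * L.el τ0 = L.el τ0 * g := mem_centralizer_singleton_iff
  -- the plane centralized by `τ0`
  set EG : Subgroup G := L.J ⊓ C with hEG
  have memE : ∀ {g : G}, g ∈ EG ↔ ∃ σ ∈ J0, σ * τ0 = τ0 * σ ∧ L.el σ = g := by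
    intro g
    constructor
    · rintro ⟨hJ, hc⟩
      obtain ⟨σ, hσ, rfl⟩ := L.mem_J.1 hJ
      exact ⟨σ, hσ, comm_of L (L.J0_le hσ) hτ (memC.1 hc), rfl⟩
    · rintro ⟨σ, hσ, hc, rfl⟩
      exact ⟨L.mem_J.2 ⟨σ, hσ, rfl⟩, memC.2 ((L.commute_el (L.J0_le hσ) hτ).2 hc)⟩
  have formE : ∀ {g : G}, g ∈ EG → ∃ a c : Fin 3, L.el (jv (a, a, c)) = g := by
    intro g hg
    obtain ⟨σ, hσ, hc, rfl⟩ := memE.1 hg
    obtain ⟨a, b, c, rfl⟩ := exists_j3 hσ
    have e : (a, b, c).1 = (a, b, c).2.1 := cent_tau_J (a, b, c) hc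
    simp only at e
    subst e
    exact ⟨a, c, rfl⟩
  have jvE : ∀ a c : Fin 3, L.el (jv (a, a, c)) ∈ EG := fun a c => by
    refine memE.2 ⟨_, (jv_J0 _).1, ?_, rfl⟩
    rw [jv_split]
    exact ((Commute.pow_left (show Commute ANineThree.y τ0 from hyτ) _).mul_left
      (Commute.pow_left (show Commute ANineThree.z3 τ0 from hzτ) _)).eq
  have yE : L.el ANineThree.y ∈ EG := memE.2 ⟨_, hy, hyτ, rfl⟩
  have zE : L.el ANineThree.z3 ∈ EG := memE.2 ⟨_, hz, hzτ, rfl⟩
  set E : Subgroup C := EG.subgroupOf C with hE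
  have hEcard : Nat.card E = 9 := by
    rw [hE, Nat.card_congr (subgroupOfEquivOfLe (inf_le_right : EG ≤ C)).toEquiv]
    let f : Fin 3 × Fin 3 → EG := fun v => ⟨L.el (jv (v.1, v.1, v.2)), jvE v.1 v.2⟩
    have hf : Function.Bijective f := by
      constructor
      · intro v w e
        have := ANineThree.LocalAux.jv_injective
          (L.el_inj (L.J0_le (jv_J0 _).1) (L.J0_le (jv_J0 _).1) (congrArg Subtype.val e))
        simp only [Prod.mk.injEq] at this
        exact Prod.ext this.1 this.2.2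
      · intro g
        obtain ⟨a, c, e⟩ := formE g.2
        exact ⟨(a, c), Subtype.ext e⟩
    rw [← Nat.card_congr (Equiv.ofBijective f hf)]
    simp
  have hE3 : ∀ e ∈ E, e ^ 3 = 1 := fun e he => by
    obtain ⟨σ, hσ, -, h⟩ := memE.1 (mem_subgroupOf.1 he)
    exact Subtype.ext (by rw [SubmonoidClass.coe_pow, ← h, el_cube L hσ]; rfl)
  have hEp : IsPGroup 3 E := fun e => ⟨1, Subtype.ext (by simpa using hE3 e e.2)⟩
  haveI : IsMulCommutative E := ⟨⟨fun a b => by
    obtain ⟨σ, hσ, -, h1⟩ := memE.1 (mem_subgroupOf.1 a.2)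
    obtain ⟨ρ, hρ, -, h2⟩ := memE.1 (mem_subgroupOf.1 b.2)
    refine Subtype.ext (Subtype.ext ?_)
    show ((a : C) : G) * (b : C) = (b : C) * (a : C)
    rw [← h1, ← h2]
    exact (L.commute_el (L.J0_le hσ) (L.J0_le hρ)).2 (J0_comm hσ hρ)⟩⟩
  have hEnc : ¬ IsCyclic E := fun hc => by
    obtain ⟨e, he⟩ := hc.exists_generator
    have h1 : orderOf e = 9 := hEcard ▸ orderOf_eq_card_of_forall_mem_zpowers he
    have h2 : orderOf e ∣ 3 :=
      orderOf_dvd_of_pow_eq_one (Subtype.ext (by simpa using hE3 e e.2))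
    rw [h1] at h2
    norm_num at h2
  -- elements of the range centralizing `τ0` normalize the plane
  have hnor : ∀ g : C, (g : G) ∈ L.e.range → g ∈ normalizer (E : Set C) := by
    intro g hg
    rw [L.range_normalizer] at hg
    refine mem_normalizer_iff.2 fun e => ?_
    show (e : G) ∈ EG ↔ (g : G) * e * (g : G)⁻¹ ∈ EG
    constructor
    · exact fun he => ⟨(mem_normalizer_iff.1 hg e).1 he.1,
        C.mul_mem (C.mul_mem g.2 e.2) (C.inv_mem g.2)⟩
    · exact fun he => ⟨(mem_normalizer_iff.1 hg e).2 he.1, e.2⟩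
  -- centralizers of elements of the plane
  have hone : ∀ a c : Fin 3, jv (a, a, c) ≠ 1 →
      centralizer ({L.el (jv (a, a, c))} : Set G) ≤ L.e.range := by
    intro a c hne
    have hv : (a, a, c) ≠ (0 : Fin 3 × Fin 3 × Fin 3) := fun e =>
      hne (by rw [e]; exact ANineThree.LocalAux.jv_zero)
    have hj := (jv_J0 (a, a, c)).1
    have hx : ANineThree.x ∈ model k := L.x_mem
    rcases line_facts k (a, a, c) hv rfl with h | h | h | ⟨hi, h⟩
    · refine hF.cent_one _ hj hne fun σ hσ hcm => ?_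
      obtain ⟨d, rfl, hd⟩ := of_code hσ
      exact h d hd hcm
    · rw [h]; exact L.cent_el_x
    · rw [h, L.el_inv hx]
      intro g hg
      exact L.cent_el_x (mem_centralizer_singleton_iff.2
        (Commute.inv_right_iff.1 (mem_centralizer_singleton_iff.1 hg)).eq)
    · have ht : t12 ∈ model k := mem_model.2 ⟨t12_facts.1, hi⟩
      intro g hg
      have hg' : L.el t12 * g * (L.el t12)⁻¹ ∈ centralizer ({L.el ANineThree.x} : Set G) := by
        rw [mem_centralizer_singleton_iff]
        have e : Commute (L.el t12 * g * (L.el t12)⁻¹)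
            (L.el (t12 * jv (a, a, c) * t12⁻¹)) := by
          rw [L.el_conj ht (L.J0_le hj)]
          exact Commute.conj_iff _ |>.2 (mem_centralizer_singleton_iff.1 hg)
        rcases h with h | h <;> rw [h] at e
        · exact e.eq
        · rw [L.el_inv hx] at e
          exact (Commute.inv_right_iff.1 e).eq
      have h3 := L.e.range.mul_mem (L.e.range.mul_mem (L.e.range.inv_mem (L.el_mem ht))
        (L.cent_el_x hg')) (L.el_mem ht)
      simpa [mul_assoc] using h3
  have hcentle : ∀ e ∈ E, e ≠ 1 → ∀ g : C, g * e = e * g → (g : G) ∈ L.e.range := by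
    intro e he hne g hg
    obtain ⟨a, c, h⟩ := formE (mem_subgroupOf.1 he)
    refine hone a c (fun e' => hne (Subtype.ext ?_)) (mem_centralizer_singleton_iff.2 ?_)
    · rw [← h, e', L.el_one]; rfl
    · rw [h]; exact congrArg Subtype.val hg
  -- the centralizer of the plane
  set Z : Subgroup C := (zpowers (L.el τ0)).subgroupOf C with hZ
  have τC : L.el τ0 ∈ C := memC.2 rfl
  have hZc : Z ≤ Subgroup.center C := fun w hw => Subgroup.mem_center_iff.2 fun g => by
    obtain ⟨i, hi⟩ := mem_zpowers_iff.1 (mem_subgroupOf.1 hw)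
    refine Subtype.ext ?_
    show (g : G) * w = w * g
    rw [← hi]
    exact ((show Commute (g : G) (L.el τ0) from memC.1 g.2).zpow_right i).eq
  have hτ2 : L.el τ0 * L.el τ0 = 1 := by rw [← L.el_mul hτ hτ, (basic k).2.2.2.1, L.el_one]
  have hZcard : (Nat.card Z).Coprime 3 := by
    rw [hZ, Nat.card_congr (subgroupOfEquivOfLe (zpowers_le.2 τC)).toEquiv, Nat.card_zpowers]
    exact Nat.Coprime.coprime_dvd_left (orderOf_dvd_of_pow_eq_one (n := 2)
      (by rw [pow_two, hτ2])) (by decide)
  have hCE : centralizer (E : Set C) = E ⊔ Z := by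
    refine le_antisymm (fun g hg => ?_) (sup_le ?_ ?_)
    · have hg' : (g : G) ∈ centralizer ({L.el ANineThree.y, L.el ANineThree.z3} : Set G) := by
        rw [mem_centralizer_iff]
        rintro w (rfl | rfl)
        · exact congrArg Subtype.val (mem_centralizer_iff.1 hg ⟨_, yE.2⟩ yE)
        · exact congrArg Subtype.val (mem_centralizer_iff.1 hg ⟨_, zE.2⟩ zE)
      obtain ⟨d, hd, hdm, he⟩ := mem_range' L (hF.cent_two _ hy _ hz hy1 z3_not_mem hg')
      have c1 : mkB d * τ0 = τ0 * mkB d := comm_of L hdm hτ (he ▸ memC.1 g.2)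
      have c2 : mkB d * ANineThree.y = ANineThree.y * mkB d :=
        comm_of L hdm (L.J0_le hy) (he ▸ (mem_centralizer_iff.1 hg' _ (Or.inl rfl)).symm)
      have c3 : mkB d * ANineThree.z3 = ANineThree.z3 * mkB d :=
        comm_of L hdm (L.J0_le hz) (he ▸ (mem_centralizer_iff.1 hg' _ (Or.inr rfl)).symm)
      rcases cent_E d c1 c2 c3 with ⟨hj, -⟩ | ⟨hj, hjc⟩
      · exact mem_sup_left (mem_subgroupOf.2 (memE.2 ⟨_, hj, c1, he⟩))
      · have e1 : g = ⟨L.el (mkB d * τ0), (memE.2 ⟨_, hj, hjc, rfl⟩).2⟩ *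
            ⟨L.el τ0, τC⟩ := Subtype.ext (by
          show (g : G) = L.el (mkB d * τ0) * L.el τ0
          rw [L.el_mul hdm hτ, mul_assoc, hτ2, mul_one, he])
        rw [e1]
        exact mul_mem (mem_sup_left (mem_subgroupOf.2 (memE.2 ⟨_, hj, hjc, rfl⟩)))
          (mem_sup_right (mem_subgroupOf.2 (mem_zpowers _)))
    · intro e he
      refine mem_centralizer_iff.2 fun w hw => ?_
      exact congrArg Subtype.val (mul_comm' (⟨w, hw⟩ : E) ⟨e, he⟩)
    · exact fun w hw => mem_centralizer_iff.2 fun v _ => Subgroup.mem_center_iff.1 (hZc hw) v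
  -- three-elements
  have hsyl : ∃ P : Sylow 3 C, (P : Subgroup C) = E := by
    refine exists_sylow E hEp fun g hg ⟨n, hn⟩ => ?_
    have hgr : ∃ e ∈ E, e ≠ 1 ∧ g * e = e * g := by
      haveI : Fintype E := Fintype.ofFinite _
      let f : Function.End E := fun e => ⟨g * e * g⁻¹, (mem_normalizer_iff.1 hg e).1 e.2⟩
      have hf : ∀ (m : ℕ) (e : E), (((f ^ m : Function.End E) e) : E).1 = g ^ m * e * (g ^ m)⁻¹ := by
        intro m
        induction m with
        | zero => intro e; simp only [pow_zero, one_mul, inv_one, mul_one]; rfl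
        | succ m ih =>
          intro e
          rw [pow_succ]
          refine (ih (f e)).trans ?_
          show g ^ m * (g * e * g⁻¹) * (g ^ m)⁻¹ = _
          rw [pow_succ g]; group
      have hf1 : f ^ 3 ^ n = 1 := by
        funext e
        apply Subtype.ext
        rw [hf, hn]
        simp
        rfl
      have hmod := Equiv.Perm.card_fixedPoints_modEq hf1
      rw [← Nat.card_eq_fintype_card, hEcard] at hmod
      have : 1 < Fintype.card (Function.fixedPoints f) := by
        have hpos : 0 < Fintype.card (Function.fixedPoints f) :=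
          Fintype.card_pos_iff.2 ⟨⟨1, Subtype.ext (by
            show g * ((1 : E) : C) * g⁻¹ = ((1 : E) : C)
            simp)⟩⟩
        unfold Nat.ModEq at hmod
        omega
      obtain ⟨a, b, hab⟩ := Fintype.one_lt_card_iff.1 this
      have key : ∀ a : Function.fixedPoints f, g * (a.1 : C) = (a.1 : C) * g := fun a =>
        mul_inv_eq_iff_eq_mul.1 (congrArg Subtype.val a.2)
      by_cases ha : (a.1 : C) = 1
      · refine ⟨_, b.1.2, fun hb => hab (Subtype.ext (Subtype.ext (ha.trans hb.symm))), key b⟩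
      · exact ⟨_, a.1.2, ha, key a⟩
    obtain ⟨e, he, hne, hge⟩ := hgr
    obtain ⟨d, hd, hdm, hde⟩ := mem_range' L (hcentle e he hne g hge)
    have c1 : mkB d * τ0 = τ0 * mkB d := comm_of L hdm hτ (hde ▸ memC.1 g.2)
    have h9 := pow9_of L hdm (n := n) (by rw [hde]; exact congrArg Subtype.val hn)
    exact mem_subgroupOf.2 (memE.2 ⟨_, three_cent_tau d c1 h9, c1, hde⟩)
  obtain ⟨P, hP⟩ := hsyl
  -- the normalizer of the plane
  have hNE : ∀ g ∈ normalizer (E : Set C), (g : G) ∈ L.e.range := by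
    intro g hg
    rw [L.range_normalizer]
    refine mem_normalizer_fintype fun j hj => ?_
    obtain ⟨σ, hσ, rfl⟩ := L.mem_J.1 hj
    have hin : ∀ w : G, w ∈ EG → (g : G)⁻¹ * w * g ∈ EG := fun w hw => by
      have := (mem_normalizer_iff.1 (inv_mem hg) ⟨w, hw.2⟩).1 hw
      simpa [hE, mem_subgroupOf] using this
    have hjE : ∀ w ∈ EG, L.el σ * w = w * L.el σ := fun w hw => by
      obtain ⟨ρ, hρ, -, rfl⟩ := memE.1 hw
      exact (L.commute_el (L.J0_le hσ) (L.J0_le hρ)).2 (J0_comm hσ hρ)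
    have hcm : ∀ w ∈ EG, ((g : G) * L.el σ * (g : G)⁻¹) * w =
        w * ((g : G) * L.el σ * (g : G)⁻¹) := fun w hw => by
      calc (g : G) * L.el σ * (g : G)⁻¹ * w
          = (g : G) * (L.el σ * ((g : G)⁻¹ * w * g)) * (g : G)⁻¹ := by group
        _ = (g : G) * (((g : G)⁻¹ * w * g) * L.el σ) * (g : G)⁻¹ := by rw [hjE _ (hin w hw)]
        _ = w * ((g : G) * L.el σ * (g : G)⁻¹) := by group
    have hg' : (g : G) * L.el σ * (g : G)⁻¹ ∈
        centralizer ({L.el ANineThree.y, L.el ANineThree.z3} : Set G) := by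
      rw [mem_centralizer_iff]
      rintro w (rfl | rfl)
      · exact (hcm _ yE).symm
      · exact (hcm _ zE).symm
    obtain ⟨d, hd, hdm, he⟩ := mem_range' L (hF.cent_two _ hy _ hz hy1 z3_not_mem hg')
    have h3 : mkB d ^ 3 = 1 := by
      refine L.el_inj (pow_mem hdm _) (one_mem _) ?_
      rw [L.el_pow hdm, he, conj_pow, el_cube L hσ, L.el_one]
      simp
    exact L.mem_J.2 ⟨_, cent_plane d
      (comm_of L hdm (L.J0_le hy) (he ▸ hcm _ yE)) (comm_of L hdm (L.J0_le hz) (he ▸ hcm _ zE)) h3, he⟩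
  have centE_iff : ∀ g : C, (g : G) * L.el ANineThree.y = L.el ANineThree.y * g →
      (g : G) * L.el ANineThree.z3 = L.el ANineThree.z3 * g → g ∈ centralizer (E : Set C) := by
    intro g c1 c2
    refine mem_centralizer_iff.2 fun e he => Subtype.ext ?_
    obtain ⟨a, c, h⟩ := formE (mem_subgroupOf.1 he)
    show (e : G) * g = g * e
    rw [← h, jv_split, L.el_mul (pow_mem (L.J0_le hy) _) (pow_mem (L.J0_le hz) _),
      L.el_pow (L.J0_le hy), L.el_pow (L.J0_le hz)]
    exact (((show Commute (g : G) _ from c1).pow_right _).mul_right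
      ((show Commute (g : G) _ from c2).pow_right _)).eq.symm
  have hNsq : ∀ g ∈ normalizer (E : Set C), g * g ∈ centralizer (E : Set C) := by
    intro g hg
    obtain ⟨d, hd, hdm, he⟩ := mem_range' L (hNE g hg)
    have c1 : mkB d * τ0 = τ0 * mkB d := comm_of L hdm hτ (he ▸ memC.1 g.2)
    obtain ⟨s1, s2⟩ := sq_cent_tau d c1
    refine centE_iff _ ?_ ?_ <;>
      rw [coe_mul, ← he, ← L.el_mul hdm hdm]
    · exact (L.commute_el (mul_mem hdm hdm) (L.J0_le hy)).2 s1
    · exact (L.commute_el (mul_mem hdm hdm) (L.J0_le hz)).2 s2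
  have hindex : ((centralizer (E : Set C)).subgroupOf (normalizer (E : Set C))).index ≤ 4 := by
    let f : normalizer (E : Set C) → Bool × Bool := fun g =>
      (decide (((g : C) : G) * L.el ANineThree.y = L.el ANineThree.y * (g : C)),
        decide (((g : C) : G) * L.el ANineThree.z3 = L.el ANineThree.z3 * (g : C)))
    have hact : ∀ g : normalizer (E : Set C), ∀ w : P9,
        (w = ANineThree.y ∨ w = ANineThree.z3) →
        ((g : C) : G) * L.el w = L.el w * (g : C) ∨
          ((g : C) : G) * L.el w * ((g : C) : G)⁻¹ = (L.el w)⁻¹ := by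
      intro g w hw
      obtain ⟨d, hd, hdm, he⟩ := mem_range' L (hNE g g.2)
      obtain ⟨a1, a2⟩ := act_cent_tau d (comm_of L hdm hτ (he ▸ memC.1 (g : C).2))
      have hwm : w ∈ model k := by
        rcases hw with rfl | rfl
        exacts [L.J0_le hy, L.J0_le hz]
      have ha : mkB d * w = w * mkB d ∨ mkB d * w = w⁻¹ * mkB d := by
        rcases hw with rfl | rfl
        exacts [a1, a2]
      rw [← he]
      rcases ha with h' | h'
      · exact Or.inl ((L.commute_el hdm hwm).2 h')
      · right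
        rw [← L.el_mul hdm hwm, h', L.el_mul (inv_mem hwm) hdm, L.el_inv hwm, mul_inv_cancel_right]
    have hinj : Function.Injective fun q : normalizer (E : Set C) ⧸
        (centralizer (E : Set C)).subgroupOf (normalizer (E : Set C)) => f q.out := by
      intro a b e
      simp only [f, Prod.mk.injEq] at e
      rw [← QuotientGroup.out_eq' a, ← QuotientGroup.out_eq' b, QuotientGroup.eq, mem_subgroupOf]
      obtain ⟨A, hA'⟩ : ∃ A, A = a.out := ⟨_, rfl⟩
      obtain ⟨B', hB'⟩ : ∃ B', B' = b.out := ⟨_, rfl⟩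
      rw [← hA', ← hB'] at e ⊢
      have key : ∀ w : P9, (w = ANineThree.y ∨ w = ANineThree.z3) →
          decide (((A : C) : G) * L.el w = L.el w * (A : C)) =
            decide (((B' : C) : G) * L.el w = L.el w * (B' : C)) →
          Commute (((A : C) : G)⁻¹ * (B' : C)) (L.el w) := by
        intro w hw h
        rw [decide_eq_decide] at h
        by_cases hc : ((A : C) : G) * L.el w = L.el w * (A : C)
        · exact (show Commute ((A : C) : G) (L.el w) from hc).inv_left.mul_left (h.1 hc)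
        · have i1 := (hact A w hw).resolve_left hc
          have i2 := (hact B' w hw).resolve_left fun hb => hc (h.2 hb)
          rw [← i2] at i1
          show _ = _
          calc ((A : C) : G)⁻¹ * (B' : C) * L.el w
              = ((A : C) : G)⁻¹ * ((B' : C) * L.el w * ((B' : C) : G)⁻¹) * (B' : C) := by group
            _ = ((A : C) : G)⁻¹ * ((A : C) * L.el w * ((A : C) : G)⁻¹) * (B' : C) := by rw [i1]
            _ = L.el w * (((A : C) : G)⁻¹ * (B' : C)) := by group
      exact centE_iff _ (key _ (Or.inl rfl) e.1).eq (key _ (Or.inr rfl) e.2).eq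
    have := Nat.card_le_card_of_injective _ hinj
    simpa [Subgroup.index, Nat.card_eq_fintype_card] using this
  have hinv : ∀ W : Subgroup C, (Nat.card W).Coprime 3 → E ≤ normalizer (W : Set C) → W ≤ Z := by
    intro W hW hEW
    have hcop : (Nat.card E).Coprime (Nat.card W) := by
      rw [hEcard, show 9 = 3 ^ 2 from rfl]
      exact Nat.Coprime.pow_left 2 hW.symm
    have htriv : ∀ v, v ∈ E → v ∈ W → v = 1 := fun v hv hv' => orderOf_eq_one_iff.1
      (Nat.eq_one_of_dvd_coprimes hW
        (W.orderOf_mk v hv' ▸ orderOf_dvd_natCard (⟨v, hv'⟩ : W))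
        (orderOf_dvd_of_pow_eq_one (hE3 v hv)))
    refine Coprime.le_of_centralizer_le_of_not_isCyclic hEnc hEW hcop ?_
    rintro e he hne w ⟨hwW, hwe⟩
    have hwn := hnor w (hcentle e he hne w (mem_centralizer_singleton_iff.1 hwe))
    have hwC : w ∈ centralizer (E : Set C) := by
      refine mem_centralizer_iff.2 fun v hv => ?_
      have h1 : w * v * w⁻¹ * v⁻¹ ∈ E := E.mul_mem ((mem_normalizer_iff.1 hwn v).1 hv) (E.inv_mem hv)
      have h2 : w * v * w⁻¹ * v⁻¹ ∈ W := by
        have := W.mul_mem hwW ((mem_normalizer_iff.1 (hEW hv) w⁻¹).1 (W.inv_mem hwW))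
        simpa [mul_assoc] using this
      exact (mul_inv_eq_iff_eq_mul.1 (mul_inv_eq_one.1 (htriv _ h1 h2))).symm
    haveI : Z.Normal := ⟨fun v hv g => by
      rwa [Subgroup.mem_center_iff.1 (hZc hv) g, mul_inv_cancel_right]⟩
    rw [hCE] at hwC
    obtain ⟨v, hv, t, ht, rfl⟩ := Subgroup.mem_sup_of_normal_right.1 hwC
    have ht2 : t * t = 1 := by
      obtain ⟨i, hi⟩ := mem_zpowers_iff.1 (mem_subgroupOf.1 ht)
      refine Subtype.ext ?_
      show (t : G) * t = 1
      rw [← hi, ← (Commute.refl (L.el τ0)).mul_zpow, hτ2, one_zpow]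
    have hsq : v * t * (v * t) = v * v := by
      rw [mul_assoc, ← mul_assoc t, ← Subgroup.mem_center_iff.1 (hZc ht) v, mul_assoc v t, ht2,
        mul_one]
    have h2 := htriv _ (E.mul_mem hv hv) (hsq ▸ W.mul_mem hwW hwW)
    have h3 := hE3 v hv
    rw [pow_succ, pow_two, h2, one_mul] at h3
    rw [h3, one_mul]
    exact ht
  have htop := hA P E Z hP.symm hEcard hE3 hZc hZcard hCE
    (fun e he hne g hg => hnor g (hcentle e he hne g (mem_centralizer_singleton_iff.1 hg)))
    hinv hNsq hindex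
  exact fun g hg => hNE ⟨g, hg⟩ (by rw [htop]; trivial)

/-- the parity of the blocks on the range -/
noncomputable def parHom : L.e.range →* ℤˣ :=
  ({ toFun := fun s => bpar s.1
     map_one' := bpar_one
     map_mul' := fun a b => bpar_mul (model_le k a.2) (model_le k b.2) } : model k →* ℤˣ).comp
    (MonoidHom.ofInjective L.inj).symm.toMonoidHom

theorem parHom_el {σ : P9} (hσ : σ ∈ model k) :
    parHom L ⟨L.el σ, L.el_mem hσ⟩ = bpar σ := by
  have h : (MonoidHom.ofInjective L.inj).symm ⟨L.el σ, L.el_mem hσ⟩ = ⟨σ, hσ⟩ :=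
    (MulEquiv.symm_apply_eq _).2 (Subtype.ext (L.el_eq hσ))
  show bpar ((MonoidHom.ofInjective L.inj).symm ⟨L.el σ, L.el_mem hσ⟩).1 = _
  rw [h]

theorem transfer_term (g : G) (m : ℕ) (hm : g ^ m = 1) {h : G} (hh : h⁻¹ * g ^ m * h ∈ L.e.range) :
    parHom L ⟨h⁻¹ * g ^ m * h, hh⟩ = 1 := by
  rw [show (⟨h⁻¹ * g ^ m * h, hh⟩ : L.e.range) = 1 from Subtype.ext (by simp [hm]), map_one]

/-- a factor `-1` of the transfer at an involution -/
theorem transfer_factor {t : G} (ht : t * t = 1) {q : G ⧸ L.e.range}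
    (hh : q.out⁻¹ * t ^ Function.minimalPeriod (t • ·) q * q.out ∈ L.e.range)
    (h : parHom L ⟨_, hh⟩ ≠ 1) :
    t • q = q ∧ ∃ g : G, (g : G ⧸ L.e.range) = q ∧ ∃ c : Code, mkB c ∈ model k ∧ In k (mkB c) ∧
      mkB c * mkB c = 1 ∧ bpar (mkB c) = -1 ∧ g * L.el (mkB c) = t * g := by
  have ht2 : t ^ 2 = 1 := by rw [pow_two, ht]
  have hper : Function.IsPeriodicPt (t • ·) 2 q := by
    show (t • ·)^[2] q = q
    rw [smul_iterate]
    simp only [ht2, one_smul]
  have hm : Function.minimalPeriod (t • ·) q = 1 ∨ Function.minimalPeriod (t • ·) q = 2 :=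
    (Nat.dvd_prime Nat.prime_two).1 hper.minimalPeriod_dvd
  rcases hm with hm | hm
  swap
  · exact absurd (transfer_term L t _ (by rw [hm, ht2]) hh) h
  have hfix : t • q = q := by
    have := Function.isPeriodicPt_minimalPeriod (t • ·) q
    rw [hm] at this
    exact this
  refine ⟨hfix, q.out, QuotientGroup.out_eq' q, ?_⟩
  obtain ⟨c, hc, hcm, he⟩ := mem_range' L hh
  simp only [hm, pow_one] at he
  refine ⟨c, hcm, hc, L.el_inj (mul_mem hcm hcm) (one_mem _) ?_, ?_, by rw [he]; group⟩
  · rw [L.el_mul hcm hcm, he, L.el_one]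
    calc q.out⁻¹ * t * q.out * (q.out⁻¹ * t * q.out) = q.out⁻¹ * (t * t) * q.out := by group
      _ = 1 := by rw [ht]; group
  · rcases Int.units_eq_one_or (bpar (mkB c)) with e | e
    · refine absurd ?_ h
      rw [← e, ← parHom_el L hcm]
      exact congrArg _ (Subtype.ext (by simp only [hm, pow_one]; exact he.symm))
    · exact e

end SmallAux

attribute [local irreducible] CfsgLib.ANineThree.x CfsgLib.ANineThree.y CfsgLib.ANineThree.z3
  CfsgLib.ANineThree.p τ0 iota SmallAux.uu SmallAux.bb SmallAux.t12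

open SmallAux in
/-- The three small models. -/
theorem small (hF : StmtFacts.{u}) (hA : StmtAxis.{u}) (hT : StmtTwist.{u}) (hE : StmtEven.{u}) :
    StmtSmall.{u} := by
  intro S G _ _ L hS
  classical
  obtain ⟨k, rfl⟩ : ∃ k, S = model k := by
    rcases hS with rfl | rfl | rfl
    exacts [⟨0, rfl⟩, ⟨1, rfl⟩, ⟨2, rfl⟩]
  haveI : Fact (Nat.Prime 3) := ⟨Nat.prime_three⟩
  have hFL : Facts L := hF L (model_le k) (p_mem k)
  have hτ := tau_mem k
  have hcent := cent_tau L hA hFL
  obtain ⟨hbJ, hb1, hb3, hbu, huu, huB, hui, hiB, hii, hip, hi2, hp3, hibp⟩ := bb_facts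
  have hτ2 : L.el τ0 * L.el τ0 = 1 := by rw [← L.el_mul hτ hτ, (basic k).2.2.2.1, L.el_one]
  -- the transfer of the parity of the blocks
  set V := MonoidHom.transfer (parHom L) with hV
  haveI : L.e.range.FiniteIndex := inferInstance
  letI : Fintype (Quotient (MulAction.orbitRel (zpowers (L.el τ0)) (G ⧸ L.e.range))) :=
    Fintype.ofFinite _
  have hVτ : V (L.el τ0) = -1 := by
    rw [hV, MonoidHom.transfer_eq_prod_quotient_orbitRel_zpowers_quot]
    set q0 : Quotient (MulAction.orbitRel (zpowers (L.el τ0)) (G ⧸ L.e.range)) :=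
      Quotient.mk'' ((1 : G) : G ⧸ L.e.range) with hq0
    have hfix : L.el τ0 • ((1 : G) : G ⧸ L.e.range) = ((1 : G) : G ⧸ L.e.range) := by
      rw [MulAction.Quotient.smul_coe, smul_eq_mul, mul_one, QuotientGroup.eq]
      simpa using L.e.range.inv_mem (L.el_mem hτ)
    have horb : q0.out = ((1 : G) : G ⧸ L.e.range) := by
      have h1 : MulAction.orbitRel (zpowers (L.el τ0)) (G ⧸ L.e.range) q0.out
          ((1 : G) : G ⧸ L.e.range) := Quotient.exact' (Quotient.out_eq' q0)
      obtain ⟨⟨w, hw⟩, hw'⟩ := h1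
      rw [← hw']
      have hst : zpowers (L.el τ0) ≤ MulAction.stabilizer G ((1 : G) : G ⧸ L.e.range) :=
        zpowers_le.2 hfix
      exact hst hw
    rw [Finset.prod_eq_single q0]
    · have h1 : q0.out.out ∈ L.e.range := by
        have h2 : ((q0.out.out : G) : G ⧸ L.e.range) = ((1 : G) : G ⧸ L.e.range) :=
          (QuotientGroup.out_eq' _).trans horb
        rw [QuotientGroup.eq, mul_one] at h2
        simpa using L.e.range.inv_mem h2
      have hm : Function.minimalPeriod (L.el τ0 • ·) q0.out = 1 := by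
        rw [horb, Function.minimalPeriod_eq_one_iff_isFixedPt]
        exact hfix
      have e : (⟨q0.out.out⁻¹ * L.el τ0 ^ Function.minimalPeriod (L.el τ0 • ·) q0.out * q0.out.out,
          QuotientGroup.out_conj_pow_minimalPeriod_mem _ _ _⟩ : L.e.range) =
          ⟨q0.out.out, h1⟩⁻¹ * ⟨L.el τ0, L.el_mem hτ⟩ * ⟨q0.out.out, h1⟩ :=
        Subtype.ext (by simp [hm])
      rw [e, map_mul, map_mul, parHom_el L hτ, (basic k).2.2.1, map_inv]
      rw [mul_comm (_⁻¹) (-1 : ℤˣ), inv_mul_cancel_right]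
    · intro q _ hq
      by_contra hne
      obtain ⟨hfq, g, hg, c, hcm, hc, hc2, hcb, he⟩ := transfer_factor L hτ2 _ hne
      rcases invol_class k c hc hc2 hcb with ⟨s, -, hsB, hs, hse⟩ | ⟨rfl, s, -, hsB, hs, hse⟩
      · have hsm : s ∈ model k := mem_model.2 ⟨hsB, hs⟩
        have h1 : g * L.el s ∈ centralizer ({L.el τ0} : Set G) := by
          rw [mem_centralizer_singleton_iff, mul_assoc, ← L.el_mul hsm hτ, hse,
            L.el_mul hcm hsm, ← mul_assoc, he, mul_assoc]
        have h2 : g ∈ L.e.range := by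
          have := L.e.range.mul_mem (hcent h1) (L.e.range.inv_mem (L.el_mem hsm))
          rwa [mul_inv_cancel_right] at this
        refine hq ?_
        rw [hq0, ← Quotient.out_eq' q, ← hg]
        refine congrArg Quotient.mk'' ?_
        rw [QuotientGroup.eq]
        simpa using L.e.range.inv_mem h2
      · have hum : uu ∈ model 1 := mem_model.2 ⟨huB, hui⟩
        have hsm : s ∈ model 1 := mem_model.2 ⟨hsB, hs⟩
        have hbm : bb ∈ model 1 := L.J0_le hbJ
        have e1 : (g * L.el s) * L.el uu = L.el τ0 * (g * L.el s) := by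
          rw [mul_assoc, ← L.el_mul hsm hum, hse, L.el_mul hcm hsm, ← mul_assoc, he, mul_assoc]
        set a := g * L.el s
        have hca : a * L.el bb * a⁻¹ ∈ centralizer ({L.el τ0} : Set G) := by
          rw [mem_centralizer_singleton_iff]
          have e2 : L.el τ0 = a * L.el uu * a⁻¹ := eq_mul_inv_of_mul_eq e1.symm
          rw [e2]
          have e3 : L.el bb * L.el uu = L.el uu * L.el bb := (L.commute_el hbm hum).2 hbu
          calc a * L.el bb * a⁻¹ * (a * L.el uu * a⁻¹) = a * (L.el bb * L.el uu) * a⁻¹ := by group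
            _ = a * (L.el uu * L.el bb) * a⁻¹ := by rw [e3]
            _ = _ := by group
        obtain ⟨d, hd, hdm, hde⟩ := mem_range' L (hcent hca)
        have c1 : mkB d * τ0 = τ0 * mkB d :=
          comm_of L hdm hτ (hde ▸ mem_centralizer_singleton_iff.1 hca)
        have h9 := pow9_of L hdm (n := 1) (by
          rw [hde, pow_one, conj_pow, el_cube L hbJ]; simp)
        have hdJ := three_cent_tau d c1 h9
        obtain ⟨r, hr, hre⟩ := hFL.fusion bb hbJ _ hdJ
          (isConj_iff.2 ⟨a, hde.symm⟩)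
        obtain ⟨r', rfl, hr'⟩ := of_code hr
        exact (bb_off r' hr').1 (by rw [hre]; exact c1)
    · exact fun h => absurd (Finset.mem_univ _) h
  have h9 : ∀ {σ : P9}, σ ∈ model k → σ ^ 9 = 1 → V (L.el σ) = 1 := fun {σ} hσ h => by
    rcases Int.units_eq_one_or (V (L.el σ)) with e | e
    · exact e
    · have h1 := congrArg V (L.el_pow hσ 9)
      rw [h, L.el_one, map_one, map_pow, e] at h1
      exact absurd h1 (by decide)
  -- the image of `iota`
  by_cases hi : k = 1 ∧ V (L.el iota) ≠ 1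
  · obtain ⟨rfl, hVi⟩ := hi
    have him : iota ∈ model 1 := mem_model.2 ⟨hiB, hii⟩
    have hum : uu ∈ model 1 := mem_model.2 ⟨huB, hui⟩
    have hi2' : L.el iota * L.el iota = 1 := by rw [← L.el_mul him him, hi2, L.el_one]
    letI : Fintype (Quotient (MulAction.orbitRel (zpowers (L.el iota)) (G ⧸ L.e.range))) :=
      Fintype.ofFinite _
    rw [hV, MonoidHom.transfer_eq_prod_quotient_orbitRel_zpowers_quot] at hVi
    obtain ⟨q, -, hq⟩ := Finset.exists_ne_one_of_prod_ne_one hVi
    obtain ⟨-, g, -, c, hcm, hc, hc2, hcb, he⟩ := transfer_factor L hi2' _ hq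
    rcases invol_class 1 c hc hc2 hcb with ⟨s, -, hsB, hs, hse⟩ | ⟨-, s, -, hsB, hs, hse⟩
    · have hsm : s ∈ model 1 := mem_model.2 ⟨hsB, hs⟩
      refine hT L (isConj_iff.2 ⟨(g * L.el s)⁻¹, ?_⟩)
      have e1 : g * L.el s * L.el τ0 = L.el iota * (g * L.el s) := by
        rw [mul_assoc, ← L.el_mul hsm hτ, hse, L.el_mul hcm hsm, ← mul_assoc, he, mul_assoc]
      calc (g * L.el s)⁻¹ * L.el iota * (g * L.el s)⁻¹⁻¹
          = (g * L.el s)⁻¹ * (L.el iota * (g * L.el s)) := by group
        _ = L.el τ0 := by rw [← e1, inv_mul_cancel_left]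
    · exfalso
      have hsm : s ∈ model 1 := mem_model.2 ⟨hsB, hs⟩
      have hbm : bb ∈ model 1 := L.J0_le hbJ
      have hpm := p_mem 1
      set a := g * L.el s with ha
      have e1 : a * L.el uu = L.el iota * a := by
        rw [ha, mul_assoc, ← L.el_mul hsm hum, hse, L.el_mul hcm hsm, ← mul_assoc, he, mul_assoc]
      set C := centralizer ({L.el uu} : Set G) with hC
      have hbC : L.el bb ∈ C := mem_centralizer_singleton_iff.2 ((L.commute_el hbm hum).2 hbu)
      have hpC : a⁻¹ * L.el ANineThree.p * a ∈ C := by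
        rw [hC, mem_centralizer_singleton_iff]
        have e3 : L.el ANineThree.p * L.el iota = L.el iota * L.el ANineThree.p :=
          ((L.commute_el him hpm).2 hip).symm
        calc a⁻¹ * L.el ANineThree.p * a * L.el uu
            = a⁻¹ * L.el ANineThree.p * (a * L.el uu) := by group
          _ = a⁻¹ * (L.el ANineThree.p * L.el iota) * a := by rw [e1]; group
          _ = a⁻¹ * (L.el iota * L.el ANineThree.p) * a := by rw [e3]
          _ = a⁻¹ * L.el iota * (L.el ANineThree.p * a) := by group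
          _ = _ := by
              rw [show a⁻¹ * L.el iota = L.el uu * a⁻¹ by
                rw [eq_mul_inv_iff_mul_eq, mul_assoc, ← e1, inv_mul_cancel_left]]
              group
      set P : Subgroup C := zpowers (⟨L.el bb, hbC⟩ : C) with hP
      have hb3' : (⟨L.el bb, hbC⟩ : C) ^ 3 = 1 := Subtype.ext (by
        rw [SubmonoidClass.coe_pow]; exact el_cube L hbJ)
      have hPp : IsPGroup 3 P := fun w => ⟨1, Subtype.ext (by
        obtain ⟨i, hi⟩ := mem_zpowers_iff.1 w.2
        rw [pow_one, SubmonoidClass.coe_pow, ← hi, ← zpow_natCast, ← zpow_mul, mul_comm, zpow_mul,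
          zpow_natCast, hb3', one_zpow]
        rfl)⟩
      have hP3 : ∀ w ∈ P, w = 1 ∨ w = ⟨L.el bb, hbC⟩ ∨ w = ⟨L.el bb, hbC⟩⁻¹ := by
        intro w hw
        obtain ⟨i, rfl⟩ := mem_zpowers_iff.1 hw
        rw [← Int.emod_add_mul_ediv i 3, zpow_add, zpow_mul, show (3 : ℤ) = ((3 : ℕ) : ℤ) from rfl,
          zpow_natCast, hb3', one_zpow, mul_one]
        have h1 : i % 3 = 0 ∨ i % 3 = 1 ∨ i % 3 = 2 := by omega
        rcases h1 with e | e | e <;> rw [show i % ((3 : ℕ) : ℤ) = _ from e]
        · exact Or.inl (zpow_zero _)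
        · exact Or.inr (Or.inl (zpow_one _))
        · refine Or.inr (Or.inr (eq_inv_of_mul_eq_one_left ?_))
          rw [show (2 : ℤ) = ((2 : ℕ) : ℤ) from rfl, zpow_natCast, ← pow_succ, hb3']
      have hcb : centralizer ({L.el bb} : Set G) ≤ L.e.range :=
        hFL.cent_one bb hbJ hb1 fun σ hσ hcm' => by
          obtain ⟨d, rfl, hd⟩ := of_code hσ
          exact bb_stab d hd hcm'
      obtain ⟨T, hT'⟩ := exists_sylow P hPp fun w hw ⟨n, hn⟩ => by
        have hwb : w * ⟨L.el bb, hbC⟩ = ⟨L.el bb, hbC⟩ * w := by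
          have h1 := (mem_normalizer_iff.1 hw ⟨L.el bb, hbC⟩).1 (mem_zpowers _)
          rcases hP3 _ h1 with e | e | e
          · rw [conj_eq_one_iff] at e
            rw [e, mul_one, one_mul]
          · exact mul_inv_eq_iff_eq_mul.1 e
          · exfalso
            set bC : C := ⟨L.el bb, hbC⟩ with hbC'
            have hkey : ∀ m : ℕ, w ^ (2 * m + 1) * bC * (w ^ (2 * m + 1))⁻¹ = bC⁻¹ := by
              intro m
              induction m with
              | zero => simpa using e
              | succ m ih =>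
                have e' : w * bC⁻¹ * w⁻¹ = bC := by rw [← conj_inv, e, inv_inv]
                rw [show 2 * (m + 1) + 1 = (2 * m + 1) + 1 + 1 by ring, pow_succ', pow_succ']
                calc w * (w * w ^ (2 * m + 1)) * bC * (w * (w * w ^ (2 * m + 1)))⁻¹
                    = w * (w * (w ^ (2 * m + 1) * bC * (w ^ (2 * m + 1))⁻¹) * w⁻¹) * w⁻¹ := by group
                  _ = _ := by rw [ih, e', e]
            obtain ⟨m, hm⟩ : Odd (3 ^ n) := Odd.pow (by decide)
            have h2 := hkey m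
            rw [← hm, hn] at h2
            simp only [one_mul, inv_one, mul_one] at h2
            have h3 : bC * bC = 1 := by nth_rewrite 1 [h2]; exact inv_mul_cancel _
            have h4 : bC = 1 := by
              have := hb3'
              rwa [pow_succ, pow_two, h3, one_mul] at this
            exact hb1 (L.el_inj hbm (one_mem _) ((congrArg Subtype.val h4).trans L.el_one.symm))
        obtain ⟨d, hd, hdm, hde⟩ := mem_range' L (hcb
          (mem_centralizer_singleton_iff.2 (congrArg Subtype.val hwb)))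
        have c1 := comm_of L hdm hum (hde ▸ mem_centralizer_singleton_iff.1 w.2)
        have c2 := comm_of L hdm hbm (hde ▸ congrArg Subtype.val hwb)
        rcases cent_bb_uu d hd c1 c2 (pow9_of L hdm (n := n)
          (by rw [hde]; exact congrArg Subtype.val hn)) with e | e | e <;> rw [e] at hde
        · rw [show w = 1 from Subtype.ext (hde.symm.trans L.el_one)]; exact one_mem _
        · rw [show w = ⟨L.el bb, hbC⟩ from Subtype.ext hde.symm]; exact mem_zpowers _
        · rw [show w = ⟨L.el bb, hbC⟩⁻¹ from Subtype.ext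
            (by rw [← hde, L.el_inv hbm]; rfl)]
          exact inv_mem (mem_zpowers _)
      set pC : C := ⟨_, hpC⟩ with hpC'
      have hpp : IsPGroup 3 (zpowers pC) := fun w => ⟨1, Subtype.ext (by
        obtain ⟨i, hi⟩ := mem_zpowers_iff.1 w.2
        rw [pow_one, SubmonoidClass.coe_pow, ← hi, ← zpow_natCast, ← zpow_mul, mul_comm, zpow_mul,
          zpow_natCast, show pC ^ 3 = 1 from Subtype.ext (by
            show (a⁻¹ * L.el ANineThree.p * a) ^ 3 = 1
            have := conj_pow (a := a⁻¹) (b := L.el ANineThree.p) (i := 3)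
            rw [inv_inv] at this
            rw [this, ← L.el_pow hpm, hp3, L.el_one]; simp), one_zpow]
        rfl)⟩
      obtain ⟨T', hT''⟩ := hpp.exists_le_sylow
      obtain ⟨r, hr⟩ := MulAction.exists_smul_eq C T T'
      have hin : pC ∈ ((r • T : Sylow 3 C) : Subgroup C) := hr ▸ hT'' (mem_zpowers _)
      rw [Sylow.coe_subgroup_smul, hT', Subgroup.mem_smul_pointwise_iff_exists] at hin
      obtain ⟨w, hw, hwe⟩ := hin
      rw [MulAut.smul_def, MulAut.conj_apply] at hwe
      have hp1 : L.el ANineThree.p ≠ 1 := fun e => by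
        have := L.el_inj hpm (one_mem _) (e.trans L.el_one.symm)
        exact absurd this (by decide +kernel)
      have hconj : ∀ j ∈ J0, (w : G) = L.el j →
          SConj (model 1) j ANineThree.x ∨ SConj (model 1) j ANineThree.x⁻¹ := by
        intro j hj hwj
        refine hFL.p_conj j hj (isConj_iff.2 ⟨(a * (r : G))⁻¹, ?_⟩)
        have h1 : (r : G) * w * (r : G)⁻¹ = a⁻¹ * L.el ANineThree.p * a := congrArg Subtype.val hwe
        rw [← hwj]
        calc (a * (r : G))⁻¹ * L.el ANineThree.p * (a * (r : G))⁻¹⁻¹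
            = (r : G)⁻¹ * (a⁻¹ * L.el ANineThree.p * a) * r := by group
          _ = (w : G) := by rw [← h1]; group
      rcases hP3 w hw with e | e | e
      · rw [e, mul_one, mul_inv_cancel] at hwe
        have h1 : a⁻¹ * L.el ANineThree.p * a = 1 := (congrArg Subtype.val hwe).symm
        refine hp1 ?_
        calc L.el ANineThree.p = a * (a⁻¹ * L.el ANineThree.p * a) * a⁻¹ := by group
          _ = 1 := by rw [h1]; group
      · rcases hconj bb hbJ (congrArg Subtype.val e) with ⟨v, hv, hve⟩ | ⟨v, hv, hve⟩ <;>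
          obtain ⟨v', rfl, hv'⟩ := of_code hv
        · exact (bb_off v' hv').2.1 hve
        · exact (bb_off v' hv').2.2.1 hve
      · have hwj : (w : G) = L.el bb⁻¹ := by rw [L.el_inv hbm, e]; rfl
        rcases hconj bb⁻¹ (inv_mem hbJ) hwj with ⟨v, hv, hve⟩ | ⟨v, hv, hve⟩ <;>
          obtain ⟨v', rfl, hv'⟩ := of_code hv
        · exact (bb_off v' hv').2.2.2.1 hve
        · exact (bb_off v' hv').2.2.2.2 hve
  -- the transfer restricts to the parity of the blocks
  have hVt : k = 2 → V (L.el t12) = 1 := by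
    rintro rfl
    obtain ⟨-, -, hsB, hs, e⟩ := t12_facts
    have hsm : (swap 0 1 * swap 6 7 : P9) ∈ model 2 := mem_model.2 ⟨hsB, hs⟩
    rw [e, L.el_mul hτ (mul_mem (mul_mem hsm hτ) (inv_mem hsm)), L.el_conj hsm hτ, map_mul,
      map_mul, map_mul, map_inv, hVτ]
    rw [mul_comm (V _) (-1 : ℤˣ), mul_inv_cancel_right]
    decide
  have hVr : ∀ r ∈ reps k, r ∈ model k → V (L.el r) = 1 := by
    intro r hr hrm
    have hpm := p_mem k
    have hone : V (L.el 1) = 1 := by rw [L.el_one, map_one]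
    have hconj : ∀ σ : P9, σ ∈ model k →
        V (L.el (ANineThree.p * σ * ANineThree.p⁻¹)) = V (L.el σ) := fun σ hσ => by
      rw [L.el_conj hpm hσ, map_mul, map_mul, map_inv, mul_comm (V (L.el ANineThree.p)),
        mul_inv_cancel_right]
    unfold reps at hr
    split_ifs at hr with h0 h1 <;> simp only [List.mem_cons, List.not_mem_nil, or_false] at hr
    · rw [hr]; exact hone
    · rcases hr with rfl | rfl
      · exact hone
      · exact by_contra fun h => hi ⟨h1, h⟩
    · have h2 : k = 2 := by omega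
      have htm : t12 ∈ model k := mem_model.2 ⟨t12_facts.1, h2 ▸ t12_facts.2.1⟩
      have hm2 : ANineThree.p * t12 * ANineThree.p⁻¹ ∈ model k :=
        mul_mem (mul_mem hpm htm) (inv_mem hpm)
      rcases hr with rfl | rfl | rfl | rfl
      · exact hone
      · exact hVt h2
      · rw [hconj _ htm, hVt h2]
      · rw [hconj _ hm2, hconj _ htm, hVt h2]
  have hVS : ∀ {σ : P9}, σ ∈ model k → bpar σ = 1 → V (L.el σ) = 1 := by
    intro σ hσ hb
    obtain ⟨c, rfl, hc⟩ := of_code hσ
    obtain ⟨r, hr, hrB, hrI, hr2, h⟩ := even_decomp k c hc hb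
    have hrm : r ∈ model k := mem_model.2 ⟨hrB, hrI⟩
    have h1 := h9 (mul_mem hσ hrm) h
    rwa [L.el_mul hσ hrm, map_mul, hVr r hr hrm, mul_one] at h1
  have hVS' : ∀ {σ : P9}, σ ∈ model k → V (L.el σ) = bpar σ := by
    intro σ hσ
    rcases Int.units_eq_one_or (bpar σ) with e | e
    · rw [e]; exact hVS hσ e
    · have h1 := hVS (mul_mem hσ hτ)
        (by rw [bpar_mul (model_le k hσ) (model_le k hτ), e, (basic k).2.2.1]; decide)
      rw [L.el_mul hσ hτ, map_mul, hVτ] at h1
      rw [e]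
      rcases Int.units_eq_one_or (V (L.el σ)) with e' | e'
      · rw [e'] at h1; exact absurd h1 (by decide)
      · exact e'
  -- the kernel
  have hJK : L.J ≤ V.ker := fun g hg => by
    obtain ⟨σ, hσ, rfl⟩ := L.mem_J.1 hg
    exact h9 (L.J0_le hσ) ((pow_mul σ 3 3).trans (by rw [(J0_facts hσ).2, one_pow]))
  have hS' : ∀ σ : P9, σ ∈ model k ⊓ Bev ↔ σ ∈ model k ∧ L.el σ ∈ V.ker := fun σ => by
    refine ⟨fun h => ⟨h.1, hVS h.1 (mem_Bev.1 h.2).2⟩, fun h => ⟨h.1, mem_Bev.2 ⟨model_le k h.1, ?_⟩⟩⟩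
    rw [← hVS' h.1]; exact h.2
  set L' := L.restrict V.ker (model k ⊓ Bev) hJK hS' with hL'
  have hmem : ∀ w : V.ker, w ∈ L'.J ↔ (w : G) ∈ L.J := by
    intro w
    constructor
    · intro hw
      obtain ⟨σ, hσ, rfl⟩ := L'.mem_J.1 hw
      rw [L.restrict_el _ _ hJK hS' (L'.J0_le hσ)]
      exact L.mem_J.2 ⟨σ, hσ, rfl⟩
    · intro hw
      obtain ⟨σ, hσ, e⟩ := L.mem_J.1 hw
      refine L'.mem_J.2 ⟨σ, hσ, Subtype.ext ?_⟩
      rw [L.restrict_el _ _ hJK hS' (L'.J0_le hσ), e]
  have hn : L'.J.Normal := hE L' (by fin_cases k <;> simp [model])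
  refine hFL.normal_of_normal V.ker inferInstance hJK fun w hw j hj => ?_
  exact (hmem (⟨w, hw⟩ * ⟨j, hJK hj⟩ * ⟨w, hw⟩⁻¹)).1
    (hn.conj_mem _ ((hmem ⟨j, hJK hj⟩).2 hj) _)

end CfsgLib.SNineThree
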