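import Cfsg.Agent.Lib.SNineThree.Interface
import Cfsg.Agent.Lib.SNineThree.Model0
import Cfsg.Agent.Lib.ANineThree.LocalModel

/-!
Facts on the three small models, checked over the 1296 elements preserving the blocks.
-/

set_option autoImplicit false
set_option maxRecDepth 100000
set_option synthInstance.maxSize 2000
set_option synthInstance.maxHeartbeats 200000

namespace CfsgLib.SNineThree.SmallAux

open Equiv Subgroup
open CfsgLib.ANineThree (P9)
open CfsgLib.ANineThree.LocalAux (Code mkB mkB_blocks mkB_apply e9 jv)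

theorem mkB_mem (c : Code) : mkB c ∈ B := mem_B.2 (mkB_blocks c)

theorem exists_codeB {σ : P9} (h : σ ∈ B) : ∃ c, mkB c = σ := by
  obtain ⟨g, hg⟩ : ∃ g : Fin 3 → Fin 3 → Fin 3 × Fin 3,
      g = fun i j => e9.symm (σ (e9 (i, j))) := ⟨_, rfl⟩
  have hgσ : ∀ i j, e9 (g i j) = σ (e9 (i, j)) := fun i j => by
    rw [hg]; exact Equiv.apply_symm_apply _ _
  have key : ∀ u : Fin 3 × Fin 3, (e9 u : Fin 9).1 / 3 = u.1.1 := by decide +kernel
  have hblk : ∀ i j i' j', (g i j).1 = (g i' j').1 ↔ i = i' := fun i j i' j' => by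
    have := (mem_B.1 h) (e9 (i, j)) (e9 (i', j'))
    rw [← hgσ, ← hgσ, key, key, key, key, ← Fin.ext_iff, ← Fin.ext_iff] at this
    exact this
  have hπ : Function.Bijective fun i => (g i 0).1 :=
    (Finite.injective_iff_bijective).1 fun a b e => (hblk a 0 b 0).1 e
  have hf : ∀ i, Function.Bijective fun j => (g i j).2 := fun i =>
    (Finite.injective_iff_bijective).1 fun a b e => by
      have e' : g i a = g i b := Prod.ext ((hblk i a i b).2 rfl) e
      have := congrArg e9 e'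
      rw [hgσ, hgσ] at this
      exact congrArg Prod.snd (e9.injective (σ.injective this))
  refine ⟨(ofBijective _ hπ, ofBijective _ (hf 0), ofBijective _ (hf 1), ofBijective _ (hf 2)),
    Equiv.ext fun k => ?_⟩
  obtain ⟨⟨i, j⟩, rfl⟩ := e9.surjective k
  rw [mkB_apply, ← hgσ]
  refine congrArg _ (Prod.ext ((hblk i 0 i j).2 rfl) ?_)
  fin_cases i <;> rfl

/-- The three small models. -/
def model : Fin 3 → Subgroup P9 := ![S1, S2, S4]

/-- The condition cutting out a small model inside `B`. -/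
def In (k : Fin 3) (σ : P9) : Prop :=
  if k = 0 then σ * ANineThree.x = ANineThree.x * σ
  else if k = 1 then
    σ * ANineThree.x = ANineThree.x * σ ∨ σ * ANineThree.x = ANineThree.x⁻¹ * σ
  else Perm.sign σ = bpar σ

instance (k : Fin 3) (σ : P9) : Decidable (In k σ) := by unfold In; infer_instance

theorem mem_S2 {σ : P9} : σ ∈ S2 ↔ σ ∈ B ∧
    (σ * ANineThree.x = ANineThree.x * σ ∨ σ * ANineThree.x = ANineThree.x⁻¹ * σ) := by
  have h3 : ANineThree.x ^ 3 = 1 := by decide +kernel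
  have hx : ∀ w ∈ zpowers ANineThree.x,
      w = 1 ∨ w = ANineThree.x ∨ w = ANineThree.x⁻¹ := by
    intro w hw
    obtain ⟨n, rfl⟩ := mem_zpowers_iff.1 hw
    rw [← Int.emod_add_mul_ediv n 3, zpow_add, zpow_mul,
      show ANineThree.x ^ (3 : ℤ) = 1 by exact_mod_cast h3, one_zpow, mul_one]
    have h1 : n % 3 = 0 ∨ n % 3 = 1 ∨ n % 3 = 2 := by omega
    rcases h1 with e | e | e <;> rw [e]
    · exact Or.inl (zpow_zero _)
    · exact Or.inr (Or.inl (zpow_one _))
    · exact Or.inr (Or.inr (by decide +kernel))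
  constructor
  · rintro ⟨hB, hn⟩
    refine ⟨hB, ?_⟩
    have h1 := (mem_normalizer_iff.1 hn ANineThree.x).1 (mem_zpowers _)
    rcases hx _ h1 with e | e | e
    · exact absurd e (by
        rw [conj_eq_one_iff]; decide +kernel)
    · exact Or.inl (mul_inv_eq_iff_eq_mul.1 e)
    · exact Or.inr (mul_inv_eq_iff_eq_mul.1 e)
  · rintro ⟨hB, h⟩
    refine ⟨hB, ?_⟩
    have h1 : σ * ANineThree.x * σ⁻¹ ∈ zpowers ANineThree.x := by
      rcases h with e | e <;> rw [e, mul_inv_cancel_right]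
      · exact mem_zpowers _
      · exact inv_mem (mem_zpowers _)
    refine mem_normalizer_iff.2 fun w => ?_
    constructor
    · intro hw
      rcases hx w hw with rfl | rfl | rfl
      · simp
      · exact h1
      · have := inv_mem h1
        simpa [mul_assoc] using this
    · intro hw
      have h2 : σ⁻¹ * ANineThree.x * σ ∈ zpowers ANineThree.x := by
        rcases h with e | e
        · rw [mul_assoc, ← e, inv_mul_cancel_left]; exact mem_zpowers _
        · have e3 : σ⁻¹ * ANineThree.x⁻¹ * σ = ANineThree.x := by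
            rw [mul_assoc, ← e, inv_mul_cancel_left]
          have e4 := congrArg (·⁻¹) e3
          simp only [mul_inv_rev, inv_inv, ← mul_assoc] at e4
          rw [e4]; exact inv_mem (mem_zpowers _)
      obtain ⟨n, hn⟩ := mem_zpowers_iff.1 hw
      have e5 : w = (σ⁻¹ * ANineThree.x * σ⁻¹⁻¹) ^ n := by
        rw [conj_zpow, hn]; group
      rw [e5, inv_inv]
      exact zpow_mem h2 n

theorem mem_model {k : Fin 3} {σ : P9} : σ ∈ model k ↔ σ ∈ B ∧ In k σ := by
  fin_cases k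
  · exact mem_S1
  · exact mem_S2
  · exact mem_S4

theorem of_code {k : Fin 3} {σ : P9} (h : σ ∈ model k) : ∃ c, mkB c = σ ∧ In k (mkB c) := by
  obtain ⟨c, rfl⟩ := exists_codeB (mem_model.1 h).1
  exact ⟨c, rfl, (mem_model.1 h).2⟩

/-- `(1, -1, 0)` in coordinates. -/
def bb : P9 := jv (1, 2, 0)

/-- `τ0 * iota` -/
def uu : P9 := τ0 * iota

/-- `(0 1)(3 4)` -/
def t12 : P9 := swap 0 1 * swap 3 4

theorem basic : ∀ k, In k τ0 ∧ In k ANineThree.p ∧
    bpar τ0 = -1 ∧ τ0 * τ0 = 1 ∧ τ0 ∈ B ∧ ANineThree.p ∈ B := by decide +kernel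

theorem cent_E : ∀ c : Code, mkB c * τ0 = τ0 * mkB c →
    mkB c * ANineThree.y = ANineThree.y * mkB c → mkB c * ANineThree.z3 = ANineThree.z3 * mkB c →
    (mkB c ∈ J0 ∧ mkB c * τ0 = τ0 * mkB c) ∨
      (mkB c * τ0 ∈ J0 ∧ mkB c * τ0 * τ0 = τ0 * (mkB c * τ0)) := by decide +kernel

theorem cent_plane : ∀ c : Code, mkB c * ANineThree.y = ANineThree.y * mkB c →
    mkB c * ANineThree.z3 = ANineThree.z3 * mkB c → mkB c ^ 3 = 1 → mkB c ∈ J0 := by decide +kernel

theorem three_cent_tau : ∀ c : Code, mkB c * τ0 = τ0 * mkB c → mkB c ^ 9 = 1 → mkB c ∈ J0 := by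
  decide +kernel

theorem sq_cent_tau : ∀ c : Code, mkB c * τ0 = τ0 * mkB c →
    mkB c * mkB c * ANineThree.y = ANineThree.y * (mkB c * mkB c) ∧
      mkB c * mkB c * ANineThree.z3 = ANineThree.z3 * (mkB c * mkB c) := by decide +kernel

theorem act_cent_tau : ∀ c : Code, mkB c * τ0 = τ0 * mkB c →
    (mkB c * ANineThree.y = ANineThree.y * mkB c ∨
      mkB c * ANineThree.y = ANineThree.y⁻¹ * mkB c) ∧
    (mkB c * ANineThree.z3 = ANineThree.z3 * mkB c ∨
      mkB c * ANineThree.z3 = ANineThree.z3⁻¹ * mkB c) := by decide +kernel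

theorem cent_tau_J : ∀ v : Fin 3 × Fin 3 × Fin 3, jv v * τ0 = τ0 * jv v → v.1 = v.2.1 := by
  decide +kernel

theorem jv_J0 : ∀ v, jv v ∈ J0 ∧ jv v ∈ B := by decide +kernel

/-- conjugators -/
def conjs : List P9 :=
  [1, ANineThree.p, ANineThree.p ^ 2].flatMap fun a =>
    ([0, 1, 2].flatMap fun j : Fin 3 => [0, 1, 2].map fun l : Fin 3 => a * jv (0, j, l)) ++
      [0, 1, 2].map fun j : Fin 3 => a * (swap 0 1 * swap 6 7) * jv (0, j, 0)

theorem bb_facts : bb ∈ J0 ∧ bb ≠ 1 ∧ bb ^ 3 = 1 ∧ bb * uu = uu * bb ∧ uu * uu = 1 ∧ uu ∈ B ∧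
    In 1 uu ∧ iota ∈ B ∧ In 1 iota ∧ iota * ANineThree.p = ANineThree.p * iota ∧
    iota * iota = 1 ∧ ANineThree.p ^ 3 = 1 ∧ bpar iota = 1 := by decide +kernel

theorem bb_stab : ∀ c : Code, In 1 (mkB c) → mkB c * bb = bb * mkB c → mkB c * mkB c ∈ J0 := by
  decide +kernel

theorem bb_off_aux : ∀ c : Code, In 1 (mkB c) →
    mkB c * bb * (mkB c)⁻¹ * τ0 ≠ τ0 * (mkB c * bb * (mkB c)⁻¹) ∧
      mkB c * bb * (mkB c)⁻¹ ≠ ANineThree.x ∧ mkB c * bb * (mkB c)⁻¹ ≠ ANineThree.x⁻¹ := by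
  decide +kernel

theorem bb_off (c : Code) (h : In 1 (mkB c)) :
    mkB c * bb * (mkB c)⁻¹ * τ0 ≠ τ0 * (mkB c * bb * (mkB c)⁻¹) ∧
      mkB c * bb * (mkB c)⁻¹ ≠ ANineThree.x ∧ mkB c * bb * (mkB c)⁻¹ ≠ ANineThree.x⁻¹ ∧
      mkB c * bb⁻¹ * (mkB c)⁻¹ ≠ ANineThree.x ∧ mkB c * bb⁻¹ * (mkB c)⁻¹ ≠ ANineThree.x⁻¹ := by
  obtain ⟨h1, h2, h3⟩ := bb_off_aux c h
  refine ⟨h1, h2, h3, fun e => h3 ?_, fun e => h2 ?_⟩ <;>
    (rw [← conj_inv] at e; first | exact inv_eq_iff_eq_inv.1 e | exact inv_inj.1 e)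

theorem cent_bb_uu : ∀ c : Code, In 1 (mkB c) → mkB c * uu = uu * mkB c →
    mkB c * bb = bb * mkB c → mkB c ^ 9 = 1 → mkB c = 1 ∨ mkB c = bb ∨ mkB c = bb⁻¹ := by
  decide +kernel

/-- representatives of the even part modulo the three-elements -/
def reps (k : Fin 3) : List P9 :=
  if k = 0 then [1] else if k = 1 then [1, iota] else
    [1, t12, ANineThree.p * t12 * ANineThree.p⁻¹,
      ANineThree.p * (ANineThree.p * t12 * ANineThree.p⁻¹) * ANineThree.p⁻¹]

theorem t12_facts : t12 ∈ B ∧ In 2 t12 ∧ swap 0 1 * swap 6 7 ∈ B ∧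
    In 2 (swap 0 1 * swap 6 7 : P9) ∧
    t12 = τ0 * ((swap 0 1 * swap 6 7) * τ0 * (swap 0 1 * swap 6 7 : P9)⁻¹) := by decide +kernel

end CfsgLib.SNineThree.SmallAux
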