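import Cfsg.Agent.Lib.SNineThree.Interface
import Cfsg.Agent.Lib.CharsMore.SCOrder3.Main
import Cfsg.Agent.Lib.CharsMore.NineTI.Klein.Main
import Cfsg.Agent.Lib.Base.Transport
import Cfsg.Agent.Lib.Small.Order168

/-!
# A self-centralizing subgroup of order three, and Sylow three-subgroups of order nine

In a normal subgroup with a self-centralizing subgroup of order three, a simple quotient of order
`60` or `168` has two Sylow subgroups fixed by the operating three-group, hence a subgroup of
index three.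
-/

set_option autoImplicit false
set_option linter.style.haveILetI false

open Subgroup

namespace CfsgLib.SNineThree

universe u

section simple

variable {Q : Type*} [Group Q] [Finite Q] [IsSimpleGroup Q]

/-- The relevant prime, exponent and cofactor for the two orders. -/
private def ToolCase (Q : Type*) (r a : ℕ) : Prop :=
  (Nat.card Q = 60 ∧ r = 2 ∧ a = 2) ∨ (Nat.card Q = 168 ∧ r = 7 ∧ a = 1)

private theorem card_sylow_two_of_sixty (h : Nat.card Q = 60) : Nat.card (Sylow 2 Q) = 5 := by
  have hQ : ¬ IsMulCommutative Q :=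
    Small.not_isMulCommutative_of_card (by rw [h]; norm_num)
  haveI := Fact.mk Nat.prime_two
  obtain ⟨P⟩ := (inferInstance : Nonempty (Sylow 2 Q))
  have hd := Small.card_sylow_dvd (p := 2) (G := Q) 2 15 (by omega) (by norm_num)
  have h5 := Small.five_le_index hQ (Small.sylow_normalizer_ne_top hQ (p := 2) (by omega) P)
  rw [← Small.card_sylow_eq_index] at h5
  have hle := Nat.le_of_dvd (by norm_num) hd
  rcases (show ∀ n < 16, n ∣ 15 → 5 ≤ n → n = 5 ∨ n = 15 by decide) _ (by omega) hd h5 with e | e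
  · exact e
  exfalso
  have hP : Nat.card (P : Subgroup Q) = 4 := by
    simpa using Small.card_sylow_eq (p := 2) 2 15 (by omega) (by omega) P
  have hN := Small.card_normalizer_mul P
  rw [e, h] at hN
  have hNP : normalizer ((P : Subgroup Q) : Set Q) = (P : Subgroup Q) :=
    (eq_of_le_of_card_ge le_normalizer (by omega)).symm
  haveI : IsMulCommutative (P : Subgroup Q) :=
    IsPGroup.isMulCommutative_of_card_eq_prime_sq (p := 2) (by rw [hP]; norm_num)
  exact Small.not_normalizer_le_centralizer hQ (p := 2) (by omega) P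
    (hNP.le.trans (le_centralizer (P : Subgroup Q)))

private theorem card_sylow_mod_three {r a : ℕ} [Fact r.Prime] (hc : ToolCase Q r a) :
    Nat.card (Sylow r Q) % 3 = 2 := by
  rcases hc with ⟨h, rfl, rfl⟩ | ⟨h, rfl, rfl⟩
  · rw [card_sylow_two_of_sixty h]
  · rw [Small.n7 h]

/-- A subgroup of order prime to three contains at most one of these Sylow subgroups. -/
private theorem sylow_eq_of_le_tool {r a : ℕ} [Fact r.Prime] (hc : ToolCase Q r a) {D : Subgroup Q}
    (hD : ¬ 3 ∣ Nat.card D) {P1 P2 : Sylow r Q} (h1 : (P1 : Subgroup Q) ≤ D)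
    (h2 : (P2 : Subgroup Q) ≤ D) : P1 = P2 := by
  have hQ : ¬ IsMulCommutative Q := Small.not_isMulCommutative_of_card (by
    rcases hc with ⟨h, -⟩ | ⟨h, -⟩ <;> rw [h] <;> norm_num)
  have hDt : D ≠ ⊤ := fun e => hD (by
    rw [e, card_top]; rcases hc with ⟨h, -⟩ | ⟨h, -⟩ <;> rw [h] <;> norm_num)
  have hi := Small.five_le_index hQ hDt
  have hmul := D.index_mul_card
  have hle : 5 * Nat.card D ≤ Nat.card Q := hmul ▸ Nat.mul_le_mul_right _ hi
  have hdvd : Nat.card D ∣ Nat.card Q := card_subgroup_dvd_card D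
  have hP : Nat.card (P1 : Subgroup Q) = r ^ a := by
    rcases hc with ⟨h, rfl, rfl⟩ | ⟨h, rfl, rfl⟩
    · exact Small.card_sylow_eq 2 15 (by omega) (by omega) P1
    · exact Small.card_sylow_eq 1 24 (by omega) (by omega) P1
  have hPD : r ^ a ∣ Nat.card D := hP ▸ card_dvd_of_le h1
  obtain ⟨m, hm⟩ := hPD
  have h1' : Nat.card (Sylow r D) = 1 := by
    have hmod : Nat.card (Sylow r D) % r = 1 % r := card_sylow_modEq_one r D
    rcases hc with ⟨h, rfl, rfl⟩ | ⟨h, rfl, rfl⟩
    · rw [h] at hle hdvd
      have hm1 : m = 1 := by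
        have : m ≤ 3 := by omega
        rcases (show m = 0 ∨ m = 1 ∨ m = 2 ∨ m = 3 by omega) with e | e | e | e <;> subst e
        · have := Nat.card_pos (α := D); omega
        · rfl
        · rw [hm] at hdvd; norm_num at hdvd
        · exact absurd ⟨4, by omega⟩ hD
      have := Small.card_sylow_dvd (p := 2) (G := D) 2 1 (by omega) (by norm_num)
      exact Nat.dvd_one.1 this
    · rw [h] at hle hdvd
      have hm2 : m ≤ 4 := by omega
      have hm3 : ¬ 7 ∣ m := by
        intro hd
        rcases Nat.eq_zero_or_pos m with e | e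
        · subst e; have := Nat.card_pos (α := D); omega
        · have := Nat.le_of_dvd e hd; omega
      have hd := Small.card_sylow_dvd (p := 7) (G := D) 1 m hm hm3
      have hm0 : 0 < m := Nat.pos_of_ne_zero fun e => by
        subst e; have := Nat.card_pos (α := D); omega
      have := Nat.le_of_dvd hm0 hd
      omega
  haveI : Subsingleton (Sylow r D) := (Nat.card_eq_one_iff_unique.1 h1').1
  refine Sylow.ext ?_
  have := congrArg (fun S : Sylow r D => (S : Subgroup D).map D.subtype)
    (Subsingleton.elim (P1.subtype h1) (P2.subtype h2))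
  simpa only [Sylow.coe_subtype, subgroupOf_map_subtype, inf_eq_left.2 h1, inf_eq_left.2 h2]
    using this

end simple

/-- A normal subgroup with a self-centralizing subgroup of order three, under a three-group. -/
theorem self_three : StmtSelfThree.{u} := by
  intro G _ _ M E X W0 hE hEM hXM hX hcent hW0 hmax
  haveI := Fact.mk Nat.prime_three
  haveI : IsCyclic X := isCyclic_of_prime_card hX
  obtain ⟨⟨x, hxX⟩, hgen⟩ := IsCyclic.exists_generator (α := X)
  have hord : orderOf x = 3 := by
    rw [← hX, ← orderOf_eq_card_of_forall_mem_zpowers hgen, Subgroup.orderOf_mk]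
  have hXz : zpowers x = X := eq_of_le_of_card_ge (zpowers_le.2 hxX)
    (by rw [hX, Nat.card_zpowers, hord])
  let xm : M := ⟨x, hXM hxX⟩
  have hSC : CharsMore.SCOrder3.SC xm := by
    refine ⟨by rw [Subgroup.orderOf_mk, hord], fun g hg => ?_⟩
    have hgx : Commute (g : G) x := congrArg Subtype.val hg.eq
    have hgX : (g : G) ∈ zpowers x := by
      rw [hXz, ← hcent]
      refine ⟨mem_centralizer_iff.2 fun y hy => ?_, g.2⟩
      rw [← hXz] at hy
      obtain ⟨i, rfl⟩ := mem_zpowers_iff.1 hy
      exact (hgx.zpow_right i).eq.symm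
    obtain ⟨i, hi⟩ := mem_zpowers_iff.1 hgX
    rw [← zpow_mod_orderOf, hord] at hi
    rcases (show i % 3 = 0 ∨ i % 3 = 1 ∨ i % 3 = 2 by omega) with e | e | e <;>
      (push_cast at hi; rw [e] at hi)
    · exact Or.inl (Subtype.ext (by rw [← hi, zpow_zero]; rfl))
    · exact Or.inr (Or.inl (Subtype.ext (by rw [← hi, zpow_one])))
    · refine Or.inr (Or.inr (Subtype.ext ?_))
      rw [← hi]
      exact zpow_natCast x 2
  obtain ⟨K, hKn, hK3, hKmax⟩ := CharsMore.SCOrder3.exists_core M
  haveI := hKn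
  haveI : K.Characteristic := by
    refine Subgroup.characteristic_iff_map_le.2 fun φ => hKmax _ (hKn.map _ φ.surjective) ?_
    rwa [← Nat.card_congr (K.equivMapOfInjective φ.toMonoidHom φ.injective).toEquiv]
  obtain ⟨O, hOdef⟩ : ∃ O, O = K.map M.subtype := ⟨_, rfl⟩
  have hOcard : Nat.card O = Nat.card K := by
    rw [hOdef]
    exact (Nat.card_congr (K.equivMapOfInjective _ M.subtype_injective).toEquiv).symm
  have hOM : O ≤ M := hOdef ▸ map_subtype_le K
  have hO3 : (Nat.card O).Coprime 3 :=
    hOcard ▸ (Nat.prime_three.coprime_iff_not_dvd.2 hK3).symm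
  have hNO : normalizer (M : Set G) ≤ normalizer (O : Set G) :=
    hOdef ▸ Base.normalizer_le_normalizer_map_subtype M K
  have hEO : E ≤ normalizer (O : Set G) := hEM.trans hNO
  have hMO : M ≤ normalizer (O : Set G) := le_normalizer.trans hNO
  refine ⟨O, hOM, hmax O hOM hO3 hEO, hO3, hEO, hMO, ?_⟩
  have hS := hSC.quotient K hK3
  have hcore : ∀ N : Subgroup (M ⧸ K), N.Normal → ¬ 3 ∣ Nat.card N → N = ⊥ := by
    intro N hN hN3
    have h1 := hKmax (N.comap (QuotientGroup.mk' K)) (hN.comap _) (by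
      rw [Base.card_comap_mk']
      exact fun hd => (Nat.prime_three.dvd_mul.1 hd).elim hK3 hN3)
    refine (Subgroup.eq_bot_iff_forall _).2 fun n hn => ?_
    obtain ⟨m, rfl⟩ := QuotientGroup.mk'_surjective K n
    exact (QuotientGroup.eq_one_iff m).2 (h1 hn)
  rcases hS.trichotomy hcore with ⟨hn, -⟩ | ⟨hsimple, hnc⟩
  · -- the quotient is small
    haveI : ((zpowers (QuotientGroup.mk' K xm)).comap (QuotientGroup.mk' K)).Normal := hn.comap _
    have hmap : ((zpowers (QuotientGroup.mk' K xm)).comap (QuotientGroup.mk' K)).map M.subtype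
        = X ⊔ O := by
      rw [← MonoidHom.map_zpowers, QuotientGroup.comap_map_mk', Subgroup.map_sup, ← hOdef,
        MonoidHom.map_zpowers, sup_comm]
      exact congrArg (· ⊔ O) hXz
    rw [← hmap]
    calc M = (⊤ : Subgroup M).map M.subtype := by rw [← MonoidHom.range_eq_map, M.range_subtype]
      _ = (normalizer (((zpowers (QuotientGroup.mk' K xm)).comap (QuotientGroup.mk' K) :
          Subgroup M) : Set M)).map M.subtype := by rw [normalizer_eq_top_iff.2 inferInstance]
      _ ≤ _ := le_normalizer_map _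
  -- a simple quotient does not occur
  exfalso
  haveI := hsimple
  obtain ⟨r, a, hr, hc⟩ : ∃ r a, r.Prime ∧ ToolCase (M ⧸ K) r a := by
    rcases hS.card_of_simple hnc with h | ⟨h, -⟩
    · exact ⟨2, 2, Nat.prime_two, Or.inl ⟨h, rfl, rfl⟩⟩
    · exact ⟨7, 1, by norm_num, Or.inr ⟨h, rfl, rfl⟩⟩
  haveI := Fact.mk hr
  have hr3 : r ≠ 3 := by rcases hc with ⟨-, rfl, -⟩ | ⟨-, rfl, -⟩ <;> norm_num
  have hPcard : ∀ P : Sylow r (M ⧸ K), Nat.card (P : Subgroup (M ⧸ K)) = r ^ a := by
    intro P
    rcases hc with ⟨h, rfl, rfl⟩ | ⟨h, rfl, rfl⟩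
    · exact Small.card_sylow_eq 2 15 (by omega) (by omega) P
    · exact Small.card_sylow_eq 1 24 (by omega) (by omega) P
  -- the preimages of the Sylow subgroups
  let S : Type u := {W : Subgroup G // O ≤ W ∧ W ≤ M ∧ Nat.card W = Nat.card O * r ^ a}
  let g : Sylow r (M ⧸ K) → S := fun P =>
    ⟨((P : Subgroup (M ⧸ K)).comap (QuotientGroup.mk' K)).map M.subtype,
      hOdef ▸ map_mono (QuotientGroup.le_comap_mk' K _), map_subtype_le _, by
      rw [← Nat.card_congr (Subgroup.equivMapOfInjective _ _ M.subtype_injective).toEquiv,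
        Base.card_comap_mk', hPcard P, hOcard]⟩
  have hg : Function.Bijective g := by
    refine ⟨fun P P' h => Sylow.ext ?_, fun W => ?_⟩
    · exact comap_injective (QuotientGroup.mk'_surjective K)
        (map_injective M.subtype_injective (congrArg Subtype.val h))
    · obtain ⟨W, hOW, hWM, hWc⟩ := W
      have hKW : K ≤ W.subgroupOf M := fun k hk => hOW (hOdef ▸ mem_map_of_mem M.subtype hk)
      have hcm : ((W.subgroupOf M).map (QuotientGroup.mk' K)).comap (QuotientGroup.mk' K)
          = W.subgroupOf M := by rw [QuotientGroup.comap_map_mk', sup_eq_right.2 hKW]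
      have hcard : Nat.card ((W.subgroupOf M).map (QuotientGroup.mk' K)) = r ^ a := by
        have h := congrArg (fun T : Subgroup M => Nat.card T) hcm
        simp only [Base.card_comap_mk', Nat.card_congr (subgroupOfEquivOfLe hWM).toEquiv,
          hWc, hOcard] at h
        exact Nat.eq_of_mul_eq_mul_left Nat.card_pos h
      obtain ⟨P⟩ := (inferInstance : Nonempty (Sylow r (M ⧸ K)))
      refine ⟨Sylow.ofCard ((W.subgroupOf M).map (QuotientGroup.mk' K))
        (by rw [hcard, ← hPcard P, P.card_eq_multiplicity]), Subtype.ext ?_⟩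
      show (((W.subgroupOf M).map (QuotientGroup.mk' K)).comap (QuotientGroup.mk' K)).map
        M.subtype = W
      rw [hcm, subgroupOf_map_subtype, inf_eq_left.2 hWM]
  have hconj : ∀ e : E, ∀ H : Subgroup G, (e : G) ∈ normalizer (H : Set G) →
      H.map (MulAut.conj (e : G)).toMonoidHom = H := fun e H h =>
    mem_normalizer_iff_map_conj_eq.1 h
  letI : MulAction E S :=
    { smul := fun e W => ⟨W.1.map (MulAut.conj (e : G)).toMonoidHom,
        (hconj e O (hEO e.2)).ge.trans (map_mono W.2.1),
        (map_mono W.2.2.1).trans (hconj e M (hEM e.2)).le, by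
        rw [← Nat.card_congr (Subgroup.equivMapOfInjective W.1 _
          (MulAut.conj (e : G)).injective).toEquiv]
        exact W.2.2.2⟩
      one_smul := fun W => Subtype.ext (by
        show W.1.map (MulAut.conj ((1 : E) : G)).toMonoidHom = W.1
        ext y; simp)
      mul_smul := fun e f W => Subtype.ext (by
        show W.1.map (MulAut.conj ((e * f : E) : G)).toMonoidHom =
          (W.1.map (MulAut.conj (f : G)).toMonoidHom).map (MulAut.conj (e : G)).toMonoidHom
        rw [Subgroup.map_map]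
        congr 1
        ext y; simp [mul_assoc]) }
  have hfix : 2 ≤ Nat.card (MulAction.fixedPoints E S) := by
    have h1 := hE.card_modEq_card_fixedPoints S
    rw [← Nat.card_eq_of_bijective g hg, Nat.ModEq, card_sylow_mod_three hc] at h1
    omega
  haveI : Nontrivial (MulAction.fixedPoints E S) := Finite.one_lt_card_iff_nontrivial.1 hfix
  obtain ⟨⟨W1, hW1⟩, ⟨W2, hW2⟩, hne⟩ := exists_pair_ne (MulAction.fixedPoints E S)
  have hin : ∀ W : S, W ∈ MulAction.fixedPoints E S → W.1 ≤ W0 := by
    intro W hW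
    refine hmax W.1 W.2.2.1 ?_ fun e he => ?_
    · rw [W.2.2.2]
      exact Nat.Coprime.mul_left hO3
        (((Nat.coprime_primes hr Nat.prime_three).2 hr3).pow_left a)
    · exact mem_normalizer_iff_map_conj_eq.2 (congrArg Subtype.val (hW ⟨e, he⟩))
  obtain ⟨P1, rfl⟩ := hg.2 W1
  obtain ⟨P2, rfl⟩ := hg.2 W2
  have hD : ¬ 3 ∣ Nat.card ((W0.subgroupOf M).map (QuotientGroup.mk' K)) := fun hd => by
    have h1 : 3 ∣ Nat.card ((W0 ⊓ M).subgroupOf M) := by
      rw [inf_subgroupOf_right]
      exact hd.trans (card_map_dvd _ _)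
    rw [Nat.card_congr (subgroupOfEquivOfLe (inf_le_right : W0 ⊓ M ≤ M)).toEquiv] at h1
    exact (Nat.prime_three.coprime_iff_not_dvd.1 hW0.symm)
      (h1.trans (card_dvd_of_le inf_le_left))
  have hle : ∀ P : Sylow r (M ⧸ K), (g P).1 ≤ W0 →
      (P : Subgroup (M ⧸ K)) ≤ (W0.subgroupOf M).map (QuotientGroup.mk' K) := by
    intro P hP
    rw [← map_comap_eq_self_of_surjective (QuotientGroup.mk'_surjective K) (P : Subgroup (M ⧸ K))]
    exact map_mono fun m hm => hP (mem_map_of_mem M.subtype hm)
  exact hne (Subtype.ext (congrArg g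
    (sylow_eq_of_le_tool hc hD (hle P1 (hin _ hW1)) (hle P2 (hin _ hW2)))))

/-- Sylow three-subgroups of order nine with small automizer and local centralizers are normal. -/
theorem axis : StmtAxis.{u} := by
  intro G _ _ P E Z hEP hE hexp hZ hZ3 hcE hloc _ hsq _
  haveI := Fact.mk Nat.prime_three
  haveI : Z.Normal := ⟨fun z hz a => by
    rw [(mem_center_iff.1 (hZ hz) a), mul_inv_cancel_right]; exact hz⟩
  obtain ⟨π, hπ⟩ : ∃ π, π = QuotientGroup.mk' Z := ⟨_, rfl⟩
  -- a congruence modulo `Z` between elements of exponent three is an equality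
  have hkey : ∀ a : G, a ^ 3 = 1 → ∀ b ∈ E, π a = π b → a = b := by
    intro a ha b hb hab
    rw [hπ, QuotientGroup.mk'_apply, QuotientGroup.mk'_apply, eq_comm, QuotientGroup.eq] at hab
    have hc : Commute b⁻¹ a := by
      have h1 : Commute b (b⁻¹ * a) := mem_center_iff.1 (hZ hab) b
      have h2 : Commute b a := by
        simpa using (Commute.refl b).mul_right h1
      exact h2.inv_left
    have h3 : (b⁻¹ * a) ^ 3 = 1 := by rw [hc.mul_pow, inv_pow, hexp b hb, ha]; group
    have h4 : orderOf (b⁻¹ * a) = 1 := Nat.eq_one_of_dvd_coprimes hZ3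
      (by simpa using orderOf_dvd_natCard (⟨_, hab⟩ : Z)) (orderOf_dvd_of_pow_eq_one h3)
    exact (inv_mul_eq_one.1 (orderOf_eq_one_iff.1 h4)).symm
  have hnorm : ∀ a : G, π a ∈ normalizer ((E.map π : Subgroup (G ⧸ Z)) : Set (G ⧸ Z)) →
      a ∈ normalizer (E : Set G) := by
    intro a ha
    refine mem_normalizer_iff_map_conj_eq.2 (eq_of_le_of_card_ge ?_ ?_)
    · rintro y ⟨e, he, rfl⟩
      obtain ⟨b, hb, hbe⟩ := (mem_normalizer_iff.1 ha (π e)).1 (mem_map_of_mem π he)
      have hy : a * e * a⁻¹ = b := hkey _ (by rw [conj_pow, hexp e he, mul_one, mul_inv_cancel])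
        b hb (by rw [hbe, map_mul, map_mul, map_inv])
      show a * e * a⁻¹ ∈ E
      rwa [hy]
    · rw [← Nat.card_congr (Subgroup.equivMapOfInjective E _
        (MulAut.conj a).injective).toEquiv]
  have hcom : ∀ a : G, ∀ e ∈ E, Commute (π a) (π e) → Commute a e := by
    intro a e he hc
    exact mul_inv_eq_iff_eq_mul.1 (hkey _ (by rw [conj_pow, hexp e he, mul_one, mul_inv_cancel])
      e he (by rw [map_mul, map_mul, map_inv, hc.eq, mul_inv_cancel_right]))
  have hcard : Nat.card (E.map π) = 9 := by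
    rw [← hE]
    refine (Nat.card_eq_of_bijective (fun e : E => (⟨π e, mem_map_of_mem π e.2⟩ : E.map π))
      ⟨fun a b h => Subtype.ext (hkey _ (hexp _ a.2) _ b.2 (congrArg Subtype.val h)), ?_⟩).symm
    rintro ⟨y, e, he, rfl⟩
    exact ⟨⟨e, he⟩, rfl⟩
  have hCmap : ∀ a : G, a ∈ centralizer (E : Set G) → π a ∈ E.map π := by
    intro a ha
    rw [hcE] at ha
    have h := mem_map_of_mem π ha
    rwa [Subgroup.map_sup, hπ, QuotientGroup.map_mk'_self, sup_bot_eq, ← hπ] at h
  have hπs : Function.Surjective π := hπ ▸ QuotientGroup.mk'_surjective Z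
  have H : CharsMore.NineTI.Nine (G ⧸ Z) (E.map π) := by
    refine ⟨hcard, ?_, le_antisymm (fun q hq => ?_) (fun q hq => ?_), fun q hq hq1 y hy => ?_,
      P.mapSurjective hπs, by rw [hEP]; rfl⟩
    · rintro _ ⟨e, he, rfl⟩
      rw [← map_pow, hexp e he, map_one]
    · obtain ⟨a, rfl⟩ := hπs q
      exact hCmap a (mem_centralizer_iff.2 fun e he =>
        (hcom a e he (mem_centralizer_iff.1 hq (π e) (mem_map_of_mem π he)).symm).eq.symm)
    · obtain ⟨a, ha, rfl⟩ := hq
      refine mem_centralizer_iff.2 ?_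
      rintro _ ⟨b, hb, rfl⟩
      have hab : a ∈ centralizer (E : Set G) := hcE.symm ▸ mem_sup_left ha
      rw [← map_mul, ← map_mul, mem_centralizer_iff.1 hab b hb]
    · obtain ⟨e, he, rfl⟩ := hq
      obtain ⟨a, rfl⟩ := hπs y
      have hae := hcom a e he (mem_centralizer_singleton_iff.1 hy)
      exact le_normalizer_map π ⟨a, hloc e he (fun h => hq1 (h ▸ map_one π))
        (mem_centralizer_singleton_iff.2 hae.eq), rfl⟩
  have htop := CharsMore.NineTI.Klein.normalizer_eq_top _ (G ⧸ Z) (E.map π) rfl H fun q hq => by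
    obtain ⟨a, rfl⟩ := hπs q
    rw [← map_mul]
    exact hCmap _ (hsq a (hnorm a hq))
  exact eq_top_iff.2 fun a _ => hnorm a (htop ▸ mem_top (π a))

end CfsgLib.SNineThree
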