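import Mathlib

/-!
A group of order six acting on a group of order prime to three whose elements fixed by the element
of order three are central fixes a Sylow two-subgroup.
-/

set_option autoImplicit false
set_option linter.unusedSectionVars false
set_option linter.style.haveILetI false

namespace CfsgLib.SNineThree.TwistAux

open Subgroup

universe u

variable {G : Type u} [Group G] [Finite G] (R : Subgroup G)

/-- The Sylow two-subgroups of a subgroup. -/
def Syl2 : Type u :=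
  {P : Subgroup G // P ≤ R ∧ Nat.card P = 2 ^ (Nat.card R).factorization 2}

instance : Finite (Syl2 R) := Subtype.finite

/-- The bijection with the Sylow subgroups. -/
noncomputable def syl2Equiv : Sylow 2 R ≃ Syl2 R :=
  haveI : Fact (Nat.Prime 2) := ⟨Nat.prime_two⟩
  Equiv.ofBijective (fun P => ⟨(P : Subgroup R).map R.subtype, map_subtype_le _, by
      rw [card_map_of_injective R.subtype_injective]; exact P.card_eq_multiplicity⟩)
    ⟨fun P Q h => Sylow.ext (map_injective R.subtype_injective (congrArg Subtype.val h)), by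
      rintro ⟨P, hP, hc⟩
      refine ⟨Sylow.ofCard (P.subgroupOf R) ?_, Subtype.ext ?_⟩
      · rw [Nat.card_congr (subgroupOfEquivOfLe hP).toEquiv, hc]
      · show (P.subgroupOf R).map R.subtype = P
        rw [subgroupOf_map_subtype, inf_eq_left.2 hP]⟩

variable {R}

/-- Conjugation by an element normalizing `R`. -/
noncomputable def conjSyl {g : G} (hg : ∀ r ∈ R, g * r * g⁻¹ ∈ R) (P : Syl2 R) : Syl2 R :=
  ⟨P.1.map (MulAut.conj g).toMonoidHom, by
    rintro _ ⟨r, hr, rfl⟩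
    exact hg r (P.2.1 hr), by
    rw [card_map_of_injective (f := (MulAut.conj g).toMonoidHom) (MulAut.conj g).injective]
    exact P.2.2⟩

theorem mem_conjSyl {g : G} (hg : ∀ r ∈ R, g * r * g⁻¹ ∈ R) (P : Syl2 R) {a : G} :
    a ∈ (conjSyl hg P).1 ↔ g⁻¹ * a * g ∈ P.1 := by
  constructor
  · rintro ⟨r, hr, rfl⟩
    show g⁻¹ * (g * r * g⁻¹) * g ∈ P.1
    rwa [show g⁻¹ * (g * r * g⁻¹) * g = r by group]
  · intro h
    refine ⟨_, h, ?_⟩
    show g * (g⁻¹ * a * g) * g⁻¹ = a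
    group

theorem conjSyl_conjSyl {g h : G} (hg : ∀ r ∈ R, g * r * g⁻¹ ∈ R)
    (hh : ∀ r ∈ R, h * r * h⁻¹ ∈ R) (hgh : ∀ r ∈ R, g * h * r * (g * h)⁻¹ ∈ R) (P : Syl2 R) :
    conjSyl hg (conjSyl hh P) = conjSyl hgh P := by
  refine Subtype.ext (Subgroup.ext fun a => ?_)
  rw [mem_conjSyl, mem_conjSyl, mem_conjSyl]
  exact iff_of_eq (congrArg (· ∈ P.1) (by group))

theorem exists_conj (P Q : Syl2 R) : ∃ r ∈ R, ∀ a, a ∈ Q.1 ↔ r⁻¹ * a * r ∈ P.1 := by
  haveI : Fact (Nat.Prime 2) := ⟨Nat.prime_two⟩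
  obtain ⟨r, hr⟩ := MulAction.exists_smul_eq R ((syl2Equiv R).symm P) ((syl2Equiv R).symm Q)
  refine ⟨r, r.2, fun a => ?_⟩
  have hP : (((syl2Equiv R).symm P : Sylow 2 R) : Subgroup R).map R.subtype = P.1 :=
    congrArg Subtype.val ((syl2Equiv R).apply_symm_apply P)
  have hQ : (((syl2Equiv R).symm Q : Sylow 2 R) : Subgroup R).map R.subtype = Q.1 :=
    congrArg Subtype.val ((syl2Equiv R).apply_symm_apply Q)
  rw [← hP, ← hQ, ← hr, Sylow.coe_subgroup_smul]
  constructor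
  · rintro ⟨_, ⟨s, hs, rfl⟩, rfl⟩
    refine ⟨s, hs, ?_⟩
    show (s : G) = (r : G)⁻¹ * ((r : G) * s * (r : G)⁻¹) * r
    group
  · rintro ⟨s, hs, e⟩
    refine ⟨r * s * r⁻¹, ⟨s, hs, rfl⟩, ?_⟩
    show (r : G) * s * (r : G)⁻¹ = a
    rw [show (s : G) = (r : G)⁻¹ * a * r from e]
    group

/-- An invariant Sylow two-subgroup. -/
theorem exists_invariant {b τ : G} (hb3 : b ^ 3 = 1) (hτb : τ * b * τ⁻¹ = b⁻¹)
    (hb : ∀ r ∈ R, b * r * b⁻¹ ∈ R) (hτ : ∀ r ∈ R, τ * r * τ⁻¹ ∈ R)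
    (h3 : (Nat.card R).Coprime 3) (hfix : ∀ r ∈ R, b * r = r * b → ∀ t ∈ R, r * t = t * r) :
    ∃ P : Syl2 R, (∀ t ∈ P.1, b * t * b⁻¹ ∈ P.1) ∧ ∀ t ∈ P.1, τ * t * τ⁻¹ ∈ P.1 := by
  haveI : Fact (Nat.Prime 2) := ⟨Nat.prime_two⟩
  haveI : Fact (Nat.Prime 3) := ⟨Nat.prime_three⟩
  haveI : Fintype (Syl2 R) := Fintype.ofFinite _
  have hb2 : ∀ r ∈ R, b * b * r * (b * b)⁻¹ ∈ R := fun r hr => by
    have := hb _ (hb r hr)
    rwa [show b * (b * r * b⁻¹) * b⁻¹ = b * b * r * (b * b)⁻¹ by group] at this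
  have hb33 : b * b * b = 1 := by rw [← hb3, pow_succ, pow_two]
  have hb3' : ∀ r ∈ R, b * b * b * r * (b * b * b)⁻¹ ∈ R := fun r hr => by
    rwa [hb33, inv_one, one_mul, mul_one]
  let f : Equiv.Perm (Syl2 R) :=
    { toFun := conjSyl hb
      invFun := conjSyl hb2
      left_inv := fun P => by
        rw [conjSyl_conjSyl hb2 hb (hgh := hb3')]
        refine Subtype.ext (Subgroup.ext fun a => ?_)
        rw [mem_conjSyl, hb33, inv_one, one_mul, mul_one]
      right_inv := fun P => by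
        rw [conjSyl_conjSyl hb hb2 (hgh := fun r hr => by rw [← mul_assoc]; exact hb3' r hr)]
        refine Subtype.ext (Subgroup.ext fun a => ?_)
        rw [mem_conjSyl, ← mul_assoc b b b, hb33, inv_one, one_mul, mul_one] }
  have hf : f ^ 3 ^ 1 = 1 := by
    refine Equiv.ext fun P => ?_
    rw [pow_one, pow_succ, pow_two, Equiv.Perm.mul_apply, Equiv.Perm.mul_apply,
      Equiv.Perm.one_apply]
    show conjSyl hb (conjSyl hb (conjSyl hb P)) = P
    refine Subtype.ext (Subgroup.ext fun a => ?_)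
    rw [mem_conjSyl, mem_conjSyl, mem_conjSyl,
      show b⁻¹ * (b⁻¹ * (b⁻¹ * a * b) * b) * b = (b * b * b)⁻¹ * a * (b * b * b) by group,
      hb33, inv_one, one_mul, mul_one]
  have hnd : ¬ 3 ∣ Fintype.card (Syl2 R) := by
    rw [← Nat.card_eq_fintype_card, ← Nat.card_congr (syl2Equiv R)]
    intro hd
    obtain ⟨Q⟩ : Nonempty (Sylow 2 R) := inferInstance
    have h := (hd.trans Q.card_dvd_index).trans (index_dvd_card _)
    exact (Nat.prime_three.coprime_iff_not_dvd.1 h3.symm) h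
  obtain ⟨P, hP⟩ := Equiv.Perm.exists_fixed_point_of_prime hnd hf
  have hPb : ∀ {S : Syl2 R}, conjSyl hb S = S → ∀ t ∈ S.1, b * t * b⁻¹ ∈ S.1 := fun {S} e t ht => by
    have := (Subgroup.ext_iff.1 (congrArg Subtype.val e) (b * t * b⁻¹))
    rw [mem_conjSyl, show b⁻¹ * (b * t * b⁻¹) * b = t by group] at this
    exact this.1 ht
  refine ⟨P, hPb hP, ?_⟩
  -- the fixed Sylow subgroup is unique
  have huniq : ∀ Q : Syl2 R, conjSyl hb Q = Q → ∀ a, a ∈ Q.1 ↔ a ∈ P.1 := by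
    intro Q hQ
    obtain ⟨r0, hr0, hr0'⟩ := exists_conj P Q
    let S : Type u := {r : G // r ∈ R ∧ ∀ a, a ∈ Q.1 ↔ r⁻¹ * a * r ∈ P.1}
    haveI : Fintype S := Fintype.ofFinite _
    have hSfin : ¬ 3 ∣ Fintype.card S := by
      let N : Subgroup G :=
        { carrier := {n | n ∈ R ∧ ∀ a, a ∈ P.1 ↔ n⁻¹ * a * n ∈ P.1}
          one_mem' := ⟨R.one_mem, fun a => by simp⟩
          mul_mem' := by
            rintro m n ⟨hm, hm'⟩ ⟨hn, hn'⟩
            refine ⟨R.mul_mem hm hn, fun a => (hm' a).trans ((hn' _).trans ?_)⟩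
            exact iff_of_eq (congrArg (· ∈ P.1) (by group))
          inv_mem' := by
            rintro m ⟨hm, hm'⟩
            refine ⟨R.inv_mem hm, fun a => ?_⟩
            rw [hm' (m⁻¹⁻¹ * a * m⁻¹)]
            exact iff_of_eq (congrArg (· ∈ P.1) (by group)) }
      have e : S ≃ N :=
        { toFun := fun r => ⟨r0⁻¹ * r.1, R.mul_mem (R.inv_mem hr0) r.2.1, fun a => by
            have h1 := (hr0' (r0 * a * r0⁻¹))
            rw [show r0⁻¹ * (r0 * a * r0⁻¹) * r0 = a by group, r.2.2] at h1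
            rw [← h1]
            exact iff_of_eq (congrArg (· ∈ P.1) (by group))⟩
          invFun := fun n => ⟨r0 * n.1, R.mul_mem hr0 n.2.1, fun a => by
            rw [hr0' a, n.2.2]
            exact iff_of_eq (congrArg (· ∈ P.1) (by group))⟩
          left_inv := fun r => Subtype.ext (mul_inv_cancel_left _ _)
          right_inv := fun n => Subtype.ext (inv_mul_cancel_left _ _) }
      rw [← Nat.card_eq_fintype_card, Nat.card_congr e]
      intro hd
      exact (Nat.prime_three.coprime_iff_not_dvd.1 h3.symm)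
        (hd.trans (Subgroup.card_dvd_of_le fun n hn => hn.1))
    have hmove : ∀ r : S, b * r.1 * b⁻¹ ∈ R ∧
        ∀ a, a ∈ Q.1 ↔ (b * r.1 * b⁻¹)⁻¹ * a * (b * r.1 * b⁻¹) ∈ P.1 := by
      intro r
      refine ⟨hb r.1 r.2.1, fun a => ?_⟩
      have h1 : a ∈ Q.1 ↔ b⁻¹ * a * b ∈ Q.1 := by
        conv_lhs => rw [← hQ]
        exact mem_conjSyl hb Q
      have h2 : ∀ c, c ∈ P.1 ↔ b⁻¹ * c * b ∈ P.1 := fun c => by
        conv_lhs => rw [← hP]
        exact mem_conjSyl hb P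
      rw [h1, r.2.2, h2 ((b * r.1 * b⁻¹)⁻¹ * a * (b * r.1 * b⁻¹))]
      exact iff_of_eq (congrArg (· ∈ P.1) (by group))
    let g : S → S := fun r => ⟨b * r.1 * b⁻¹, hmove r⟩
    have hg : ∀ r, g (g (g r)) = r := fun r => Subtype.ext (by
      show b * (b * (b * r.1 * b⁻¹) * b⁻¹) * b⁻¹ = r.1
      rw [show b * (b * (b * r.1 * b⁻¹) * b⁻¹) * b⁻¹ = b * b * b * r.1 * (b * b * b)⁻¹ by group,
        hb33, inv_one, one_mul, mul_one])
    let g' : Equiv.Perm S := ⟨g, fun r => g (g r), hg, hg⟩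
    have hg' : g' ^ 3 ^ 1 = 1 := by
      refine Equiv.ext fun r => ?_
      rw [pow_one, pow_succ, pow_two, Equiv.Perm.mul_apply, Equiv.Perm.mul_apply,
        Equiv.Perm.one_apply]
      exact hg r
    obtain ⟨r, hr⟩ := Equiv.Perm.exists_fixed_point_of_prime hSfin hg'
    have hcen := hfix r.1 r.2.1 (mul_inv_eq_iff_eq_mul.1 (congrArg Subtype.val hr))
    intro a
    have hconj : ∀ c ∈ R, r.1⁻¹ * c * r.1 = c := fun c hc => by
      rw [mul_assoc, ← hcen c hc, inv_mul_cancel_left]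
    constructor
    · intro ha
      have := (r.2.2 a).1 ha
      rwa [hconj a (Q.2.1 ha)] at this
    · intro ha
      refine (r.2.2 a).2 ?_
      rwa [hconj a (P.2.1 ha)]
  -- `τ` maps it to a fixed one
  have hfixQ : conjSyl hb (conjSyl hτ P) = conjSyl hτ P := by
    refine Subtype.ext (Subgroup.ext fun a => ?_)
    rw [mem_conjSyl, mem_conjSyl, mem_conjSyl]
    have h2 : ∀ c, c ∈ P.1 ↔ b * c * b⁻¹ ∈ P.1 := fun c => by
      conv_rhs => rw [← hP]
      rw [show b * c * b⁻¹ ∈ (f P).1 ↔ b⁻¹ * (b * c * b⁻¹) * b ∈ P.1 from mem_conjSyl hb P]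
      exact iff_of_eq (congrArg (· ∈ P.1) (by group))
    rw [h2 (τ⁻¹ * a * τ)]
    refine iff_of_eq (congrArg (· ∈ P.1) ?_)
    have e1 : τ⁻¹ * b⁻¹ = b * τ⁻¹ := by rw [← hτb]; group
    calc τ⁻¹ * (b⁻¹ * a * b) * τ = τ⁻¹ * b⁻¹ * a * (τ⁻¹ * b⁻¹)⁻¹ := by group
      _ = b * τ⁻¹ * a * (b * τ⁻¹)⁻¹ := by rw [e1]
      _ = _ := by group
  intro t ht
  refine (huniq _ hfixQ _).1 ((mem_conjSyl hτ P).2 ?_)
  rwa [show τ⁻¹ * (τ * t * τ⁻¹) * τ = t by group]

end CfsgLib.SNineThree.TwistAux
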