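import Mathlib

/-!
A two-group with a central involution `u`, an automorphism group of order six whose elements of
order two and three fix only `1` and `u`, has no other involution.
-/

set_option autoImplicit false
set_option linter.unusedSectionVars false

namespace CfsgLib.SNineThree.TwistAux

open Subgroup

universe u

variable {G : Type u} [Group G]

/-- Two elements differ at most by the factor `u`. -/
def EqU (u a b : G) : Prop := a = b ∨ a = b * u

/-- The hypotheses. -/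
structure TwoData (T : Subgroup G) (u τ b : G) : Prop where
  hu : u ∈ T
  hu2 : u * u = 1
  hu1 : u ≠ 1
  cent : ∀ t ∈ T, u * t = t * u
  τ2 : τ * τ = 1
  b3 : b ^ 3 = 1
  τT : ∀ t ∈ T, τ * t * τ⁻¹ ∈ T
  bT : ∀ t ∈ T, b * t * b⁻¹ ∈ T
  τb : τ * b * τ⁻¹ = b⁻¹
  fτ : ∀ t ∈ T, τ * t = t * τ → t = 1 ∨ t = u
  fb : ∀ t ∈ T, b * t = t * b → t = 1 ∨ t = u
  τu : τ * u = u * τ
  bu : b * u = u * b

namespace TwoData

variable {T : Subgroup G} {u τ b : G} (D : TwoData T u τ b)

include D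

theorem refl (a : G) : EqU u a a := Or.inl rfl

theorem symm {a c : G} (h : EqU u a c) : EqU u c a := by
  rcases h with e | e
  · exact Or.inl e.symm
  · right; rw [e, mul_assoc, D.hu2, mul_one]

theorem trans {a c d : G} (h : EqU u a c) (h' : EqU u c d) : EqU u a d := by
  rcases h with rfl | rfl
  · exact h'
  · rcases h' with rfl | rfl
    · exact Or.inr rfl
    · left; rw [mul_assoc, D.hu2, mul_one]

theorem mul {a a' c c' : G} (hc' : c' ∈ T) (h : EqU u a a') (h' : EqU u c c') :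
    EqU u (a * c) (a' * c') := by
  rcases h with rfl | rfl <;> rcases h' with rfl | rfl
  · exact Or.inl rfl
  · right; rw [mul_assoc]
  · right; rw [mul_assoc a', D.cent c hc', ← mul_assoc]
  · left; rw [mul_assoc a', ← mul_assoc u, D.cent c' hc', mul_assoc c', D.hu2, mul_one]

theorem mem_S {a : G} (h : EqU u a 1) : a ∈ T := by
  rcases h with rfl | rfl
  · exact T.one_mem
  · rw [one_mul]; exact D.hu

theorem inv {a c : G} (hc : c ∈ T) (h : EqU u a c) : EqU u a⁻¹ c⁻¹ := by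
  rcases h with rfl | rfl
  · exact Or.inl rfl
  · right
    rw [mul_inv_rev, inv_eq_of_mul_eq_one_right D.hu2, D.cent _ (T.inv_mem hc)]

theorem conj {g : G} (hg : g * u = u * g) {a c : G} (h : EqU u a c) :
    EqU u (g * a * g⁻¹) (g * c * g⁻¹) := by
  rcases h with rfl | rfl
  · exact Or.inl rfl
  · right
    calc g * (c * u) * g⁻¹ = g * c * (u * g⁻¹) := by group
      _ = g * c * (g⁻¹ * (g * u) * g⁻¹) := by group
      _ = g * c * g⁻¹ * u := by rw [hg]; group

/-- The elements of order two of the centre modulo `u`. -/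
def U : Subgroup G where
  carrier := {a | a ∈ T ∧ EqU u (a * a) 1 ∧ ∀ s ∈ T, EqU u (a * s) (s * a)}
  one_mem' := ⟨T.one_mem, by rw [one_mul]; exact D.refl 1, fun s _ => by
    rw [one_mul, mul_one]; exact D.refl s⟩
  mul_mem' := by
    rintro a c ⟨haT, ha2, ha⟩ ⟨hcT, hc2, hc⟩
    refine ⟨T.mul_mem haT hcT, ?_, fun s hs => ?_⟩
    · have h1 : EqU u (a * c * (a * c)) (a * a * (c * c)) := by
        have h := D.mul (a := a) (a' := a) (c := c * a * c) (c' := a * c * c)
          (T.mul_mem (T.mul_mem haT hcT) hcT) (D.refl a) (D.mul hcT (hc a haT) (D.refl c))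
        rwa [show a * c * (a * c) = a * (c * a * c) by group,
          show a * a * (c * c) = a * (a * c * c) by group]
      refine D.trans h1 ?_
      have h := D.mul T.one_mem ha2 hc2
      rwa [one_mul] at h
    · have h1 := D.mul (T.mul_mem hs hcT) (D.refl a) (hc s hs)
      have h2 := D.mul hcT (ha s hs) (D.refl c)
      rw [← mul_assoc, ← mul_assoc] at h1
      have h3 := D.trans h1 h2
      rwa [mul_assoc s a c] at h3
  inv_mem' := by
    rintro a ⟨haT, ha2, ha⟩
    refine ⟨T.inv_mem haT, ?_, fun s hs => ?_⟩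
    · have := D.inv T.one_mem ha2
      rwa [mul_inv_rev, inv_one] at this
    · have h1 := D.mul (T.inv_mem haT) (D.mul (T.mul_mem haT hs) (D.refl a⁻¹)
        (D.symm (ha s hs))) (D.refl a⁻¹)
      rwa [show a⁻¹ * (s * a) * a⁻¹ = a⁻¹ * s by group,
        show a⁻¹ * (a * s) * a⁻¹ = s * a⁻¹ by group] at h1

theorem mem_U {a : G} : a ∈ D.U ↔ a ∈ T ∧ EqU u (a * a) 1 ∧ ∀ s ∈ T, EqU u (a * s) (s * a) :=
  Iff.rfl

theorem S_le_U {a : G} (h : EqU u a 1) : a ∈ D.U := by
  have h2 := D.mul T.one_mem h h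
  rw [one_mul] at h2
  refine D.mem_U.2 ⟨D.mem_S h, h2, fun s hs => ?_⟩
  have h3 := D.mul hs h (D.refl s)
  have h4 := D.mul T.one_mem (D.refl s) h
  rw [one_mul] at h3
  rw [mul_one] at h4
  exact D.trans h3 (D.symm h4)

theorem U_conj {g : G} (hg : g * u = u * g) (hT : ∀ t ∈ T, g * t * g⁻¹ ∈ T)
    (hT' : ∀ t ∈ T, g⁻¹ * t * g ∈ T) {a : G} (ha : a ∈ D.U) : g * a * g⁻¹ ∈ D.U := by
  obtain ⟨haT, ha2, ha⟩ := D.mem_U.1 ha
  refine D.mem_U.2 ⟨hT a haT, ?_, fun s hs => ?_⟩
  · have h := D.conj hg ha2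
    rwa [show g * (a * a) * g⁻¹ = g * a * g⁻¹ * (g * a * g⁻¹) by group, mul_one,
      mul_inv_cancel] at h
  · have h := D.conj hg (ha _ (hT' s hs))
    rwa [show g * (a * (g⁻¹ * s * g)) * g⁻¹ = g * a * g⁻¹ * s by group,
      show g * (g⁻¹ * s * g * a) * g⁻¹ = s * (g * a * g⁻¹) by group] at h

theorem τinv : τ⁻¹ = τ := inv_eq_of_mul_eq_one_right D.τ2

theorem U_τ {a : G} (ha : a ∈ D.U) : τ * a * τ⁻¹ ∈ D.U :=
  D.U_conj D.τu D.τT (fun t ht => by
    have := D.τT t ht
    rwa [D.τinv] at this ⊢) ha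

theorem bT' {t : G} (ht : t ∈ T) : b⁻¹ * t * b ∈ T := by
  have h := D.bT _ (D.bT t ht)
  have e : b⁻¹ = b * b := inv_eq_of_mul_eq_one_right (by rw [← D.b3, pow_succ', pow_two])
  have e' : (b * b)⁻¹ = b := by rw [← e, inv_inv]
  rwa [show b * (b * t * b⁻¹) * b⁻¹ = b * b * t * (b * b)⁻¹ by group, e', ← e] at h

theorem U_b {a : G} (ha : a ∈ D.U) : b * a * b⁻¹ ∈ D.U :=
  D.U_conj D.bu D.bT (fun _ ht => D.bT' ht) ha

theorem U_inv_eq {a : G} (ha : a ∈ D.U) : EqU u a⁻¹ a := by
  obtain ⟨haT, ha2, -⟩ := D.mem_U.1 ha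
  have h := D.mul T.one_mem (D.refl a⁻¹) ha2
  rw [mul_one, inv_mul_cancel_left] at h
  exact D.symm h

theorem U_comm {a c : G} (ha : a ∈ D.U) (hc : c ∈ T) : EqU u (a * c) (c * a) :=
  (D.mem_U.1 ha).2.2 c hc

/-- Elements of `U` fixed modulo `u` outside `⟨u⟩` differ by elements of `⟨u⟩`. -/
theorem fixed_eq {a c : G} (ha : a ∈ D.U) (hc : c ∈ D.U) (hc' : ¬ EqU u c 1)
    (hca : EqU u (τ * c * τ⁻¹) c) (haa : EqU u (τ * a * τ⁻¹) a) : EqU u a 1 ∨ EqU u a c := by
  have hfix : ∀ w ∈ T, τ * w * τ⁻¹ = w → EqU u w 1 := fun w hw e => by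
    rcases D.fτ w hw (mul_inv_eq_iff_eq_mul.1 e) with h | h
    · exact Or.inl h
    · right; rw [one_mul]; exact h
  have haT := (D.mem_U.1 ha).1
  have hcT := (D.mem_U.1 hc).1
  rcases haa with e | e
  · exact Or.inl (hfix a haT e)
  · rcases hca with e' | e'
    · exact absurd (hfix c hcT e') hc'
    · right
      have h := hfix (a * c⁻¹) (T.mul_mem haT (T.inv_mem hcT)) (by
        rw [show τ * (a * c⁻¹) * τ⁻¹ = τ * a * τ⁻¹ * (τ * c * τ⁻¹)⁻¹ by group, e, e',
          mul_inv_rev, ← mul_assoc, mul_assoc a u u⁻¹, mul_inv_cancel, mul_one])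
      have h' := D.mul hcT h (D.refl c)
      rwa [inv_mul_cancel_right, one_mul] at h'

variable [Finite G] (hT : IsPGroup 2 T)
include hT

theorem exists_U (h : ∃ t ∈ T, ¬ EqU u t 1) : ∃ t ∈ D.U, ¬ EqU u t 1 := by
  obtain ⟨t0, ht0, hne⟩ := h
  let uT : T := ⟨u, D.hu⟩
  have hpow : ∀ i : ℤ, uT ^ i = 1 ∨ uT ^ i = uT := by
    intro i
    have h2 : uT ^ (2 : ℤ) = 1 := by rw [zpow_two]; exact Subtype.ext D.hu2
    rcases Int.even_or_odd' i with ⟨k, rfl | rfl⟩
    · left; rw [zpow_mul, h2, one_zpow]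
    · right; rw [zpow_add_one, zpow_mul, h2, one_zpow, one_mul]
  have hmem : ∀ a : T, a ∈ zpowers uT ↔ EqU u (a : G) 1 := by
    intro a
    constructor
    · rintro ⟨i, rfl⟩
      show EqU u ((uT ^ i : T) : G) 1
      rcases hpow i with e | e <;> rw [e]
      · exact Or.inl rfl
      · exact Or.inr (one_mul u).symm
    · rintro (e | e)
      · rw [show a = 1 from Subtype.ext e]; exact one_mem _
      · rw [show a = uT from Subtype.ext (e.trans (one_mul u))]; exact mem_zpowers uT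
  haveI : (zpowers uT).Normal := ⟨fun n hn g => by
    obtain ⟨i, rfl⟩ := mem_zpowers_iff.1 hn
    have hc : Commute g (uT ^ i) :=
      Commute.zpow_right (show Commute g uT from Subtype.ext (D.cent g g.2).symm) i
    rw [hc.eq, mul_inv_cancel_right]
    exact zpow_mem (mem_zpowers uT) i⟩
  haveI : Fact (Nat.Prime 2) := ⟨Nat.prime_two⟩
  have hQ : IsPGroup 2 (T ⧸ zpowers uT) := hT.to_quotient _
  haveI : Nontrivial (T ⧸ zpowers uT) := by
    refine ⟨⟨((⟨t0, ht0⟩ : T) : T ⧸ zpowers uT), 1, fun e => hne ?_⟩⟩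
    exact (hmem ⟨t0, ht0⟩).1 ((QuotientGroup.eq_one_iff _).1 e)
  haveI : Nontrivial (Subgroup.center (T ⧸ zpowers uT)) := hQ.center_nontrivial
  obtain ⟨n, hn, hcard⟩ :=
    (hQ.to_subgroup (Subgroup.center (T ⧸ zpowers uT))).nontrivial_iff_card.1 inferInstance
  have hd : 2 ∣ Nat.card (Subgroup.center (T ⧸ zpowers uT)) := by
    rw [hcard]; exact dvd_pow_self 2 hn.ne'
  obtain ⟨⟨q, hq⟩, hq2⟩ := exists_prime_orderOf_dvd_card' 2 hd
  obtain ⟨a, rfl⟩ := QuotientGroup.mk_surjective q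
  have h2 : ((a * a : T) : T ⧸ zpowers uT) = 1 := by
    have := pow_orderOf_eq_one (⟨_, hq⟩ : Subgroup.center (T ⧸ zpowers uT))
    rw [hq2, pow_two] at this
    rw [QuotientGroup.mk_mul]
    exact congrArg Subtype.val this
  refine ⟨a, D.mem_U.2 ⟨a.2, (hmem _).1 ((QuotientGroup.eq_one_iff _).1 h2), fun s hs => ?_⟩, ?_⟩
  · have hc := Subgroup.mem_center_iff.1 hq ((⟨s, hs⟩ : T) : T ⧸ zpowers uT)
    rw [← QuotientGroup.mk_mul, ← QuotientGroup.mk_mul, QuotientGroup.eq] at hc
    rcases (hmem _).1 hc with e | e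
    · left
      simp only [Subgroup.coe_mul, Subgroup.coe_inv] at e
      exact (inv_mul_eq_one.1 e).symm
    · right
      simp only [Subgroup.coe_mul, Subgroup.coe_inv, one_mul] at e
      rw [inv_mul_eq_iff_eq_mul] at e
      exact e
  · intro e
    have hq1 : (⟨((a : T) : T ⧸ zpowers uT), hq⟩ : Subgroup.center (T ⧸ zpowers uT)) = 1 :=
      Subtype.ext ((QuotientGroup.eq_one_iff a).2 ((hmem a).2 e))
    rw [hq1, orderOf_one] at hq2
    norm_num at hq2

/-- The group has no other involution. -/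
theorem unique {w : G} (hw : w ∈ T) (hw2 : w * w = 1) : w = 1 ∨ w = u := by
  have goalS : EqU u w 1 → w = 1 ∨ w = u := fun h => h.imp id fun e => e.trans (one_mul u)
  apply goalS
  by_contra hwS
  obtain ⟨t, ht, htS⟩ := D.exists_U hT ⟨w, hw, hwS⟩
  -- an element of `U` fixed modulo `u`
  obtain ⟨c, hc, hcS, hcα⟩ : ∃ c ∈ D.U, ¬ EqU u c 1 ∧ EqU u (τ * c * τ⁻¹) c := by
    by_cases h : EqU u (τ * t * τ⁻¹) t
    · exact ⟨t, ht, htS, h⟩
    refine ⟨t * (τ * t * τ⁻¹), D.U.mul_mem ht (D.U_τ ht), fun e => h ?_, ?_⟩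
    · have h1 := D.mul T.one_mem (D.refl t⁻¹) e
      rw [inv_mul_cancel_left, mul_one] at h1
      exact D.trans h1 (D.U_inv_eq ht)
    · have e : τ * (t * (τ * t * τ⁻¹)) * τ⁻¹ = τ * t * τ⁻¹ * t := by
        calc τ * (t * (τ * t * τ⁻¹)) * τ⁻¹ = τ * t * τ⁻¹ * (τ * τ * t * (τ * τ)⁻¹) := by group
          _ = _ := by rw [D.τ2, inv_one, one_mul, mul_one]
      rw [e]
      exact D.U_comm (D.U_τ ht) (D.mem_U.1 ht).1
  have hcT := (D.mem_U.1 hc).1
  have hcα' : τ * c * τ⁻¹ = c * u := by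
    rcases hcα with e | e
    · refine absurd ?_ hcS
      rcases D.fτ c hcT (mul_inv_eq_iff_eq_mul.1 e) with h | h
      · exact Or.inl h
      · right; rw [one_mul]; exact h
    · exact e
  set c' := b * c * b⁻¹ with hc'
  set c'' := b * c' * b⁻¹ with hc''
  have hc'U : c' ∈ D.U := D.U_b hc
  have hc''U : c'' ∈ D.U := D.U_b hc'U
  have hc'T := (D.mem_U.1 hc'U).1
  have hc''T := (D.mem_U.1 hc''U).1
  have hbbb : b * b * b = 1 := by rw [← D.b3, pow_succ, pow_two]
  have hb3 : b * c'' * b⁻¹ = c := by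
    rw [hc'', hc']
    calc b * (b * (b * c * b⁻¹) * b⁻¹) * b⁻¹ = b * b * b * c * (b * b * b)⁻¹ := by group
      _ = c := by rw [hbbb, inv_one, one_mul, mul_one]
  have hαc' : τ * c' * τ⁻¹ = c'' * u := by
    have e1 : τ * c' * τ⁻¹ = b⁻¹ * (c * u) * b := by
      rw [hc', show τ * (b * c * b⁻¹) * τ⁻¹ =
        τ * b * τ⁻¹ * (τ * c * τ⁻¹) * (τ * b * τ⁻¹)⁻¹ by group, D.τb, hcα', inv_inv]
    have e2 : b⁻¹ = b * b := inv_eq_of_mul_eq_one_right (by rw [← D.b3, pow_succ', pow_two])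
    rw [e1]
    calc b⁻¹ * (c * u) * b = b⁻¹ * c * (u * b) := by group
      _ = b⁻¹ * c * b * u := by rw [← D.bu]; group
      _ = c'' * u := by
        rw [hc'', hc']
        congr 1
        calc b⁻¹ * c * b = b⁻¹ * c * (b⁻¹)⁻¹ := by group
          _ = b * b * c * (b * b)⁻¹ := by rw [e2]
          _ = _ := by group
  -- the three conjugates multiply to an element of `⟨u⟩`
  have hprod : EqU u c'' (c * c') := by
    have hP : c * c' * c'' ∈ D.U := D.U.mul_mem (D.U.mul_mem hc hc'U) hc''U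
    have hPT := (D.mem_U.1 hP).1
    have hβ : EqU u (b * (c * c' * c'') * b⁻¹) (c * c' * c'') := by
      rw [show b * (c * c' * c'') * b⁻¹ = b * c * b⁻¹ * (b * c' * b⁻¹) * (b * c'' * b⁻¹) by group,
        hb3, ← hc', ← hc'', show c * c' * c'' = c * (c' * c'') by group]
      exact D.symm (D.U_comm hc (T.mul_mem hc'T hc''T))
    have hfix : b * (c * c' * c'') = c * c' * c'' * b := by
      rcases hβ with e | e
      · exact mul_inv_eq_iff_eq_mul.1 e
      · exfalso
        generalize c * c' * c'' = P at e hPT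
        have h1 : ∀ {a d : G}, b * a * b⁻¹ = d → b * (a * u) * b⁻¹ = d * u := fun {a d} h => by
          rw [← h, show b * (a * u) * b⁻¹ = b * a * (u * b⁻¹) by group,
            (show Commute b u from D.bu).inv_left.symm.eq]
          group
        have h2 : b * (b * P * b⁻¹) * b⁻¹ = P := by
          rw [e, h1 e, mul_assoc, D.hu2, mul_one]
        have h3 : b * b * b * P * (b * b * b)⁻¹ = P * u := by
          calc b * b * b * P * (b * b * b)⁻¹ = b * (b * (b * P * b⁻¹) * b⁻¹) * b⁻¹ := by group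
            _ = P * u := by rw [h2, e]
        rw [hbbb, one_mul, inv_one, mul_one] at h3
        exact D.hu1 (left_eq_mul.1 h3)
    have hPS : EqU u (c * c' * c'') 1 := by
      rcases D.fb _ hPT hfix with e | e
      · exact Or.inl e
      · right; rw [one_mul]; exact e
    have h := D.mul T.one_mem (D.refl (c * c')⁻¹) hPS
    rw [inv_mul_cancel_left, mul_one, mul_inv_rev] at h
    refine D.trans h (D.trans (D.mul hcT (D.U_inv_eq hc'U) (D.U_inv_eq hc)) ?_)
    exact D.U_comm hc'U hcT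
  -- classification of `U`
  have hclass : ∀ a ∈ D.U, EqU u a 1 ∨ EqU u a c ∨ EqU u a c' ∨ EqU u a c'' := by
    intro a ha
    have haT := (D.mem_U.1 ha).1
    have hτa := (D.mem_U.1 (D.U_τ ha)).1
    have hd : EqU u (τ * (a * (τ * a * τ⁻¹)) * τ⁻¹) (a * (τ * a * τ⁻¹)) := by
      have e : τ * (a * (τ * a * τ⁻¹)) * τ⁻¹ = τ * a * τ⁻¹ * a := by
        calc τ * (a * (τ * a * τ⁻¹)) * τ⁻¹ = τ * a * τ⁻¹ * (τ * τ * a * (τ * τ)⁻¹) := by group
          _ = _ := by rw [D.τ2, inv_one, one_mul, mul_one]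
      rw [e]
      exact D.U_comm (D.U_τ ha) haT
    have small : ∀ {d : G}, d ∈ D.U → EqU u (d * (τ * d * τ⁻¹)) 1 → EqU u (τ * d * τ⁻¹) d := by
      intro d hd' h
      have h1 := D.mul T.one_mem (D.refl d⁻¹) h
      rw [inv_mul_cancel_left, mul_one] at h1
      exact D.trans h1 (D.U_inv_eq hd')
    rcases D.fixed_eq (D.U.mul_mem ha (D.U_τ ha)) hc hcS hcα hd with h | h
    · rcases D.fixed_eq ha hc hcS hcα (small ha h) with h' | h'
      · exact Or.inl h'
      · exact Or.inr (Or.inl h')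
    · have hac : EqU u (a * c' * (τ * (a * c') * τ⁻¹)) 1 := by
        have e : τ * (a * c') * τ⁻¹ = τ * a * τ⁻¹ * (c'' * u) := by
          rw [← hαc']; group
        rw [e]
        have h1 : EqU u (a * c' * (τ * a * τ⁻¹ * (c'' * u)))
            (a * (τ * a * τ⁻¹) * (c' * c'')) := by
          have s1 : EqU u (τ * a * τ⁻¹ * (c'' * u)) (τ * a * τ⁻¹ * c'') :=
            D.mul hc''T (D.refl _) (Or.inr rfl)
          have s2 := D.mul (T.mul_mem hτa hc''T) (D.refl (a * c')) s1
          refine D.trans s2 ?_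
          have s3 := D.mul hc''T (D.mul (T.mul_mem hτa hc'T) (D.refl a)
            (D.U_comm hc'U hτa)) (D.refl c'')
          simp only [← mul_assoc] at s3 ⊢
          exact s3
        refine D.trans h1 ?_
        have h2 : EqU u (c' * c'') c := by
          have h3 := D.mul (T.mul_mem hcT hc'T) (D.refl c') hprod
          refine D.trans h3 ?_
          have h4 := D.mul (T.mul_mem hc'T hc'T) (D.refl (1 : G)) (D.refl (c' * c'))
          have h5 : EqU u (c' * (c * c')) (c * (c' * c')) := by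
            have := D.mul hc'T (D.U_comm hc'U hcT) (D.refl c')
            simp only [mul_assoc] at this ⊢
            exact this
          refine D.trans h5 ?_
          have h6 := D.mul T.one_mem (D.refl c) (D.mem_U.1 hc'U).2.1
          rwa [mul_one] at h6
        have h7 := D.mul hcT h h2
        exact D.trans h7 (D.mem_U.1 hc).2.1
      have hacU := D.U.mul_mem ha hc'U
      rcases D.fixed_eq hacU hc hcS hcα (small hacU hac) with h' | h'
      · refine Or.inr (Or.inr (Or.inl ?_))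
        have := D.mul T.one_mem h' (D.refl (1 : G))
        have h8 := D.mul (T.inv_mem hc'T) h' (D.refl c'⁻¹)
        rw [mul_inv_cancel_right, one_mul] at h8
        exact D.trans h8 (D.U_inv_eq hc'U)
      · refine Or.inr (Or.inr (Or.inr ?_))
        have h8 := D.mul (T.inv_mem hc'T) h' (D.refl c'⁻¹)
        rw [mul_inv_cancel_right] at h8
        refine D.trans h8 (D.trans ?_ (D.symm hprod))
        exact D.mul hc'T (D.refl c) (D.U_inv_eq hc'U)
  -- the squares
  have hsq : c * c = u := by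
    rcases (D.mem_U.1 hc).2.1 with e | e
    swap
    · rw [e, one_mul]
    exfalso
    have e' : c' * c' = 1 := by
      rw [hc', show b * c * b⁻¹ * (b * c * b⁻¹) = b * (c * c) * b⁻¹ by group, e, mul_one,
        mul_inv_cancel]
    have e'' : c'' * c'' = 1 := by
      rw [hc'', show b * c' * b⁻¹ * (b * c' * b⁻¹) = b * (c' * c') * b⁻¹ by group, e', mul_one,
        mul_inv_cancel]
    have hcc : c * c' = c' * c := by
      have h2 : c * c' * (c * c') = 1 := by
        rcases D.symm hprod with h | h <;> rw [h]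
        · exact e''
        · rw [mul_assoc c'', ← mul_assoc u, D.cent c'' hc''T, mul_assoc c'', D.hu2, mul_one, e'']
      have h3 : c⁻¹ = c := inv_eq_of_mul_eq_one_right e
      have h4 : c'⁻¹ = c' := inv_eq_of_mul_eq_one_right e'
      rw [← inv_eq_of_mul_eq_one_right h2, mul_inv_rev, h3, h4]
    have key : ∀ v : G, v * v = 1 → (∀ t ∈ T, v * t = t * v) → τ * v = v * τ →
        τ * c' * τ⁻¹ = c * c' * v → False := by
      intro v hv hvc hvτ hv'
      have h1 : τ * (τ * c' * τ⁻¹) * τ⁻¹ = c' := by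
        calc τ * (τ * c' * τ⁻¹) * τ⁻¹ = τ * τ * c' * (τ * τ)⁻¹ := by group
          _ = c' := by rw [D.τ2, inv_one, one_mul, mul_one]
      have hv1 : τ * v * τ⁻¹ = v := by rw [hvτ, mul_inv_cancel_right]
      rw [hv', show τ * (c * c' * v) * τ⁻¹ = τ * c * τ⁻¹ * (τ * c' * τ⁻¹) * (τ * v * τ⁻¹) by group,
        hcα', hv', hv1, show c * u * (c * c' * v) * v = c * u * (c * c') * (v * v) by group, hv,
        mul_one, mul_assoc c u, D.cent _ (T.mul_mem hcT hc'T), ← mul_assoc, ← mul_assoc, e,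
        one_mul] at h1
      exact D.hu1 (mul_eq_left.1 h1)
    rcases hprod with h | h <;> rw [h] at hαc'
    · exact key u D.hu2 D.cent D.τu hαc'
    · rw [mul_assoc (c * c') u u, D.hu2] at hαc'
      exact key 1 (one_mul 1) (fun t _ => by rw [one_mul, mul_one]) (by rw [mul_one, one_mul]) hαc'
  have sq_conj : ∀ {a d : G}, EqU u a d → d ∈ T → d * d = u → a * a = u := by
    intro a d h hd hd'
    rcases h with rfl | rfl
    · exact hd'
    · rw [mul_assoc d, ← mul_assoc u, D.cent d hd, mul_assoc d, D.hu2, mul_one, hd']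
  have hsq' : c' * c' = u := by
    rw [hc', show b * c * b⁻¹ * (b * c * b⁻¹) = b * (c * c) * b⁻¹ by group, hsq, D.bu,
      mul_inv_cancel_right]
  have hsq'' : c'' * c'' = u := by
    rw [hc'', show b * c' * b⁻¹ * (b * c' * b⁻¹) = b * (c' * c') * b⁻¹ by group, hsq', D.bu,
      mul_inv_cancel_right]
  -- every element lies in `U`
  have htop : ∀ v ∈ T, v ∈ D.U := by
    by_contra hcon
    push Not at hcon
    obtain ⟨v0, hv0, hv0U⟩ := hcon
    let UT : Subgroup T := D.U.subgroupOf T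
    haveI : Fact (Nat.Prime 2) := ⟨Nat.prime_two⟩
    let α : T → T := fun t => ⟨τ * t * τ⁻¹, D.τT t t.2⟩
    let f : T ⧸ UT → T ⧸ UT := Quotient.map' α (by
      intro a d h
      rw [QuotientGroup.leftRel_apply, Subgroup.mem_subgroupOf] at h ⊢
      have h' := D.U_τ h
      simpa [α, mul_assoc] using h')
    have hf : Function.Involutive f := by
      intro q
      obtain ⟨a, rfl⟩ := QuotientGroup.mk_surjective q
      refine congrArg (QuotientGroup.mk (s := UT)) (Subtype.ext ?_)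
      show τ * (τ * a * τ⁻¹) * τ⁻¹ = a
      calc τ * (τ * (a : G) * τ⁻¹) * τ⁻¹ = τ * τ * a * (τ * τ)⁻¹ := by group
        _ = a := by rw [D.τ2, inv_one, one_mul, mul_one]
    haveI : Fintype (T ⧸ UT) := Fintype.ofFinite _
    have hcard : 2 ∣ Fintype.card (T ⧸ UT) := by
      rw [← Nat.card_eq_fintype_card]
      obtain ⟨k, hk⟩ := hT.index UT
      change Nat.card (T ⧸ UT) = 2 ^ k at hk
      rw [hk]
      refine dvd_pow_self 2 fun hk0 => ?_
      rw [hk0, pow_zero, ← Subgroup.index_eq_card, Subgroup.index_eq_one] at hk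
      exact hv0U (Subgroup.mem_subgroupOf.1 (hk ▸ mem_top (⟨v0, hv0⟩ : T) :
        (⟨v0, hv0⟩ : T) ∈ UT))
    have h1 : hf.toPerm f ((1 : T) : T ⧸ UT) = ((1 : T) : T ⧸ UT) := by
      show ((α 1 : T) : T ⧸ UT) = _
      rw [show α 1 = 1 from Subtype.ext (by
        show τ * ((1 : T) : G) * τ⁻¹ = 1
        rw [OneMemClass.coe_one, mul_one, mul_inv_cancel])]
    obtain ⟨q, hq, hq1⟩ := Equiv.Perm.exists_fixed_point_of_prime' (p := 2) (n := 1) hcard
      (σ := hf.toPerm f) (by
        refine Equiv.ext fun a => ?_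
        rw [pow_one, pow_two, Equiv.Perm.mul_apply]
        exact hf a) h1
    obtain ⟨v, rfl⟩ := QuotientGroup.mk_surjective q
    apply hq1
    rw [QuotientGroup.eq, Subgroup.mem_subgroupOf]
    simp only [Subgroup.coe_mul, Subgroup.coe_inv, mul_one]
    refine D.U.inv_mem ?_
    have hd : (v : G)⁻¹ * (τ * v * τ⁻¹) ∈ D.U := by
      have e : ((v : T) : T ⧸ UT) = ((α v : T) : T ⧸ UT) := hq.symm
      rw [QuotientGroup.eq, Subgroup.mem_subgroupOf] at e
      simpa [α] using e
    set d := (v : G)⁻¹ * (τ * v * τ⁻¹) with hdd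
    have hdα : EqU u (τ * d * τ⁻¹) d := by
      have e : τ * d * τ⁻¹ = d⁻¹ := by
        rw [hdd]
        calc τ * ((v : G)⁻¹ * (τ * v * τ⁻¹)) * τ⁻¹
            = (τ * v * τ⁻¹)⁻¹ * (τ * τ * v * (τ * τ)⁻¹) := by group
          _ = _ := by rw [D.τ2, inv_one, one_mul, mul_one]; group
      rw [e]; exact D.U_inv_eq hd
    obtain ⟨q, hq, hqd⟩ : ∃ q ∈ D.U, τ * q * τ⁻¹ = q * d := by
      have hone : ∀ q ∈ D.U, ∀ d' : G, τ * q * τ⁻¹ = q * d' → EqU u d d' →
          ∃ q ∈ D.U, τ * q * τ⁻¹ = q * d := by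
        intro q hq d' hq' h
        rcases h with rfl | h
        · exact ⟨q, hq, hq'⟩
        · refine ⟨c * q, D.U.mul_mem hc hq, ?_⟩
          have hd' : d' ∈ T := by
            have := T.mul_mem (T.inv_mem (D.mem_U.1 hq).1) (D.τT q (D.mem_U.1 hq).1)
            rwa [hq', inv_mul_cancel_left] at this
          rw [h, show τ * (c * q) * τ⁻¹ = τ * c * τ⁻¹ * (τ * q * τ⁻¹) by group, hq', hcα',
            mul_assoc c u, D.cent _ (T.mul_mem (D.mem_U.1 hq).1 hd')]
          group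
      rcases D.fixed_eq hd hc hcS hcα hdα with h | h
      · exact hone 1 D.U.one_mem 1 (by group) h
      · refine hone c' hc'U (c'⁻¹ * (c'' * u)) (by rw [mul_inv_cancel_left, hαc']) ?_
        have h1 : EqU u (c'⁻¹ * (c'' * u)) (c' * (c * c')) := D.mul (T.mul_mem hcT hc'T)
          (D.U_inv_eq hc'U) (D.trans (Or.inr rfl) hprod)
        have h2 : EqU u (c' * (c * c')) c := by
          have := D.mul hc'T (D.U_comm hc'U hcT) (D.refl c')
          rw [mul_assoc, mul_assoc c] at this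
          refine D.trans this ?_
          have h6 := D.mul T.one_mem (D.refl c) (D.mem_U.1 hc'U).2.1
          rwa [mul_one] at h6
        exact D.trans h (D.symm (D.trans h1 h2))
    have hfix : τ * ((v : G) * q⁻¹) = (v : G) * q⁻¹ * τ := by
      refine mul_inv_eq_iff_eq_mul.1 ?_
      rw [show τ * ((v : G) * q⁻¹) * τ⁻¹ = (v : G) * ((v : G)⁻¹ * (τ * v * τ⁻¹)) *
        (τ * q * τ⁻¹)⁻¹ by group, ← hdd, hqd]
      group
    have := D.fτ _ (T.mul_mem v.2 (T.inv_mem (D.mem_U.1 hq).1)) hfix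
    have hS : EqU u ((v : G) * q⁻¹) 1 := this.imp id fun e => by rw [one_mul]; exact e
    have := D.U.mul_mem (D.S_le_U hS) hq
    rwa [inv_mul_cancel_right] at this
  rcases hclass w (htop w hw) with h | h | h | h
  · exact hwS h
  · exact D.hu1 ((sq_conj h hcT hsq).symm.trans hw2)
  · exact D.hu1 ((sq_conj h hc'T hsq').symm.trans hw2)
  · exact D.hu1 ((sq_conj h hc''T hsq'').symm.trans hw2)

end TwoData

end CfsgLib.SNineThree.TwistAux
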