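import Cfsg.Agent.Lib.SNineThree.TwistTransfer
import Cfsg.Agent.Lib.SNineThree.TwistTwo
import Cfsg.Agent.Lib.SNineThree.TwistSylow
import Cfsg.Agent.Lib.SNineThree.Model0
import Cfsg.Agent.Lib.Base.Cores
import Cfsg.Agent.Lib.Involutions.ZStar.Main

/-!
The twisted case of the normalizer of `⟨x⟩`: `u = τ0 iota` is the only involution of a Sylow
two-subgroup of the kernel `K` of the transfer, so `J` lies in the odd core of `K`.
-/

set_option autoImplicit false
set_option linter.unusedSectionVars false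
set_option linter.style.haveILetI false
set_option maxHeartbeats 1000000

namespace CfsgLib.SNineThree.TwistAux

open Equiv Subgroup Cfsg
open CfsgLib.SNineThree.SetupModel
open CfsgLib.ANineThree (P9 x p y z z2 z3)

universe u

variable {G : Type u} [Group G] [Finite G] (L : Loc S2 G) (F : Facts L)

theorem bb_S2 (L : Loc S2 G) : bb ∈ S2 := L.J0_le mem_facts.2.2.2.2.1

theorem comm_bu : L.el bb * L.el uu = L.el uu * L.el bb :=
  (L.commute_el (bb_S2 L) mem_facts.2.2.1).2 basic_facts.2.2.2.2.2.2.2.1.symm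

theorem el_cube {σ : P9} (hσ : σ ∈ S2) (h : σ ^ 3 = 1) : L.el σ ^ 3 = 1 := by
  rw [← L.el_pow hσ, h, L.el_one]

theorem el_bb_cube : L.el bb ^ 3 = 1 :=
  el_cube L (bb_S2 L) basic_facts.2.2.2.2.2.2.2.2.2.2.1

theorem W_u (hWτ : W L (L.el τ0) = -1) (hiota : IsConj (L.el iota) (L.el τ0)) :
    W L (L.el uu) = 1 := by
  have hWi : W L (L.el iota) = -1 := by
    obtain ⟨g, hg⟩ := isConj_iff.1 hiota
    rw [← hg, map_mul, map_mul, map_inv, mul_right_comm, mul_inv_cancel, one_mul] at hWτ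
    exact hWτ
  rw [show uu = τ0 * iota from rfl, L.el_mul mem_facts.1 mem_facts.2.1, map_mul, hWτ, hWi]
  rfl

include F

/-- The involution is isolated in the kernel. -/
theorem isolated (hC : centralizer ({L.el τ0} : Set G) ≤ L.e.range)
    (hWu : W L (L.el uu) = 1) (hWτ : W L (L.el τ0) = -1) :
    IsIsolatedInvolution (⟨L.el uu, hWu⟩ : (W L).ker) := by
  haveI : Fact (Nat.Prime 3) := ⟨Nat.prime_three⟩
  have huS := mem_facts.2.2.1
  have hbS := bb_S2 L
  have hu2 := sq_el L huS basic_facts.2.2.2.1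
  have hu1 := el_ne L huS basic_facts.2.2.2.2.1
  have hτ2 := sq_el L mem_facts.1 basic_facts.1
  have hτu : L.el τ0 * L.el uu = L.el uu * L.el τ0 :=
    (L.commute_el mem_facts.1 huS).2 basic_facts.2.2.2.2.2.2.1
  have hτb : L.el τ0 * L.el bb * (L.el τ0)⁻¹ = (L.el bb)⁻¹ := by
    rw [← L.el_conj mem_facts.1 hbS, basic_facts.2.2.2.2.2.2.2.2.1, L.el_inv hbS]
  have hb3 := el_bb_cube L
  have hbo : orderOf (L.el bb) = 3 :=
    orderOf_eq_prime hb3 (el_ne L hbS basic_facts.2.2.2.2.2.2.2.2.2.1)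
  set M : Subgroup G := (W L).ker ⊓ centralizer ({L.el uu} : Set G) with hM
  have hMu : ∀ g ∈ M, g * L.el uu = L.el uu * g := fun g hg =>
    mem_centralizer_singleton_iff.1 hg.2
  have huM : L.el uu ∈ M := ⟨hWu, mem_centralizer_singleton_iff.2 rfl⟩
  have hbM : L.el bb ∈ M := ⟨W_cube L hb3, mem_centralizer_singleton_iff.2 (comm_bu L)⟩
  -- the Sylow three-subgroup of `M`
  let b' : M := ⟨L.el bb, hbM⟩
  have hbo' : orderOf b' = 3 := by rw [← Subgroup.orderOf_coe]; exact hbo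
  obtain ⟨P, hP⟩ := (IsPGroup.of_card (p := 3) (n := 1)
    (by rw [Nat.card_zpowers, hbo', pow_one]) : IsPGroup 3 (zpowers b')).exists_le_sylow
  have hPb : (P : Subgroup M) = zpowers b' := by
    refine (eq_of_le_of_card_ge hP ?_).symm
    obtain ⟨n, hn⟩ := P.isPGroup'.exists_card_eq
    rw [Nat.card_zpowers, hbo', hn]
    rcases n with _ | _ | n
    · norm_num
    · norm_num
    · exfalso
      refine nine_not_dvd L F ?_
      have h := (hn ▸ card_subgroup_dvd_card (P : Subgroup M) : 3 ^ (n + 2) ∣ Nat.card M)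
      exact ((show 9 ∣ 3 ^ (n + 2) from ⟨3 ^ n, by rw [pow_add]; ring⟩).trans h).trans
        (Subgroup.card_dvd_of_le inf_le_right)
  have hNC : normalizer ((P : Subgroup M) : Set M) ≤ centralizer ((P : Subgroup M) : Set M) := by
    intro g hg
    rw [hPb] at hg ⊢
    obtain ⟨i, hi⟩ := mem_zpowers_iff.1 ((mem_normalizer_iff.1 hg b').1 (mem_zpowers b'))
    have hi' : (g : G) * L.el bb * (g : G)⁻¹ = L.el bb ^ i := by
      have := congrArg Subtype.val hi
      simpa using this.symm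
    have hrange : (g : G) ∈ L.e.range := by
      refine FactsAux.mem_range_of_conj L fun j hj => ?_
      obtain ⟨i', hi2⟩ := mem_zpowers_iff.1
        ((mem_normalizer_iff.1 (inv_mem hg) b').1 (mem_zpowers b'))
      have hi2' : (g : G)⁻¹ * L.el bb * g = L.el bb ^ i' := by
        have := congrArg Subtype.val hi2
        simpa using this.symm
      have hbJ : L.el bb ∈ L.J := L.mem_J.2 ⟨bb, mem_facts.2.2.2.2.1, rfl⟩
      have hc : (g : G) * j * (g : G)⁻¹ * L.el bb = L.el bb * ((g : G) * j * (g : G)⁻¹) := by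
        have h := (Commute.zpow_right
          (show Commute j (L.el bb) from FactsAux.J_comm L hj hbJ) i').eq
        calc (g : G) * j * (g : G)⁻¹ * L.el bb
            = g * (j * ((g : G)⁻¹ * L.el bb * g)) * (g : G)⁻¹ := by group
          _ = g * ((g : G)⁻¹ * L.el bb * g * j) * (g : G)⁻¹ := by rw [hi2', h]
          _ = _ := by group
      obtain ⟨σ, hσ, hσe⟩ := L.mem_range.1 (cent_bb L F (mem_centralizer_singleton_iff.2 hc))
      obtain ⟨c, rfl⟩ := exists_mS hσ
      have h81 : mS c ^ 81 = 1 := pow81 L hσ (k := 1) (by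
        rw [pow_one, hσe, conj_pow, FactsAux.J_cube L hj, mul_one, mul_inv_cancel])
      rw [← hσe] at hc ⊢
      exact L.mem_J.2 ⟨_, code_bcube c ((L.commute_el hσ hbS).1 hc) h81, rfl⟩
    obtain ⟨σ, hσ, hσe⟩ := L.mem_range.1 hrange
    have hσu : σ * uu = uu * σ := (L.commute_el hσ huS).1 (hσe ▸ hMu g g.2)
    rw [zpow_eq_zpow_emod i (show L.el bb ^ (3 : ℤ) = 1 by exact_mod_cast hb3)] at hi'
    rcases (show i % 3 = 0 ∨ i % 3 = 1 ∨ i % 3 = 2 by omega) with e | e | e <;> rw [e] at hi'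
    · exfalso
      rw [zpow_zero, conj_eq_one_iff] at hi'
      exact el_ne L hbS basic_facts.2.2.2.2.2.2.2.2.2.1 hi'
    · rw [zpow_one] at hi'
      refine mem_centralizer_iff.2 fun a ha => ?_
      obtain ⟨k, rfl⟩ := mem_zpowers_iff.1 ha
      exact ((Commute.zpow_right (show Commute g b' from
        Subtype.ext (mul_inv_eq_iff_eq_mul.1 hi')) k).eq).symm
    · exfalso
      have hinv : σ * bb * σ⁻¹ = bb⁻¹ := by
        refine L.el_inj (S2.mul_mem (S2.mul_mem hσ hbS) (S2.inv_mem hσ)) (S2.inv_mem hbS) ?_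
        rw [L.el_conj hσ hbS, L.el_inv hbS, hσe, hi']
        refine eq_inv_of_mul_eq_one_left ?_
        rw [zpow_two, mul_assoc, ← pow_two, ← pow_succ', hb3]
      obtain ⟨c, rfl⟩ := exists_mS hσ
      have hWb : ∀ k : ℕ, W L (L.el (bb ^ k * τ0)) = -1 := fun k => by
        rw [L.el_mul (S2.pow_mem hbS k) mem_facts.1, L.el_pow hbS, map_mul, map_pow,
          W_cube L hb3, one_pow, one_mul, hWτ]
      have hg1 : W L (g : G) = 1 := g.2.1
      obtain ⟨k, hk | hk⟩ := code_inv c hσu hinv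
      · rw [← hσe, hk, hWb] at hg1
        exact absurd hg1 (by decide)
      · rw [← hσe, hk, L.el_mul (S2.mul_mem (S2.pow_mem hbS _) mem_facts.1) huS, map_mul, hWb,
          hWu] at hg1
        exact absurd hg1 (by decide)
  set R0 := (MonoidHom.transferSylow P hNC).ker with hR0
  have hcomp := MonoidHom.ker_transferSylow_isComplement' P hNC
  set R : Subgroup G := R0.map M.subtype with hR
  have hRM : R ≤ M := map_subtype_le _
  have h3R : (Nat.card R).Coprime 3 := by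
    rw [hR, card_map_of_injective M.subtype_injective]
    exact ((Nat.prime_three.coprime_iff_not_dvd).2
      (MonoidHom.not_dvd_card_ker_transferSylow P hNC)).symm
  have hidx : R0.index = 3 := by
    rw [hcomp.symm.index_eq_card, hPb, Nat.card_zpowers, hbo']
  -- the involutions of `M` lie in `R`
  have hinvR : ∀ v ∈ M, v * v = 1 → v ∈ R := by
    intro v hv hv2
    have h1 := Subgroup.pow_index_mem R0 (⟨v, hv⟩ : M)
    rw [hidx, pow_succ, pow_two, show (⟨v, hv⟩ : M) * ⟨v, hv⟩ = 1 from Subtype.ext hv2,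
      one_mul] at h1
    exact ⟨_, h1, rfl⟩
  -- `R` is invariant
  have hRconj : ∀ g : G, (∀ a ∈ M, g * a * g⁻¹ ∈ M) → ∀ r ∈ R, g * r * g⁻¹ ∈ R := by
    rintro g hg _ ⟨r, hr, rfl⟩
    have h0 : ∀ a : M, a ∈ R0 ↔ (orderOf a).Coprime 3 := by
      intro a
      constructor
      · intro ha
        refine Nat.Coprime.coprime_dvd_left (Subgroup.orderOf_dvd_natCard R0 ha) ?_
        rw [← card_map_of_injective M.subtype_injective (K := R0), ← hR]
        exact h3R
      · intro ha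
        obtain ⟨m, hm⟩ := exists_pow_eq_self_of_coprime ha.symm
        rw [← hm, ← hidx]
        exact pow_mem (Subgroup.pow_index_mem R0 a) m
    refine ⟨⟨g * r * g⁻¹, hg r r.2⟩, (h0 _).2 ?_, rfl⟩
    rw [← Subgroup.orderOf_coe]
    show (orderOf (MulAut.conj g (r : G))).Coprime 3
    rw [MulEquiv.orderOf_eq, Subgroup.orderOf_coe]
    exact (h0 r).1 hr
  have hMb : ∀ a ∈ M, L.el bb * a * (L.el bb)⁻¹ ∈ M := fun a ha =>
    mul_mem (mul_mem hbM ha) (inv_mem hbM)
  have hMτ : ∀ a ∈ M, L.el τ0 * a * (L.el τ0)⁻¹ ∈ M := fun a ha => by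
    refine ⟨?_, mem_centralizer_singleton_iff.2 ?_⟩
    · show W L (L.el τ0 * a * (L.el τ0)⁻¹) = 1
      rw [map_mul, map_mul, map_inv, mul_right_comm, mul_inv_cancel, one_mul]
      exact ha.1
    · have h := (show Commute (L.el τ0) (L.el uu) from hτu)
      exact ((h.mul_left (show Commute a (L.el uu) from hMu a ha)).mul_left h.inv_left).eq
  -- fixed elements
  have hfb : ∀ r ∈ R, L.el bb * r = r * L.el bb → r = 1 ∨ r = L.el uu := by
    intro r hr hc
    obtain ⟨σ, hσ, hσe⟩ :=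
      L.mem_range.1 (cent_bb L F (mem_centralizer_singleton_iff.2 hc.symm))
    obtain ⟨c, rfl⟩ := exists_mS hσ
    obtain ⟨k, hk⟩ := code_ub c ((L.commute_el hσ huS).1 (hσe ▸ hMu r (hRM hr)))
      ((L.commute_el hσ hbS).1 (hσe ▸ hc.symm))
    have hcop : (orderOf r).Coprime 3 :=
      Nat.Coprime.coprime_dvd_left (Subgroup.orderOf_dvd_natCard R hr) h3R
    have hk0 : k = 0 := by
      have key : L.el bb ^ k.1 ∈ R → k = 0 := fun hm => by
        have h1 : orderOf (L.el bb ^ k.1) = 1 :=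
          Nat.eq_one_of_dvd_coprimes h3R (Subgroup.orderOf_dvd_natCard R hm)
            (orderOf_dvd_of_pow_eq_one (by rw [← pow_mul, mul_comm, pow_mul, hb3, one_pow]))
        have h2 := orderOf_dvd_of_pow_eq_one (orderOf_eq_one_iff.1 h1)
        rw [hbo] at h2
        exact Fin.ext (Nat.eq_zero_of_dvd_of_lt h2 k.2)
      refine key ?_
      rcases hk with e | e
      · rw [← L.el_pow hbS, ← e, hσe]; exact hr
      · have h := mul_mem hr (hinvR _ huM hu2)
        rwa [← hσe, e, L.el_mul (S2.pow_mem hbS _) huS, mul_assoc, hu2, mul_one,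
          L.el_pow hbS] at h
    subst hk0
    rcases hk with e | e <;> rw [← hσe, e]
    · left; rw [Fin.val_zero, pow_zero, L.el_one]
    · right; rw [Fin.val_zero, pow_zero, one_mul]
  have hfτ : ∀ r ∈ R, L.el τ0 * r = r * L.el τ0 → r = 1 ∨ r = L.el uu := by
    intro r hr hc
    obtain ⟨σ, hσ, hσe⟩ := L.mem_range.1 (hC (mem_centralizer_singleton_iff.2 hc.symm))
    obtain ⟨c, rfl⟩ := exists_mS hσ
    have hW : W L (L.el (mS c)) = 1 := hσe ▸ (hRM hr).1
    rcases code_tu c ((L.commute_el hσ mem_facts.1).1 (hσe ▸ hc.symm))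
      ((L.commute_el hσ huS).1 (hσe ▸ hMu r (hRM hr))) with e | e | e | e
    · left; rw [← hσe, e, L.el_one]
    · right; rw [← hσe, e]
    · rw [e, hWτ] at hW; exact absurd hW (by decide)
    · rw [e, L.el_mul mem_facts.1 huS, map_mul, hWτ, hWu] at hW; exact absurd hW (by decide)
  have hucent : ∀ r ∈ R, L.el uu * r = r * L.el uu := fun r hr => (hMu r (hRM hr)).symm
  obtain ⟨T, hTb, hTτ⟩ := exists_invariant hb3 hτb (hRconj _ hMb) (hRconj _ hMτ) h3R
    (fun r hr hc t ht => by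
      rcases hfb r hr hc with rfl | rfl
      · rw [one_mul, mul_one]
      · exact hucent t ht)
  haveI : Fact (Nat.Prime 2) := ⟨Nat.prime_two⟩
  have hT2 : IsPGroup 2 T.1 := IsPGroup.of_card T.2.2
  have into_T : ∀ v ∈ R, v * v = 1 → ∃ r ∈ R, r⁻¹ * v * r ∈ T.1 := by
    intro v hv hv2
    have hp : IsPGroup 2 (zpowers (⟨v, hv⟩ : R)) := by
      intro a
      obtain ⟨i, hi⟩ := mem_zpowers_iff.1 a.2
      refine ⟨1, Subtype.ext ?_⟩
      rw [pow_one, pow_two, Subgroup.coe_mul, ← hi, ← Commute.mul_zpow (Commute.refl _)]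
      rw [show (⟨v, hv⟩ : R) * ⟨v, hv⟩ = 1 from Subtype.ext hv2, one_zpow]
      rfl
    obtain ⟨Q, hQ⟩ := hp.exists_le_sylow
    obtain ⟨r, hr, hr'⟩ := exists_conj T (syl2Equiv R Q)
    exact ⟨r, hr, (hr' v).1 ⟨⟨v, hv⟩, hQ (mem_zpowers _), rfl⟩⟩
  have huT : L.el uu ∈ T.1 := by
    obtain ⟨r, hr, h⟩ := into_T _ (hinvR _ huM hu2) hu2
    rwa [mul_assoc, hucent r hr, inv_mul_cancel_left] at h
  have D : TwoData T.1 (L.el uu) (L.el τ0) (L.el bb) :=
    { hu := huT, hu2 := hu2, hu1 := hu1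
      cent := fun t ht => hucent t (T.2.1 ht)
      τ2 := hτ2, b3 := hb3, τT := hTτ, bT := hTb, τb := hτb
      fτ := fun t ht => hfτ t (T.2.1 ht)
      fb := fun t ht => hfb t (T.2.1 ht)
      τu := hτu, bu := comm_bu L }
  -- isolation
  have ho : orderOf (⟨L.el uu, hWu⟩ : (W L).ker) = 2 :=
    orderOf_eq_prime (Subtype.ext (by rw [SubmonoidClass.coe_pow, pow_two]; exact hu2))
      fun e => hu1 (congrArg Subtype.val e)
  refine ⟨ho, fun g hg => Subtype.ext ?_⟩
  set v := (g : G) * L.el uu * (g : G)⁻¹ with hv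
  show v = L.el uu
  have hv2 : v * v = 1 := by
    rw [hv, show (g : G) * L.el uu * (g : G)⁻¹ * (g * L.el uu * (g : G)⁻¹) =
      g * (L.el uu * L.el uu) * (g : G)⁻¹ by group, hu2, mul_one, mul_inv_cancel]
  have hgc : L.el uu * v = v * L.el uu := by
    have := congrArg Subtype.val hg.eq
    simp only [Subgroup.coe_mul, Subgroup.coe_inv] at this
    exact this
  have hvM : v ∈ M := by
    rw [hM, Subgroup.mem_inf]
    exact ⟨mul_mem (mul_mem g.2 hWu) (inv_mem g.2), mem_centralizer_singleton_iff.2 hgc.symm⟩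
  obtain ⟨r, hr, h⟩ := into_T v (hinvR v hvM hv2) hv2
  have hne : r⁻¹ * v * r ≠ 1 := fun e => hu1 (by
    have : v = 1 := by
      calc v = r * (r⁻¹ * v * r) * r⁻¹ := by group
        _ = 1 := by rw [e, mul_one, mul_inv_cancel]
    rw [hv, conj_eq_one_iff] at this
    exact this)
  have he := (D.unique hT2 h (by
    rw [show r⁻¹ * v * r * (r⁻¹ * v * r) = r⁻¹ * (v * v) * r by group, hv2, mul_one,
      inv_mul_cancel])).resolve_left hne
  calc v = r * (r⁻¹ * v * r) * r⁻¹ := by group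
    _ = L.el uu := by rw [he, ← hucent r hr, mul_inv_cancel_right]

omit F

/-- A conjugation inverting an element of odd order. -/
theorem fix_of_odd {σ a : P9} (h : σ * a * σ⁻¹ = a ∨ σ * a * σ⁻¹ = a⁻¹) {n : ℕ} (hn : σ ^ (2 * n + 1) = 1) :
    σ * a * σ⁻¹ = a := by
  have h2 : Commute (σ * σ) a := by
    refine mul_inv_eq_iff_eq_mul.1 ?_
    rw [show σ * σ * a * (σ * σ)⁻¹ = σ * (σ * a * σ⁻¹) * σ⁻¹ by group]
    rcases h with e | e <;> rw [e]
    · exact e
    · rw [← conj_inv, e, inv_inv]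
  have hσ : σ = (σ * σ) ^ (n + 1) := by
    rw [← pow_two, ← pow_mul, show 2 * (n + 1) = 2 * n + 1 + 1 by ring, pow_succ, hn, one_mul]
  rw [hσ]
  exact mul_inv_eq_iff_eq_mul.2 (h2.pow_left (n + 1)).eq

end CfsgLib.SNineThree.TwistAux

namespace CfsgLib.SNineThree

open Equiv Subgroup Cfsg TwistAux
open CfsgLib.SNineThree.SetupModel
open CfsgLib.ANineThree (P9 x p y z z2 z3)

universe u

/-- The twisted case of the normalizer of `⟨x⟩`. -/
theorem twist (hF : StmtFacts.{u}) (hA : StmtAxis.{u}) (hE : StmtEven.{u}) :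
    StmtTwist.{u} := by
  intro G _ _ L hiota
  have F : Facts L := hF L TwistAux.S2_le_B mem_facts.2.2.2.1
  have hC := cent_tau_le L F hA
  have hWτ := W_tau L F hC
  have hWu := W_u L hWτ hiota
  have hiso := isolated L F hC hWu hWτ
  have hpS := mem_facts.2.2.2.1
  set O : Subgroup G := oddCore G ⊓ (W L).ker with hO
  haveI : (oddCore G).Normal := by unfold Cfsg.oddCore; infer_instance
  haveI hOn : O.Normal := inferInstance
  have hOeq : (oddCore (W L).ker).map (W L).ker.subtype = O :=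
    CfsgLib.Base.map_pPrimeCore_eq_inf (p := 2) (W L).ker
  have hinv : ∀ a : G, a ^ 3 = 1 → L.el uu * a * (L.el uu)⁻¹ = a⁻¹ → a ∈ O := by
    intro a ha hu
    have haK : a ∈ (W L).ker := W_cube L ha
    have h1 := CfsgLib.Involutions.ZStar.centralModCore hiso ⟨a, haK⟩
    have h2 : L.el uu * a * (L.el uu)⁻¹ * a⁻¹ ∈ O := hOeq ▸ ⟨_, h1, rfl⟩
    rw [hu] at h2
    have h3 : a⁻¹ * a⁻¹ = a := by
      rw [← mul_inv_rev]
      refine inv_eq_of_mul_eq_one_right ?_
      rw [← pow_two, ← pow_succ, ha]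
    rwa [h3] at h2
  have hz3S : z3 ∈ S2 := L.J0_le mem_facts.2.2.2.2.2.2.1
  have hz3 : L.el z3 ∈ O := hinv _ (FactsAux.J_cube L (L.mem_J.2 ⟨z3, mem_facts.2.2.2.2.2.2.1, rfl⟩))
    (by rw [← L.el_conj mem_facts.2.2.1 hz3S, basic_facts.2.2.2.2.2.2.2.2.2.2.2.2.2.1,
      L.el_inv hz3S])
  have hp : L.el p ∈ O := hinv _ (TwistAux.el_cube L hpS basic_facts.2.2.2.2.2.2.2.2.2.2.2.1)
    (by rw [← L.el_conj mem_facts.2.2.1 hpS, basic_facts.2.2.2.2.2.2.2.2.2.2.2.2.1,
      L.el_inv hpS])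
  have hz : L.el z ∈ O := by
    rw [← basic_facts.2.2.2.2.2.2.2.2.2.2.2.2.2.2.1, L.el_conj hpS hz3S]
    exact hOn.conj_mem _ hz3 _
  have hz2 : L.el z2 ∈ O := by
    rw [← basic_facts.2.2.2.2.2.2.2.2.2.2.2.2.2.2.2.1,
      L.el_conj hpS (L.J0_le mem_facts.2.2.2.2.2.2.2.1)]
    exact hOn.conj_mem _ hz _
  have hJO : ∀ σ ∈ J0, L.el σ ∈ O := by
    intro σ hσ
    rw [J0_eq] at hσ
    have key : σ ∈ S2 ∧ L.el σ ∈ O := by
      induction hσ using Subgroup.closure_induction with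
      | mem a ha =>
        simp only [Set.mem_insert_iff, Set.mem_singleton_iff] at ha
        rcases ha with rfl | rfl | rfl
        · exact ⟨L.J0_le mem_facts.2.2.2.2.2.2.2.1, hz⟩
        · exact ⟨L.J0_le mem_facts.2.2.2.2.2.2.2.2.1, hz2⟩
        · exact ⟨hz3S, hz3⟩
      | one => exact ⟨S2.one_mem, by rw [L.el_one]; exact one_mem O⟩
      | mul a c _ _ ha hc =>
        exact ⟨S2.mul_mem ha.1 hc.1, by rw [L.el_mul ha.1 hc.1]; exact mul_mem ha.2 hc.2⟩
      | inv a _ ha => exact ⟨S2.inv_mem ha.1, by rw [L.el_inv ha.1]; exact inv_mem ha.2⟩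
    exact key.2
  have hJle : L.J ≤ O := fun g hg => by
    obtain ⟨σ, hσ, rfl⟩ := L.mem_J.1 hg
    exact hJO σ hσ
  have hS : ∀ σ : P9, σ ∈ S1 ⊓ Bev ↔ σ ∈ S2 ∧ L.el σ ∈ O := by
    intro σ
    constructor
    · rintro ⟨h1, h2⟩
      refine ⟨S1_le_S2 h1, ?_⟩
      obtain ⟨c, π, rfl⟩ := exists_of_mem_S1 h1
      have hπ : bpar (wm (π, fun _ => 1)) = 1 := by
        have := (mem_Bev.1 h2).2
        rwa [bpar_mul (J0_le_B (jv_mem c)) (wm_mem_B _), bpar_jv, one_mul] at this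
      obtain ⟨k, hk⟩ := code_even π hπ
      rw [hk, L.el_mul (L.J0_le (jv_mem c)) (S2.pow_mem hpS _), L.el_pow hpS]
      exact mul_mem (hJO _ (jv_mem c)) (pow_mem hp _)
    · rintro ⟨hσ, hmem⟩
      obtain ⟨hB, hx⟩ := mem_S2.1 hσ
      have hodd : Odd (Nat.card O) :=
        (CfsgLib.Base.odd_card_oddCore G).of_dvd_nat (Subgroup.card_dvd_of_le inf_le_left)
      obtain ⟨n, hn⟩ := hodd
      have hpow : σ ^ (2 * n + 1) = 1 := L.el_inj (S2.pow_mem hσ _) S2.one_mem (by
        rw [L.el_pow hσ, L.el_one, ← hn]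
        exact congrArg Subtype.val (pow_card_eq_one' (x := (⟨L.el σ, hmem⟩ : O))))
      have hbp : bpar σ = 1 := by
        have hm : ∀ m : ℕ, bpar (σ ^ m) = bpar σ ^ m := fun m => by
          induction m with
          | zero => rw [pow_zero, pow_zero, bpar_one]
          | succ m ih => rw [pow_succ, bpar_mul (B.pow_mem hB m) hB, ih, pow_succ]
        have h := hm (2 * n + 1)
        rw [hpow, bpar_one, pow_succ, pow_mul, Int.units_sq, one_pow, one_mul] at h
        exact h.symm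
      exact ⟨mem_S1.2 ⟨hB, mul_inv_eq_iff_eq_mul.1 (fix_of_odd hx hpow)⟩,
        mem_Bev.2 ⟨hB, hbp⟩⟩
  let L' := L.restrict O (S1 ⊓ Bev) hJle hS
  have hn' : L'.J.Normal := hE L' (Or.inl rfl)
  refine F.normal_of_normal O hOn hJle fun k hk j hj => ?_
  obtain ⟨σ, hσ, rfl⟩ := L.mem_J.1 hj
  obtain ⟨ρ, hρ, hρe⟩ := L'.mem_J.1 (hn'.conj_mem _ (L'.mem_J.2 ⟨σ, hσ, rfl⟩) ⟨k, hk⟩)
  have h1 := congrArg Subtype.val hρe
  rw [Subgroup.coe_mul, Subgroup.coe_mul, Subgroup.coe_inv,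
    L.restrict_el O _ hJle hS (L'.J0_le hρ), L.restrict_el O _ hJle hS (L'.J0_le hσ)] at h1
  exact L.mem_J.2 ⟨ρ, hρ, h1⟩

end CfsgLib.SNineThree
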