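import Cfsg.Agent.Lib.SNineThree.TwistModel
import Cfsg.Agent.Lib.SNineThree.FactsThree
import Cfsg.Agent.Lib.Coprime.Action2

/-!
In the normalizer of `⟨x⟩` the centralizer of `τ0` normalizes `J`.
-/

set_option autoImplicit false
set_option linter.unusedSectionVars false
set_option linter.style.haveILetI false

namespace CfsgLib.SNineThree.TwistAux

open Equiv Subgroup
open CfsgLib.SNineThree.SetupModel
open CfsgLib.ANineThree (P9 x p y z z2 z3)

universe u

variable {G : Type u} [Group G] [Finite G] (L : Loc S2 G)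

theorem S2_le_B : S2 ≤ B := inf_le_left

theorem sq_el {σ : P9} (hσ : σ ∈ S2) (h : σ * σ = 1) : L.el σ * L.el σ = 1 := by
  rw [← L.el_mul hσ hσ, h, L.el_one]

theorem el_ne {σ : P9} (hσ : σ ∈ S2) (h : σ ≠ 1) : L.el σ ≠ 1 := fun e =>
  h (L.el_inj hσ S2.one_mem (e.trans L.el_one.symm))

theorem pow81 {σ : P9} (hσ : σ ∈ S2) {k : ℕ} (h : L.el σ ^ 3 ^ k = 1) : σ ^ 81 = 1 := by
  have h1 : σ ^ 3 ^ k = 1 := L.el_inj (S2.pow_mem hσ _) S2.one_mem (by
    rw [L.el_pow hσ, h, L.el_one])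
  obtain ⟨m, -, hm⟩ := (Nat.dvd_prime_pow Nat.prime_three).1 (orderOf_dvd_of_pow_eq_one h1)
  have h2 : orderOf σ ∣ 362880 := by
    have := orderOf_dvd_natCard σ
    rwa [Nat.card_eq_fintype_card, Fintype.card_perm, Fintype.card_fin] at this
  refine orderOf_dvd_iff_pow_eq_one.1 ?_
  rw [hm] at h2 ⊢
  have h3 : m ≤ 4 := by
    by_contra hlt
    have h5 : (3 : ℕ) ^ 5 ∣ 362880 := (pow_dvd_pow 3 (show 5 ≤ m by omega)).trans h2
    norm_num at h5
  exact (show (81 : ℕ) = 3 ^ 4 from rfl) ▸ pow_dvd_pow 3 h3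

variable (F : Facts L)
include F

/-- The centralizers of the nontrivial elements of the fixed group of `τ0` in `J`. -/
theorem cent_fixed {σ : P9} (hσ : σ ∈ J0) (hτ : σ * τ0 = τ0 * σ) (h1 : σ ≠ 1) :
    centralizer ({L.el σ} : Set G) ≤ L.e.range := by
  obtain ⟨v, rfl⟩ := SetupModel.mem_J0_iff.1 hσ
  rcases code_stabE v hτ (fun e => h1 (by rw [e, jv_zero])) with e | e | e
  · rw [e]; exact L.cent_el_x
  · rw [e, L.el_inv L.x_mem]
    intro g hg
    refine L.cent_el_x (mem_centralizer_singleton_iff.2 ?_)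
    have h := (show Commute g (L.el x)⁻¹ from mem_centralizer_singleton_iff.1 hg).inv_right
    rw [inv_inv] at h
    exact h.eq
  · refine F.cent_one _ hσ h1 fun s hs hsc => ?_
    obtain ⟨c, rfl⟩ := exists_mS hs
    exact e c hsc

theorem cent_y : centralizer ({L.el y} : Set G) ≤ L.e.range := by
  refine F.cent_one y mem_facts.2.2.2.2.2.1
    basic_facts.2.2.2.2.2.2.2.2.2.2.2.2.2.2.2.2.2.2.1 fun s hs hsc => ?_
  obtain ⟨c, rfl⟩ := exists_mS hs
  exact (code_one c).1 hsc

theorem cent_bb : centralizer ({L.el bb} : Set G) ≤ L.e.range := by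
  refine F.cent_one bb mem_facts.2.2.2.2.1 basic_facts.2.2.2.2.2.2.2.2.2.1 fun s hs hsc => ?_
  obtain ⟨c, rfl⟩ := exists_mS hs
  exact (code_one c).2.2 hsc

omit F

/-- The fixed group of `τ0` in `J`. -/
noncomputable def EE : Subgroup G := L.J ⊓ centralizer ({L.el τ0} : Set G)

theorem mem_EE {g : G} :
    g ∈ EE L ↔ ∃ σ ∈ J0, σ * τ0 = τ0 * σ ∧ L.el σ = g := by
  rw [EE, Subgroup.mem_inf, mem_centralizer_singleton_iff, L.mem_J]
  constructor
  · rintro ⟨⟨σ, hσ, rfl⟩, hc⟩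
    exact ⟨σ, hσ, (L.commute_el (L.J0_le hσ) mem_facts.1).1 hc, rfl⟩
  · rintro ⟨σ, hσ, hc, rfl⟩
    exact ⟨⟨σ, hσ, rfl⟩, (L.commute_el (L.J0_le hσ) mem_facts.1).2 hc⟩

theorem y_mem_EE : L.el y ∈ EE L :=
  (mem_EE L).2 ⟨y, mem_facts.2.2.2.2.2.1,
    basic_facts.2.2.2.2.2.2.2.2.2.2.2.2.2.2.2.2.1.symm, rfl⟩

theorem z3_mem_EE : L.el z3 ∈ EE L :=
  (mem_EE L).2 ⟨z3, mem_facts.2.2.2.2.2.2.1,
    basic_facts.2.2.2.2.2.2.2.2.2.2.2.2.2.2.2.2.2.1.symm, rfl⟩

theorem EE_comm_iff {g : G} (hg : ∀ e ∈ EE L, g * e = e * g) :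
    g * L.el y = L.el y * g ∧ g * L.el z3 = L.el z3 * g :=
  ⟨hg _ (y_mem_EE L), hg _ (z3_mem_EE L)⟩

theorem comm_EE {g : G} (h1 : g * L.el y = L.el y * g) (h2 : g * L.el z3 = L.el z3 * g) :
    ∀ e ∈ EE L, g * e = e * g := by
  intro e he
  obtain ⟨σ, hσ, hτ, rfl⟩ := (mem_EE L).1 he
  obtain ⟨v, rfl⟩ := SetupModel.mem_J0_iff.1 hσ
  obtain ⟨a, c, e'⟩ := code_j0_tau v hτ
  have hy : y ∈ S2 := L.J0_le mem_facts.2.2.2.2.2.1
  have hz : z3 ∈ S2 := L.J0_le mem_facts.2.2.2.2.2.2.1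
  rw [e', L.el_mul (S2.pow_mem hy _) (S2.pow_mem hz _), L.el_pow hy, L.el_pow hz]
  exact (((show Commute g (L.el y) from h1).pow_right _).mul_right
    ((show Commute g (L.el z3) from h2).pow_right _)).eq

theorem card_EE : Nat.card (EE L) = 9 := by
  have hy := mem_facts.2.2.2.2.2.1
  have hz := mem_facts.2.2.2.2.2.2.1
  let f : Fin 3 × Fin 3 → EE L := fun a =>
    ⟨L.el y ^ a.1.1 * L.el z3 ^ a.2.1,
      mul_mem (pow_mem (y_mem_EE L) _) (pow_mem (z3_mem_EE L) _)⟩
  have hinj : ∀ a a' : Fin 3 × Fin 3, y ^ a.1.1 * z3 ^ a.2.1 = y ^ a'.1.1 * z3 ^ a'.2.1 →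
      a = a' := by decide +kernel
  have hbij : Function.Bijective f := by
    refine ⟨fun a a' h => hinj a a' ?_, ?_⟩
    · refine L.el_inj (S2.mul_mem (S2.pow_mem (L.J0_le hy) _) (S2.pow_mem (L.J0_le hz) _))
        (S2.mul_mem (S2.pow_mem (L.J0_le hy) _) (S2.pow_mem (L.J0_le hz) _)) ?_
      rw [L.el_mul (S2.pow_mem (L.J0_le hy) _) (S2.pow_mem (L.J0_le hz) _),
        L.el_mul (S2.pow_mem (L.J0_le hy) _) (S2.pow_mem (L.J0_le hz) _), L.el_pow (L.J0_le hy),
        L.el_pow (L.J0_le hy), L.el_pow (L.J0_le hz), L.el_pow (L.J0_le hz)]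
      exact congrArg Subtype.val h
    · rintro ⟨g, hg⟩
      obtain ⟨σ, hσ, hτ, rfl⟩ := (mem_EE L).1 hg
      obtain ⟨v, rfl⟩ := SetupModel.mem_J0_iff.1 hσ
      obtain ⟨a, c, e'⟩ := code_j0_tau v hτ
      refine ⟨(a, c), Subtype.ext ?_⟩
      show L.el y ^ a.1 * L.el z3 ^ c.1 = L.el (jv v)
      rw [e', L.el_mul (S2.pow_mem (L.J0_le hy) _) (S2.pow_mem (L.J0_le hz) _),
        L.el_pow (L.J0_le hy), L.el_pow (L.J0_le hz)]
  rw [← Nat.card_congr (Equiv.ofBijective f hbij), Nat.card_eq_fintype_card]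
  rfl

include F

theorem EE_normal_range {g : G} (hr : g ∈ L.e.range) (hg : g * L.el τ0 = L.el τ0 * g) :
    g ∈ normalizer (EE L : Set G) := by
  refine Subgroup.mem_normalizer_fintype fun e he => ?_
  obtain ⟨hJ, hc⟩ := he
  rw [L.range_normalizer] at hr
  refine ⟨(mem_normalizer_iff.1 hr e).1 hJ, mem_centralizer_singleton_iff.2 ?_⟩
  have h1 : g * L.el τ0 * g⁻¹ = L.el τ0 := by rw [hg, mul_inv_cancel_right]
  have h2 := mem_centralizer_singleton_iff.1 hc
  calc g * e * g⁻¹ * L.el τ0 = g * e * g⁻¹ * (g * L.el τ0 * g⁻¹) := by rw [h1]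
    _ = g * (e * L.el τ0) * g⁻¹ := by group
    _ = g * L.el τ0 * g⁻¹ * (g * e * g⁻¹) := by rw [h2]; group
    _ = _ := by rw [h1]

/-- The centralizer of the fixed group in the centralizer of `τ0`. -/
theorem cent_EE {g : G} (hg : g * L.el τ0 = L.el τ0 * g)
    (h1 : g * L.el y = L.el y * g) (h2 : g * L.el z3 = L.el z3 * g) :
    g ∈ EE L ∨ g * L.el τ0 ∈ EE L := by
  obtain ⟨σ, hσ, rfl⟩ := L.mem_range.1 (cent_y L F (mem_centralizer_singleton_iff.2 h1))
  have hy := L.J0_le mem_facts.2.2.2.2.2.1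
  have hz := L.J0_le mem_facts.2.2.2.2.2.2.1
  have hτ := (L.commute_el hσ mem_facts.1).1 hg
  obtain ⟨c, rfl⟩ := exists_mS hσ
  rcases (code_E c ((L.commute_el hσ hy).1 h1) ((L.commute_el hσ hz).1 h2)).1 with h | h
  · exact Or.inl ((mem_EE L).2 ⟨_, h, hτ, rfl⟩)
  · refine Or.inr ((mem_EE L).2 ⟨_, h, ?_, L.el_mul hσ mem_facts.1⟩)
    rw [mul_assoc, basic_facts.1, mul_one, ← mul_assoc, ← hτ, mul_assoc, basic_facts.1, mul_one]

/-- A three-element normalizing the fixed group and centralizing `τ0` lies in it. -/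
theorem three_normalizer {g : G} (hg : g * L.el τ0 = L.el τ0 * g)
    (hn : ∀ e ∈ EE L, g * e * g⁻¹ ∈ EE L) {k : ℕ} (hk : g ^ 3 ^ k = 1) : g ∈ EE L := by
  have hy := L.J0_le mem_facts.2.2.2.2.2.1
  have hz := L.J0_le mem_facts.2.2.2.2.2.2.1
  have hn' : ∀ e ∈ EE L, g⁻¹ * e * g ∈ EE L := fun e he => by
    have h : g ∈ normalizer (EE L : Set G) := Subgroup.mem_normalizer_fintype hn
    have := (mem_normalizer_iff.1 (inv_mem h) e).1 he
    rwa [inv_inv] at this
  have hr : g ∈ L.e.range := by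
    refine FactsAux.mem_range_of_conj L fun j hj => ?_
    have hcomm : ∀ e ∈ EE L, g * j * g⁻¹ * e = e * (g * j * g⁻¹) := fun e he => by
      have h := FactsAux.J_comm L hj (hn' e he).1
      calc g * j * g⁻¹ * e = g * (j * (g⁻¹ * e * g)) * g⁻¹ := by group
        _ = g * (g⁻¹ * e * g * j) * g⁻¹ := by rw [h]
        _ = _ := by group
    obtain ⟨σ, hσ, hσe⟩ := L.mem_range.1
      (cent_y L F (mem_centralizer_singleton_iff.2 (hcomm _ (y_mem_EE L))))
    obtain ⟨c, rfl⟩ := exists_mS hσ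
    rw [← hσe] at hcomm ⊢
    have h81 : mS c ^ 81 = 1 := pow81 L hσ (k := 1) (by
      rw [pow_one, hσe, conj_pow, FactsAux.J_cube L hj, mul_one, mul_inv_cancel])
    exact L.mem_J.2 ⟨_, (code_E c ((L.commute_el hσ hy).1 (hcomm _ (y_mem_EE L)))
      ((L.commute_el hσ hz).1 (hcomm _ (z3_mem_EE L)))).2.2 h81, rfl⟩
  obtain ⟨σ, hσ, rfl⟩ := L.mem_range.1 hr
  have hτ := (L.commute_el hσ mem_facts.1).1 hg
  have h81 := pow81 L hσ hk
  obtain ⟨c, rfl⟩ := exists_mS hσ
  exact (mem_EE L).2 ⟨_, (code_tau c hτ).2.2.2 h81, hτ, rfl⟩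

/-- The fixed group is a Sylow subgroup of the centralizer of `τ0`. -/
theorem exists_sylow : ∃ P : Sylow 3 (centralizer ({L.el τ0} : Set G)),
    (P : Subgroup _) = (EE L).subgroupOf (centralizer ({L.el τ0} : Set G)) := by
  haveI : Fact (Nat.Prime 3) := ⟨Nat.prime_three⟩
  set C := centralizer ({L.el τ0} : Set G) with hC
  have hp : IsPGroup 3 ((EE L).subgroupOf C) :=
    (IsPGroup.of_card (n := 2) (card_EE L)).comap_of_injective C.subtype C.subtype_injective
  obtain ⟨P, hP⟩ := hp.exists_le_sylow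
  refine ⟨P, le_antisymm (fun c hc => ?_) hP⟩
  by_contra hne
  haveI : Group.IsNilpotent (P : Subgroup C) := P.isPGroup'.isNilpotent
  let E' : Subgroup (P : Subgroup C) := ((EE L).subgroupOf C).subgroupOf (P : Subgroup C)
  have hlt : E' < ⊤ := lt_top_iff_ne_top.2 fun e =>
    hne (mem_subgroupOf.1 (e.ge (mem_top (⟨c, hc⟩ : (P : Subgroup C)))))
  obtain ⟨g, hgN, hgE⟩ := SetLike.exists_of_lt (Group.normalizerCondition_of_isNilpotent E' hlt)
  refine hgE (mem_subgroupOf.2 (mem_subgroupOf.2 ?_))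
  obtain ⟨k, hk⟩ := P.isPGroup' g
  refine three_normalizer L F (mem_centralizer_singleton_iff.1 g.1.2) (fun e he => ?_) (k := k)
    (congrArg (fun w : (P : Subgroup C) => ((w : C) : G)) hk)
  have heC : e ∈ C := he.2
  have hm : (⟨⟨e, heC⟩, hP (mem_subgroupOf.2 he)⟩ : (P : Subgroup C)) ∈ E' :=
    mem_subgroupOf.2 (mem_subgroupOf.2 he)
  exact mem_subgroupOf.1 (mem_subgroupOf.1 ((mem_normalizer_iff.1 hgN _).1 hm))

omit F in
theorem le_normalizer_centralizer_aux {C : Type u} [Group C] (E : Subgroup C) :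
    normalizer (E : Set C) ≤ normalizer (centralizer (E : Set C) : Set C) := by
  intro g hg
  refine mem_normalizer_iff.2 fun h => ?_
  simp only [mem_centralizer_iff]
  have key : ∀ g ∈ normalizer (E : Set C), ∀ h, (∀ e ∈ E, e * h = h * e) →
      ∀ e ∈ E, e * (g * h * g⁻¹) = g * h * g⁻¹ * e := by
    intro g hg h hh e he
    have h1 := hh (g⁻¹ * e * g⁻¹⁻¹) ((mem_normalizer_iff.1 (inv_mem hg) e).1 he)
    calc e * (g * h * g⁻¹) = g * (g⁻¹ * e * g⁻¹⁻¹ * h) * g⁻¹ := by group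
      _ = g * (h * (g⁻¹ * e * g⁻¹⁻¹)) * g⁻¹ := by rw [h1]
      _ = _ := by group
  refine ⟨fun hh => key g hg h hh, fun hh => ?_⟩
  have := key g⁻¹ (inv_mem hg) _ hh
  simpa [mul_assoc] using this

/-- The centralizer of `τ0` normalizes `J`. -/
theorem cent_tau_le (hA : StmtAxis.{u}) : centralizer ({L.el τ0} : Set G) ≤ L.e.range := by
  haveI : Fact (Nat.Prime 3) := ⟨Nat.prime_three⟩
  set C := centralizer ({L.el τ0} : Set G) with hC
  obtain ⟨P, hP⟩ := exists_sylow L F
  set E := (EE L).subgroupOf C with hE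
  set Z : Subgroup C := zpowers ⟨L.el τ0, mem_centralizer_singleton_iff.2 rfl⟩ with hZ
  have hτ1 := el_ne L mem_facts.1 basic_facts.2.1
  have hτ2 := sq_el L mem_facts.1 basic_facts.1
  have hCm : ∀ c : C, (c : G) * L.el τ0 = L.el τ0 * c := fun c =>
    mem_centralizer_singleton_iff.1 c.2
  have hcEZ : centralizer (E : Set C) = E ⊔ Z := by
    refine le_antisymm (fun c hc => ?_) (sup_le ?_ ?_)
    · have hcomm : ∀ e ∈ EE L, (c : G) * e = e * c := fun e he =>
        congrArg Subtype.val (mem_centralizer_iff.1 hc ⟨e, he.2⟩ (mem_subgroupOf.2 he)).symm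
      rcases cent_EE L F (hCm c) (EE_comm_iff L hcomm).1 (EE_comm_iff L hcomm).2 with h | h
      · exact mem_sup_left (mem_subgroupOf.2 h)
      · have e : c = c * ⟨L.el τ0, mem_centralizer_singleton_iff.2 rfl⟩ *
            ⟨L.el τ0, mem_centralizer_singleton_iff.2 rfl⟩ := Subtype.ext (by
          simp only [Subgroup.coe_mul]; rw [mul_assoc, hτ2, mul_one])
        rw [e]
        exact mul_mem (mem_sup_left (mem_subgroupOf.2 h)) (mem_sup_right (mem_zpowers _))
    · intro a ha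
      exact mem_centralizer_iff.2 fun b hb => Subtype.ext
        (FactsAux.J_comm L (mem_subgroupOf.1 hb).1 (mem_subgroupOf.1 ha).1)
    · rw [hZ, zpowers_le, mem_centralizer_iff]
      exact fun b _ => Subtype.ext (hCm b)
  have hcardE : Nat.card E = 9 := by
    rw [hE, Nat.card_congr (subgroupOfEquivOfLe (show EE L ≤ C from inf_le_right)).toEquiv, card_EE L]
  have hcube : ∀ e ∈ E, e ^ 3 = 1 := fun e he => Subtype.ext (by
    rw [SubmonoidClass.coe_pow]; exact FactsAux.J_cube L (mem_subgroupOf.1 he).1)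
  have hcardZ : Nat.card Z = 2 := by
    rw [hZ, Nat.card_zpowers]
    refine orderOf_eq_prime (Subtype.ext ?_) fun e => hτ1 (congrArg Subtype.val e)
    rw [SubmonoidClass.coe_pow, pow_two]; exact hτ2
  have hNr : ∀ c : C, (c : G) ∈ L.e.range → c ∈ normalizer (E : Set C) := fun c hc => by
    refine Subgroup.mem_normalizer_fintype fun e he => mem_subgroupOf.2 ?_
    exact (mem_normalizer_iff.1 (EE_normal_range L F hc (hCm c)) _).1 (mem_subgroupOf.1 he)
  have hrN : ∀ c ∈ normalizer (E : Set C), (c : G) ∈ L.e.range := by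
    intro c hc
    refine FactsAux.mem_range_of_conj L fun j hj => ?_
    have hcomm : ∀ e ∈ EE L, (c : G) * j * (c : G)⁻¹ * e = e * ((c : G) * j * (c : G)⁻¹) :=
      fun e he => by
        have hm : (c : G)⁻¹ * e * c ∈ EE L := by
          have := (mem_normalizer_iff.1 (inv_mem hc) ⟨e, he.2⟩).1 (mem_subgroupOf.2 he)
          simpa using mem_subgroupOf.1 this
        have h := FactsAux.J_comm L hj hm.1
        calc (c : G) * j * (c : G)⁻¹ * e = c * (j * ((c : G)⁻¹ * e * c)) * (c : G)⁻¹ := by group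
          _ = c * ((c : G)⁻¹ * e * c * j) * (c : G)⁻¹ := by rw [h]
          _ = _ := by group
    obtain ⟨σ, hσ, hσe⟩ := L.mem_range.1
      (cent_y L F (mem_centralizer_singleton_iff.2 (hcomm _ (y_mem_EE L))))
    obtain ⟨d, rfl⟩ := exists_mS hσ
    rw [← hσe] at hcomm ⊢
    have h81 : mS d ^ 81 = 1 := pow81 L hσ (k := 1) (by
      rw [pow_one, hσe, conj_pow, FactsAux.J_cube L hj, mul_one, mul_inv_cancel])
    exact L.mem_J.2 ⟨_, (code_E d
      ((L.commute_el hσ (L.J0_le mem_facts.2.2.2.2.2.1)).1 (hcomm _ (y_mem_EE L)))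
      ((L.commute_el hσ (L.J0_le mem_facts.2.2.2.2.2.2.1)).1 (hcomm _ (z3_mem_EE L)))).2.2 h81,
      rfl⟩
  have key : normalizer (E : Set C) = ⊤ := by
    refine hA P E Z hP.symm hcardE hcube ?_ (by rw [hcardZ]; decide) hcEZ ?_ ?_ ?_ ?_
    · rw [hZ, zpowers_le, Subgroup.mem_center_iff]
      exact fun b => Subtype.ext (hCm b)
    · intro e he he1 c hc
      obtain ⟨σ, hσ, hτ, hσe⟩ := (mem_EE L).1 (mem_subgroupOf.1 he)
      refine hNr c (cent_fixed L F hσ hτ (fun e' => he1 (Subtype.ext ?_))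
        (mem_centralizer_singleton_iff.2 ?_))
      · rw [← hσe, e', L.el_one]; rfl
      · rw [hσe]
        exact congrArg Subtype.val (mem_centralizer_singleton_iff.1 hc)
    · intro W hW hEW
      haveI : IsMulCommutative E := ⟨⟨fun a b => Subtype.ext (Subtype.ext
        (FactsAux.J_comm L (mem_subgroupOf.1 a.2).1 (mem_subgroupOf.1 b.2).1))⟩⟩
      have hnc : ¬ IsCyclic E := by
        intro h
        obtain ⟨g, hg⟩ := IsCyclic.exists_generator (α := E)
        have h9 : orderOf g = 9 := by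
          rw [orderOf_eq_card_of_forall_mem_zpowers hg, hcardE]
        have h3 := orderOf_dvd_of_pow_eq_one (x := g) (n := 3) (Subtype.ext (hcube g g.2))
        rw [h9] at h3
        norm_num at h3
      have hWr : W ≤ L.e.range.subgroupOf C := by
        refine CfsgLib.Coprime.le_of_centralizer_le_of_not_isCyclic hnc hEW
          (by rw [hcardE]; exact (hW.symm.pow_left 2 : Nat.Coprime (3 ^ 2) _)) fun e he he1 => ?_
        intro c hc
        obtain ⟨σ, hσ, hτ, hσe⟩ := (mem_EE L).1 (mem_subgroupOf.1 he)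
        refine mem_subgroupOf.2 (cent_fixed L F hσ hτ (fun e' => he1 (Subtype.ext ?_))
          (mem_centralizer_singleton_iff.2 ?_))
        · rw [← hσe, e', L.el_one]; rfl
        · rw [hσe]
          exact congrArg Subtype.val (mem_centralizer_singleton_iff.1 hc.2)
      have hdisj : ∀ w ∈ W, w ∈ E → w = 1 := fun w hw hwE => by
        rw [← orderOf_eq_one_iff]
        exact Nat.eq_one_of_dvd_coprimes hW (Subgroup.orderOf_dvd_natCard W hw)
          (orderOf_dvd_of_pow_eq_one (hcube w hwE))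
      intro w hw
      have hwc : w ∈ centralizer (E : Set C) := mem_centralizer_iff.2 fun e he => by
        have h1 : w * e * w⁻¹ * e⁻¹ ∈ E := mul_mem
          ((mem_normalizer_iff.1 (hNr w (mem_subgroupOf.1 (hWr hw))) e).1 he) (inv_mem he)
        have h2 : w * e * w⁻¹ * e⁻¹ ∈ W := by
          rw [show w * e * w⁻¹ * e⁻¹ = w * (e * w⁻¹ * e⁻¹) by group]
          exact mul_mem hw ((mem_normalizer_iff.1 (hEW he) _).1 (inv_mem hw))
        exact (mul_inv_eq_iff_eq_mul.1 (mul_inv_eq_one.1 (hdisj _ h2 h1))).symm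
      rw [hcEZ] at hwc
      haveI : Z.Normal := ⟨fun n hn g => by
        obtain ⟨i, rfl⟩ := mem_zpowers_iff.1 hn
        have h : Commute g ((⟨L.el τ0, mem_centralizer_singleton_iff.2 rfl⟩ : C) ^ i) :=
          Commute.zpow_right (Subtype.ext (hCm g)) i
        rw [h.eq, mul_inv_cancel_right]
        exact zpow_mem (mem_zpowers _) i⟩
      obtain ⟨e, he, n, hn, rfl⟩ := mem_sup_of_normal_right.1 hwc
      have hn2 : n * n = 1 := by
        obtain ⟨i, rfl⟩ := mem_zpowers_iff.1 hn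
        rw [← Commute.mul_zpow (Commute.refl _)]
        rw [show (⟨L.el τ0, mem_centralizer_singleton_iff.2 rfl⟩ : C) *
          ⟨L.el τ0, mem_centralizer_singleton_iff.2 rfl⟩ = 1 from Subtype.ext hτ2, one_zpow]
      have hne : n * e = e * n := by
        obtain ⟨i, rfl⟩ := mem_zpowers_iff.1 hn
        exact ((Commute.zpow_right (show Commute e ⟨L.el τ0, _⟩ from Subtype.ext (hCm e)) i).eq).symm
      have h2 : e * n * (e * n) = e * e := by
        rw [mul_assoc, ← mul_assoc n, hne, mul_assoc e n n, hn2, mul_one]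
      have he1 : e = 1 := by
        have h3 := hdisj _ (h2 ▸ mul_mem hw hw) (mul_mem he he)
        have h4 := hcube e he
        rw [pow_succ, pow_two, h3, one_mul] at h4
        exact h4
      rw [he1, one_mul]
      exact hn
    · intro g hg
      obtain ⟨σ, hσ, hσe⟩ := L.mem_range.1 (hrN g hg)
      have hτ : σ * τ0 = τ0 * σ := (L.commute_el hσ mem_facts.1).1 (hσe ▸ hCm g)
      obtain ⟨d, rfl⟩ := exists_mS hσ
      obtain ⟨h1, h2, -, -⟩ := code_tau d hτ
      refine mem_centralizer_iff.2 fun e he => Subtype.ext ?_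
      have hy := L.J0_le mem_facts.2.2.2.2.2.1
      have hz := L.J0_le mem_facts.2.2.2.2.2.2.1
      have := comm_EE L ((L.commute_el (S2.mul_mem hσ hσ) hy).2 h1)
        ((L.commute_el (S2.mul_mem hσ hσ) hz).2 h2) _ (mem_subgroupOf.1 he)
      rw [L.el_mul hσ hσ, hσe] at this
      exact this.symm
    · -- two cosets
      have hI : iota ∈ S2 := mem_facts.2.1
      have hIC : L.el iota ∈ C := mem_centralizer_singleton_iff.2
        ((L.commute_el hI mem_facts.1).2 basic_facts.2.2.2.2.2.2.2.2.2.2.2.2.2.2.2.2.2.2.2.2.symm)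
      let i0 : normalizer (E : Set C) := ⟨⟨L.el iota, hIC⟩, hNr _ (L.el_mem hI)⟩
      let f : Bool → normalizer (E : Set C) ⧸
          (centralizer (E : Set C)).subgroupOf (normalizer (E : Set C)) :=
        fun t => QuotientGroup.mk (if t then i0⁻¹ else 1)
      have hf : Function.Surjective f := by
        intro q
        obtain ⟨g, rfl⟩ := QuotientGroup.mk_surjective q
        obtain ⟨σ, hσ, hσe⟩ := L.mem_range.1 (hrN g g.2)
        have hτ : σ * τ0 = τ0 * σ := (L.commute_el hσ mem_facts.1).1 (hσe ▸ hCm g)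
        obtain ⟨d, rfl⟩ := exists_mS hσ
        have hy := L.J0_le mem_facts.2.2.2.2.2.1
        have hz := L.J0_le mem_facts.2.2.2.2.2.2.1
        have hmem : ∀ n : normalizer (E : Set C), (∀ e ∈ EE L, ((n : C) : G) * e = e * (n : C)) →
            n ∈ (centralizer (E : Set C)).subgroupOf (normalizer (E : Set C)) := fun n hn =>
          mem_subgroupOf.2 (mem_centralizer_iff.2 fun e he =>
            Subtype.ext (hn _ (mem_subgroupOf.1 he)).symm)
        rcases (code_tau d hτ).2.2.1 with ⟨h1, h2⟩ | ⟨h1, h2⟩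
        · refine ⟨false, QuotientGroup.eq.2 ?_⟩
          simp only [Bool.false_eq_true, if_false, inv_one, one_mul]
          exact hmem g (hσe ▸ comm_EE L ((L.commute_el hσ hy).2 h1) ((L.commute_el hσ hz).2 h2))
        · refine ⟨true, QuotientGroup.eq.2 ?_⟩
          simp only [if_true, inv_inv]
          haveI : (centralizer (E : Set C)).subgroupOf (normalizer (E : Set C)) |>.Normal :=
            Subgroup.normal_subgroupOf_of_le_normalizer (le_normalizer_centralizer_aux E)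
          refine (Subgroup.Normal.mem_comm_iff ‹_›).2 (hmem (g * i0) ?_)
          have hmul : L.el (mS d * iota) = ((g * i0 : normalizer (E : Set C)) : C).1 := by
            rw [L.el_mul hσ hI, hσe]; rfl
          exact hmul ▸ comm_EE L ((L.commute_el (S2.mul_mem hσ hI) hy).2 h1)
            ((L.commute_el (S2.mul_mem hσ hI) hz).2 h2)
      have := Nat.card_le_card_of_surjective f hf
      rw [Subgroup.index_eq_card]
      refine this.trans ?_
      simp
  intro g hg
  exact hrN ⟨g, hg⟩ (key ▸ mem_top _)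

end CfsgLib.SNineThree.TwistAux
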