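import Cfsg.Agent.Lib.SNineThree.SetupModel
import Cfsg.Agent.Lib.ANineThree.Basic

/-!
The normalizer of `⟨x⟩` in the model: computations over its 324 elements.

`u = τ0 iota`, and `b` is the translation by `(1, -1, 0)`.
-/

set_option autoImplicit false
set_option maxRecDepth 100000
set_option synthInstance.maxSize 2000
set_option synthInstance.maxHeartbeats 200000

namespace CfsgLib.SNineThree.TwistAux

open Equiv Subgroup
open CfsgLib.SNineThree.SetupModel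
open CfsgLib.ANineThree (P9 x p y z z2 z3)

/-- `τ0 iota` -/
def uu : P9 := τ0 * iota

/-- The translation by `(1, -1, 0)`. -/
def bb : P9 := jv ![1, -1, 0]

/-- The parameters of the elements of the model. -/
abbrev Code2 := V3 × Equiv.Perm (Fin 3) × (ZMod 3)ˣ

/-- The element with given parameters. -/
def mS (c : Code2) : P9 := jv c.1 * wm (c.2.1, fun _ => c.2.2)

theorem sign_const : ∀ p : Par, act p 1 = 1 ∨ act p 1 = -1 → p.2 0 = p.2 1 ∧ p.2 0 = p.2 2 := by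
  decide +kernel

theorem exists_mS {σ : P9} (h : σ ∈ S2) : ∃ c, mS c = σ := by
  obtain ⟨hB, hx⟩ := mem_S2.1 h
  obtain ⟨v, q, rfl⟩ := exists_of_mem_B hB
  rw [x_eq, jv_wm_conj, ← jv_neg] at hx
  obtain ⟨h1, h2⟩ := sign_const q (hx.imp (fun e => jv_inj e) fun e => jv_inj e)
  refine ⟨(v, q.1, q.2 0), ?_⟩
  show jv v * wm (q.1, fun _ => q.2 0) = _
  congr 2
  ext1
  · rfl
  · funext k
    fin_cases k
    · rfl
    · exact h1
    · exact h2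

theorem mem_facts : τ0 ∈ S2 ∧ iota ∈ S2 ∧ uu ∈ S2 ∧ p ∈ S2 ∧ bb ∈ J0 ∧ y ∈ J0 ∧ z3 ∈ J0 ∧
    z ∈ J0 ∧ z2 ∈ J0 ∧ x ∈ J0 := by
  simp only [mem_S2]
  decide +kernel

theorem basic_facts : τ0 * τ0 = 1 ∧ τ0 ≠ 1 ∧ iota * iota = 1 ∧ uu * uu = 1 ∧ uu ≠ 1 ∧
    bpar τ0 = -1 ∧ τ0 * uu = uu * τ0 ∧ uu * bb = bb * uu ∧ τ0 * bb * τ0⁻¹ = bb⁻¹ ∧
    bb ≠ 1 ∧ bb ^ 3 = 1 ∧ p ^ 3 = 1 ∧ uu * p * uu⁻¹ = p⁻¹ ∧ uu * z3 * uu⁻¹ = z3⁻¹ ∧
    p * z3 * p⁻¹ = z ∧ p * z * p⁻¹ = z2 ∧ τ0 * y = y * τ0 ∧ τ0 * z3 = z3 * τ0 ∧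
    y ≠ 1 ∧ z3 ∉ zpowers y ∧ τ0 * iota = iota * τ0 := by
  refine ⟨?_, ?_, ?_, ?_, ?_, ?_, ?_, ?_, ?_, ?_, ?_, ?_, ?_, ?_, ?_, ?_, ?_, ?_, ?_, ?_, ?_⟩
  case _ => decide +kernel
  all_goals first
    | decide +kernel
    | (rintro ⟨i, hi⟩
       have h3 : y ^ (3 : ℤ) = 1 := by decide +kernel
       change y ^ i = z3 at hi
       rw [zpow_eq_zpow_emod i h3] at hi
       rcases (show i % 3 = 0 ∨ i % 3 = 1 ∨ i % 3 = 2 by omega) with e | e | e <;> rw [e] at hi <;>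
         exact absurd hi (by decide +kernel))

theorem code_E : ∀ c : Code2, mS c * y = y * mS c → mS c * z3 = z3 * mS c →
    (mS c ∈ J0 ∨ mS c * τ0 ∈ J0) ∧ (mS c * τ0 = τ0 * mS c → mS c ^ 81 = 1 → mS c ∈ J0) ∧
      (mS c ^ 81 = 1 → mS c ∈ J0) := by decide +kernel

theorem code_tau : ∀ c : Code2, mS c * τ0 = τ0 * mS c →
    mS c * mS c * y = y * (mS c * mS c) ∧ mS c * mS c * z3 = z3 * (mS c * mS c) ∧
      ((mS c * y = y * mS c ∧ mS c * z3 = z3 * mS c) ∨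
        (mS c * iota * y = y * (mS c * iota) ∧ mS c * iota * z3 = z3 * (mS c * iota))) ∧
      (mS c ^ 81 = 1 → mS c ∈ J0) := by decide +kernel

theorem code_ub : ∀ c : Code2, mS c * uu = uu * mS c → mS c * bb = bb * mS c →
    ∃ k : Fin 3, mS c = bb ^ k.1 ∨ mS c = bb ^ k.1 * uu := by decide +kernel

theorem code_inv : ∀ c : Code2, mS c * uu = uu * mS c → mS c * bb * (mS c)⁻¹ = bb⁻¹ →
    ∃ k : Fin 3, mS c = bb ^ k.1 * τ0 ∨ mS c = bb ^ k.1 * τ0 * uu := by decide +kernel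

theorem code_odd_invol : ∀ c : Code2, bpar (mS c) = -1 → mS c * mS c = 1 →
    ∃ d : V3 × Equiv.Perm (Fin 3),
      mS (d.1, d.2, 1) * mS c * (mS (d.1, d.2, 1))⁻¹ = τ0 ∨
        mS (d.1, d.2, 1) * mS c * (mS (d.1, d.2, 1))⁻¹ = uu := by decide +kernel

theorem code_one : ∀ c : Code2,
    (mS c * y = y * mS c → mS c * mS c ∈ J0) ∧ (mS c * z3 = z3 * mS c → mS c * mS c ∈ J0) ∧
      (mS c * bb = bb * mS c → mS c * mS c ∈ J0) := by decide +kernel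

theorem code_bcube : ∀ c : Code2, mS c * bb = bb * mS c → mS c ^ 81 = 1 → mS c ∈ J0 := by
  decide +kernel

theorem code_tu : ∀ c : Code2, mS c * τ0 = τ0 * mS c → mS c * uu = uu * mS c →
    mS c = 1 ∨ mS c = uu ∨ mS c = τ0 ∨ mS c = τ0 * uu := by decide +kernel

theorem bpar_jv : ∀ v : V3, bpar (jv v) = 1 := by decide +kernel

theorem code_even : ∀ π : Equiv.Perm (Fin 3), bpar (wm (π, fun _ => 1)) = 1 →
    ∃ k : Fin 3, wm (π, fun _ => 1) = p ^ k.1 := by decide +kernel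

theorem code_stabE : ∀ v : V3, jv v * τ0 = τ0 * jv v → v ≠ 0 → jv v = x ∨ jv v = x⁻¹ ∨
    ∀ c : Code2, mS c * jv v = jv v * mS c → mS c * mS c ∈ J0 := by decide +kernel

theorem code_j0_tau : ∀ v : V3, jv v * τ0 = τ0 * jv v → ∃ a c : Fin 3,
    jv v = y ^ a.1 * z3 ^ c.1 := by decide +kernel

end CfsgLib.SNineThree.TwistAux
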