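import Cfsg.Agent.Lib.SNineThree.TwistCent
import Cfsg.Agent.Lib.Transfer.TransferFixed

/-!
In the twisted case: `u` is not conjugate to `τ0`, and a homomorphism onto the group of order two
sends `τ0` and `iota` to `-1`.
-/

set_option autoImplicit false
set_option linter.unusedSectionVars false
set_option linter.style.haveILetI false

namespace CfsgLib.SNineThree.TwistAux

open Equiv Subgroup
open CfsgLib.SNineThree.SetupModel
open CfsgLib.ANineThree (P9 x p y z z2 z3)

universe u

variable {G : Type u} [Group G] [Finite G] (L : Loc S2 G) (F : Facts L)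

include F

/-- The three-elements centralizing `u` and `b`. -/
theorem three_ub {g : G} (hu : g * L.el uu = L.el uu * g) (hb : g * L.el bb = L.el bb * g)
    {k : ℕ} (hk : g ^ 3 ^ k = 1) : g ∈ zpowers (L.el bb) := by
  obtain ⟨σ, hσ, rfl⟩ := L.mem_range.1 (cent_bb L F (mem_centralizer_singleton_iff.2 hb))
  have h81 := pow81 L hσ hk
  have hbS : bb ∈ S2 := L.J0_le mem_facts.2.2.2.2.1
  obtain ⟨c, rfl⟩ := exists_mS hσ
  have hc1 := (L.commute_el hσ mem_facts.2.2.1).1 hu
  have hc2 := (L.commute_el hσ hbS).1 hb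
  obtain ⟨i, hi | hi⟩ := code_ub c hc1 hc2
  · rw [hi, L.el_pow hbS]
    exact Subgroup.npow_mem_zpowers _ _
  · exfalso
    have hcomm : Commute (bb ^ i.1) uu :=
      (show Commute uu bb from basic_facts.2.2.2.2.2.2.2.1).symm.pow_left _
    have hu2 : uu ^ 81 = uu := by
      rw [show (81 : ℕ) = 2 * 40 + 1 from rfl, pow_succ, pow_mul, pow_two, basic_facts.2.2.2.1,
        one_pow, one_mul]
    rw [hi, hcomm.mul_pow, ← pow_mul, show i.1 * 81 = 3 * (27 * i.1) by ring, pow_mul,
      basic_facts.2.2.2.2.2.2.2.2.2.2.1, one_pow, one_mul, hu2] at h81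
    exact basic_facts.2.2.2.2.1 h81

/-- The Sylow three-subgroups of the centralizer of `u` have order three. -/
theorem nine_not_dvd : ¬ 9 ∣ Nat.card (centralizer ({L.el uu} : Set G)) := by
  intro h9
  haveI : Fact (Nat.Prime 3) := ⟨Nat.prime_three⟩
  set C := centralizer ({L.el uu} : Set G) with hC
  have hbS : bb ∈ S2 := L.J0_le mem_facts.2.2.2.2.1
  have hb3 : L.el bb ^ 3 = 1 := by
    rw [← L.el_pow hbS, basic_facts.2.2.2.2.2.2.2.2.2.2.1, L.el_one]
  have ho : orderOf (L.el bb) = 3 :=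
    orderOf_eq_prime hb3 (el_ne L hbS basic_facts.2.2.2.2.2.2.2.2.2.1)
  let b' : C := ⟨L.el bb, mem_centralizer_singleton_iff.2
    ((L.commute_el hbS mem_facts.2.2.1).2 basic_facts.2.2.2.2.2.2.2.1.symm)⟩
  have ho' : orderOf b' = 3 := by rw [← Subgroup.orderOf_coe]; exact ho
  obtain ⟨P, hP⟩ := (IsPGroup.of_card (p := 3) (n := 1)
    (by rw [Nat.card_zpowers, ho', pow_one]) : IsPGroup 3 (zpowers b')).exists_le_sylow
  have hd : 9 ∣ Nat.card (P : Subgroup C) := by
    have hcop : Nat.Coprime 9 (P : Subgroup C).index :=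
      ((Nat.prime_three.coprime_iff_not_dvd).2 P.not_dvd_index).pow_left 2
    exact hcop.dvd_of_dvd_mul_right (by rwa [card_mul_index])
  have hb'P : b' ∈ (P : Subgroup C) := hP (mem_zpowers _)
  haveI : Nontrivial (P : Subgroup C) := ⟨⟨⟨b', hb'P⟩, 1, fun e => by
    have := congrArg (fun w : (P : Subgroup C) => (w : C)) e
    simp only [OneMemClass.coe_one] at this
    rw [this, orderOf_one] at ho'
    omega⟩⟩
  haveI := P.isPGroup'.center_nontrivial
  obtain ⟨c, hc⟩ := exists_ne (1 : Subgroup.center (P : Subgroup C))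
  have hcG : ∀ q : (P : Subgroup C), ((c : (P : Subgroup C)) : C).1 * (q : C).1 =
      (q : C).1 * ((c : (P : Subgroup C)) : C).1 := fun q => by
    have := Subgroup.mem_center_iff.1 c.2 q
    exact congrArg (fun w : (P : Subgroup C) => (w : C).1) this.symm
  obtain ⟨k, hk⟩ := P.isPGroup' (c : (P : Subgroup C))
  have hcb : ((c : (P : Subgroup C)) : C).1 ∈ zpowers (L.el bb) :=
    three_ub L F (mem_centralizer_singleton_iff.1 (c : (P : Subgroup C)).1.2) (hcG ⟨b', hb'P⟩)
      (k := k) (congrArg (fun w : (P : Subgroup C) => (w : C).1) hk)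
  have hbc : L.el bb ∈ zpowers (((c : (P : Subgroup C)) : C).1) := by
    have hne : zpowers (((c : (P : Subgroup C)) : C).1) ≠ ⊥ := by
      rw [Ne, zpowers_eq_bot]
      exact fun e => hc (Subtype.ext (Subtype.ext (Subtype.ext e)))
    have hle : zpowers (((c : (P : Subgroup C)) : C).1) ≤ zpowers (L.el bb) := zpowers_le.2 hcb
    have hdvd := Subgroup.card_dvd_of_le hle
    rw [Nat.card_zpowers (L.el bb), ho] at hdvd
    rcases (Nat.dvd_prime Nat.prime_three).1 hdvd with e | e
    · exact absurd (Subgroup.card_eq_one.1 e) hne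
    · rw [eq_of_le_of_card_ge hle (by rw [e, Nat.card_zpowers, ho])]
      exact mem_zpowers _
  have hle : ((P : Subgroup C).map C.subtype) ≤ zpowers (L.el bb) := by
    rintro _ ⟨q, hq, rfl⟩
    obtain ⟨m, hm⟩ := P.isPGroup' ⟨q, hq⟩
    obtain ⟨i, hi⟩ := mem_zpowers_iff.1 hbc
    refine three_ub L F (mem_centralizer_singleton_iff.1 q.2) ?_ (k := m)
      (congrArg (fun w : (P : Subgroup C) => (w : C).1) hm)
    rw [← hi]
    exact (Commute.zpow_right (show Commute (q : G) _ from (hcG ⟨q, hq⟩).symm) i).eq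
  have h3 := Subgroup.card_dvd_of_le hle
  rw [card_map_of_injective C.subtype_injective, Nat.card_zpowers, ho] at h3
  have := hd.trans h3
  norm_num at this

theorem not_conj_tau : ¬ IsConj (L.el τ0) (L.el uu) := by
  intro h
  obtain ⟨g, hg⟩ := isConj_iff.1 h
  refine nine_not_dvd L F ?_
  rw [← card_EE L, ← card_map_of_injective (f := (MulAut.conj g).toMonoidHom) (K := EE L)
    (MulAut.conj g).injective]
  refine Subgroup.card_dvd_of_le ?_
  rintro _ ⟨e, he, rfl⟩
  refine mem_centralizer_singleton_iff.2 ?_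
  show g * e * g⁻¹ * L.el uu = L.el uu * (g * e * g⁻¹)
  rw [← hg, show g * e * g⁻¹ * (g * L.el τ0 * g⁻¹) = g * (e * L.el τ0) * g⁻¹ by group,
    mem_centralizer_singleton_iff.1 he.2]
  group

omit F

theorem bpar_S2 (a b : S2) : bpar ((a * b : S2) : P9) = bpar a.1 * bpar b.1 :=
  bpar_mul a.2.1 b.2.1

/-- The parity of the permutation of the blocks as a character of the model. -/
def parHom : S2 →* ℤˣ where
  toFun a := bpar a.1
  map_one' := bpar_one
  map_mul' := bpar_S2

/-- The character of the normalizer of `J`. -/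
noncomputable def phi : L.e.range →* ℤˣ :=
  parHom.comp (MonoidHom.ofInjective L.inj).symm.toMonoidHom

theorem phi_el {σ : P9} (hσ : σ ∈ S2) (h : L.el σ ∈ L.e.range) :
    phi L ⟨L.el σ, h⟩ = bpar σ := by
  have e : (⟨L.el σ, h⟩ : L.e.range) = MonoidHom.ofInjective L.inj ⟨σ, hσ⟩ :=
    Subtype.ext ((L.el_eq hσ).trans rfl)
  rw [e]
  show parHom ((MonoidHom.ofInjective L.inj).symm (MonoidHom.ofInjective L.inj ⟨σ, hσ⟩)) = _
  rw [MulEquiv.symm_apply_apply]
  rfl

/-- The homomorphism onto the group of order two. -/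
noncomputable def W : G →* ℤˣ := MonoidHom.transfer (phi L)

theorem W_cube {g : G} (h : g ^ 3 = 1) : W L g = 1 := by
  rcases Int.units_eq_one_or (W L g) with e | e
  · exact e
  · have h1 := congrArg (W L) h
    rw [map_pow, map_one, e] at h1
    exact absurd h1 (by decide)

include F

theorem W_tau (hC : centralizer ({L.el τ0} : Set G) ≤ L.e.range) : W L (L.el τ0) = -1 := by
  classical
  haveI : Fintype (G ⧸ L.e.range) := Fintype.ofFinite _
  have hτ2 := sq_el L mem_facts.1 basic_facts.1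
  rw [W, CfsgLib.Transfer.transfer_eq_prod_fixedVal (phi L) (L.el τ0) fun k hk hkd g h => ?_]
  swap
  · have h2 : orderOf (L.el τ0) ∣ 2 := orderOf_dvd_of_pow_eq_one (by rw [pow_two, hτ2])
    have hk2 : k = 2 := le_antisymm (Nat.le_of_dvd (by norm_num) (hkd.trans h2)) hk
    subst hk2
    rw [show (⟨g⁻¹ * L.el τ0 ^ 2 * g, h⟩ : L.e.range) = 1 from Subtype.ext (by
      show g⁻¹ * L.el τ0 ^ 2 * g = 1
      rw [pow_two, hτ2, mul_one, inv_mul_cancel]), map_one]
  rw [Finset.prod_eq_single_of_mem ((1 : G) : G ⧸ L.e.range) (Finset.mem_univ _)]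
  · have hm : (1 : G)⁻¹ * L.el τ0 * 1 ∈ L.e.range := by
      rw [inv_one, one_mul, mul_one]; exact L.el_mem mem_facts.1
    rw [CfsgLib.Transfer.fixedVal_of_mem _ _ hm]
    rw [show (⟨(1 : G)⁻¹ * L.el τ0 * 1, hm⟩ : L.e.range) =
      ⟨L.el τ0, L.el_mem mem_facts.1⟩ from Subtype.ext (by simp), phi_el L mem_facts.1,
      basic_facts.2.2.2.2.2.1]
  · intro q _ hne
    by_contra hval
    have hfix : L.el τ0 • q = q := by
      by_contra hne'
      exact hval (CfsgLib.Transfer.fixedVal_of_ne _ _ hne')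
    have hm : q.out⁻¹ * L.el τ0 * q.out ∈ L.e.range := by
      rw [CfsgLib.Transfer.mem_iff_smul_eq, QuotientGroup.out_eq']; exact hfix
    obtain ⟨σ, hσ, hσe⟩ := L.mem_range.1 hm
    have hval' : bpar σ = -1 := by
      refine (Int.units_eq_one_or _).resolve_left fun e => hval ?_
      conv_lhs => rw [← QuotientGroup.out_eq' q]
      rw [CfsgLib.Transfer.fixedVal_of_mem _ _ hm,
        show (⟨q.out⁻¹ * L.el τ0 * q.out, hm⟩ : L.e.range) = ⟨L.el σ, L.el_mem hσ⟩ from
          Subtype.ext hσe.symm, phi_el L hσ, e]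
    have hσ2 : σ * σ = 1 := L.el_inj (S2.mul_mem hσ hσ) S2.one_mem (by
      rw [L.el_mul hσ hσ, L.el_one, hσe,
        show q.out⁻¹ * L.el τ0 * q.out * (q.out⁻¹ * L.el τ0 * q.out) =
          q.out⁻¹ * (L.el τ0 * L.el τ0) * q.out by group, hτ2, mul_one, inv_mul_cancel])
    obtain ⟨c, rfl⟩ := exists_mS hσ
    obtain ⟨d, hd⟩ := code_odd_invol c hval' hσ2
    have hsS : mS (d.1, d.2, 1) ∈ S2 :=
      SetupModel.S1_le_S2 (S1.mul_mem (jv_mem_S1 _) (wm_perm_mem _))
    have hconj : L.el (mS (d.1, d.2, 1) * mS c * (mS (d.1, d.2, 1))⁻¹) =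
        (q.out * (L.el (mS (d.1, d.2, 1)))⁻¹)⁻¹ * L.el τ0 *
          (q.out * (L.el (mS (d.1, d.2, 1)))⁻¹) := by
      rw [L.el_conj hsS hσ, hσe]; group
    rcases hd with e | e <;> rw [e] at hconj
    · have hmem : q.out * (L.el (mS (d.1, d.2, 1)))⁻¹ ∈ L.e.range := by
        refine hC (mem_centralizer_singleton_iff.2 ?_)
        generalize q.out * (L.el (mS (d.1, d.2, 1)))⁻¹ = w at hconj ⊢
        conv_lhs => rw [hconj]
        group
      have hq := mul_mem hmem (L.el_mem hsS)
      rw [inv_mul_cancel_right] at hq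
      apply hne
      rw [← QuotientGroup.out_eq' q, QuotientGroup.eq, mul_one]
      exact inv_mem hq
    · exact not_conj_tau L F (isConj_iff.2 ⟨(q.out * (L.el (mS (d.1, d.2, 1)))⁻¹)⁻¹, by
        rw [inv_inv]; exact hconj.symm⟩)

end CfsgLib.SNineThree.TwistAux
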